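import Mathlib
set_option linter.all false

/-!
# ODD D5: the involution centralizer of the alternating standard component (`R` of order two)

`Spl t A ι` : `C_G(t) = ⟨t⟩ × ι(A)`, `A` a subgroup of `Perm (Fin n)` (`A = alternatingGroup (Fin n)` or `⊤`).
`Gen t φ K` : `C_G(t)` modulo `⟨t⟩` embeds through `φ` in `Perm (Fin n)`, `K ≅ A_n` a normal subgroup of `C_G(t)` with
`t ∉ K`, `φ(K) = A_n`. `Iso t φ K`: moreover odd elements exist and their squares are outside of `K`.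

`Gen.cases`: the three possibilities.
-/

set_option autoImplicit false

namespace Cfsg.Agent.OddHalf.D5

open Subgroup Equiv

/-- The alternating group as a subgroup. -/
abbrev An (n : ℕ) : Subgroup (Perm (Fin n)) := alternatingGroup (Fin n)

variable {G : Type*} [Group G]

/-- `C_G(t) = ⟨t⟩ × ι(A)`. -/
structure Spl {n : ℕ} (t : G) (A : Subgroup (Perm (Fin n))) (ι : A →* G) : Prop where
  tt : t * t = 1
  t1 : t ≠ 1
  inj : Function.Injective ι
  comm : ∀ a, t * ι a = ι a * t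
  cent : ∀ g, g * t = t * g → (∃ a, g = ι a) ∨ ∃ a, g = t * ι a
  ne : ∀ a, ι a ≠ t

/-- The general situation. -/
structure Gen {n : ℕ} (t : G) (φ : centralizer ({t} : Set G) →* Perm (Fin n)) (K : Subgroup G) : Prop where
  tt : t * t = 1
  t1 : t ≠ 1
  ker : ∀ g, φ g = 1 ↔ (g : G) = 1 ∨ (g : G) = t
  le : K ≤ centralizer ({t} : Set G)
  norm : ∀ g, g * t = t * g → ∀ k ∈ K, g * k * g⁻¹ ∈ K
  notMem : t ∉ K
  surj : ∀ a ∈ An n, ∃ g : centralizer ({t} : Set G), (g : G) ∈ K ∧ φ g = a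
  even : ∀ g : centralizer ({t} : Set G), (g : G) ∈ K → φ g ∈ An n
  mem : ∀ g : centralizer ({t} : Set G), φ g ∈ An n → (g : G) ∈ K ∨ t * (g : G) ∈ K

/-- The isoclinic case: odd elements exist, their squares are in `tK`. -/
structure Iso {n : ℕ} (t : G) (φ : centralizer ({t} : Set G) →* Perm (Fin n)) (K : Subgroup G) : Prop
    extends Gen t φ K where
  odd : ∃ g, φ g ∉ An n
  sq : ∀ g, φ g ∉ An n → (g : G) * g ∉ K

namespace Spl

variable {n : ℕ} {t : G} {A : Subgroup (Perm (Fin n))} {ι : A →* G}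

theorem comm' (h : Spl t A ι) (a : A) : ι a * t = t * ι a := (h.comm a).symm

theorem t_inv (h : Spl t A ι) : t⁻¹ = t := inv_eq_of_mul_eq_one_left h.tt

theorem tne (h : Spl t A ι) (a b : A) : ι a ≠ t * ι b := by
  intro e
  apply h.ne (a * b⁻¹)
  rw [map_mul, map_inv, e, mul_assoc, mul_inv_cancel, mul_one]

/-- an element of `C(t)` is `ι a` or `t ι a`, not both -/
theorem cases (h : Spl t A ι) {g : G} (hg : g * t = t * g) :
    ∃ a : A, g = ι a ∨ g = t * ι a := by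
  rcases h.cent g hg with ⟨a, ha⟩ | ⟨a, ha⟩
  · exact ⟨a, Or.inl ha⟩
  · exact ⟨a, Or.inr ha⟩

theorem iota_eq_one (h : Spl t A ι) {a : A} (e : ι a = 1) : a = 1 :=
  h.inj (e.trans (map_one ι).symm)

/-- transport by conjugation -/
theorem conj (h : Spl t A ι) (x : G) :
    Spl (x * t * x⁻¹) A ((MulAut.conj x).toMonoidHom.comp ι) where
  tt := by
    calc x * t * x⁻¹ * (x * t * x⁻¹) = x * (t * t) * x⁻¹ := by group
      _ = 1 := by rw [h.tt]; group
  t1 := by
    intro e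
    apply h.t1
    rw [mul_inv_eq_one] at e
    exact mul_eq_left.1 e
  inj := (MulAut.conj x).injective.comp h.inj
  comm := by
    intro a
    show x * t * x⁻¹ * (x * ι a * x⁻¹) = x * ι a * x⁻¹ * (x * t * x⁻¹)
    calc x * t * x⁻¹ * (x * ι a * x⁻¹) = x * (t * ι a) * x⁻¹ := by group
      _ = x * (ι a * t) * x⁻¹ := by rw [h.comm a]
      _ = x * ι a * x⁻¹ * (x * t * x⁻¹) := by group
  cent := by
    intro g hg
    have h1 : (x⁻¹ * g * x) * t = t * (x⁻¹ * g * x) := by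
      calc (x⁻¹ * g * x) * t = x⁻¹ * (g * (x * t * x⁻¹)) * x := by group
        _ = x⁻¹ * (x * t * x⁻¹ * g) * x := by rw [hg]
        _ = t * (x⁻¹ * g * x) := by group
    rcases h.cent _ h1 with ⟨a, ha⟩ | ⟨a, ha⟩
    · left
      refine ⟨a, ?_⟩
      show g = x * ι a * x⁻¹
      rw [← ha]; group
    · right
      refine ⟨a, ?_⟩
      show g = x * t * x⁻¹ * (x * ι a * x⁻¹)
      calc g = x * (x⁻¹ * g * x) * x⁻¹ := by group
        _ = x * t * x⁻¹ * (x * ι a * x⁻¹) := by rw [ha]; group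
  ne := by
    intro a e
    apply h.ne a
    have e' : x * ι a * x⁻¹ = x * t * x⁻¹ := e
    exact mul_left_cancel (mul_right_cancel e')

/-- The other complement: `a ↦ t^{(sign a)} ι a`. -/
def twist (t : G) (h : t * t = 1) (ι : (⊤ : Subgroup (Perm (Fin n))) →* G)
    (hc : ∀ a, t * ι a = ι a * t) : (⊤ : Subgroup (Perm (Fin n))) →* G where
  toFun a := (if Perm.sign (a : Perm (Fin n)) = 1 then 1 else t) * ι a
  map_one' := by simp
  map_mul' := by
    intro a b
    rcases Int.units_eq_one_or (Perm.sign (a : Perm (Fin n))) with ha | ha <;>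
    rcases Int.units_eq_one_or (Perm.sign (b : Perm (Fin n))) with hb | hb
    · simp [ha, hb]
    · have : (-1 : ℤˣ) ≠ 1 := by decide
      simp only [Subgroup.coe_mul, map_mul, ha, hb, if_true, one_mul, if_neg this]
      rw [← mul_assoc, hc a, mul_assoc]
    · have : (-1 : ℤˣ) ≠ 1 := by decide
      simp only [Subgroup.coe_mul, map_mul, ha, hb, if_true, mul_one, if_neg this, mul_assoc, one_mul]
    · have : (-1 : ℤˣ) ≠ 1 := by decide
      have h2 : (-1 : ℤˣ) * -1 = 1 := by decide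
      simp only [Subgroup.coe_mul, map_mul, ha, hb, h2, if_true, if_neg this, one_mul]
      calc ι a * ι b = (t * t) * ι a * ι b := by rw [h, one_mul]
        _ = t * (t * ι a) * ι b := by group
        _ = t * (ι a * t) * ι b := by rw [hc a]
        _ = t * ι a * (t * ι b) := by group

theorem twist_apply (t : G) (h : t * t = 1) (ι : (⊤ : Subgroup (Perm (Fin n))) →* G)
    (hc : ∀ a, t * ι a = ι a * t) (a) :
    twist t h ι hc a = (if Perm.sign (a : Perm (Fin n)) = 1 then 1 else t) * ι a := rfl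

/-- the twisted complement is again a complement -/
theorem spl_twist {ι : (⊤ : Subgroup (Perm (Fin n))) →* G} (h : Spl t ⊤ ι) :
    Spl t ⊤ (twist t h.tt ι h.comm) where
  tt := h.tt
  t1 := h.t1
  inj := by
    rw [injective_iff_map_eq_one]
    intro a ha
    rw [twist_apply] at ha
    split_ifs at ha with hs
    · rw [one_mul] at ha
      exact h.iota_eq_one ha
    · exfalso
      apply h.ne a⁻¹
      rw [map_inv, ← mul_eq_one_iff_eq_inv.1 ha]
  comm := by
    intro a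
    rw [twist_apply]
    split_ifs
    · rw [one_mul, h.comm]
    · rw [mul_assoc, ← h.comm]
  cent := by
    intro g hg
    rcases h.cent g hg with ⟨a, ha⟩ | ⟨a, ha⟩
    · by_cases hs : Perm.sign (a : Perm (Fin n)) = 1
      · left; refine ⟨a, ?_⟩; rw [twist_apply, if_pos hs, one_mul, ha]
      · right; refine ⟨a, ?_⟩; rw [twist_apply, if_neg hs, ← mul_assoc, h.tt, one_mul, ha]
    · by_cases hs : Perm.sign (a : Perm (Fin n)) = 1
      · right; refine ⟨a, ?_⟩; rw [twist_apply, if_pos hs, one_mul, ha]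
      · left; refine ⟨a, ?_⟩; rw [twist_apply, if_neg hs, ha]
  ne := by
    intro a e
    rw [twist_apply] at e
    split_ifs at e with hs
    · rw [one_mul] at e; exact h.ne a e
    · have h1 : ι a = 1 := mul_eq_left.1 e
      have h2 := h.iota_eq_one h1
      rw [h2] at hs
      exact hs (by simp)

end Spl

namespace Gen

variable {n : ℕ} {t : G} {φ : centralizer ({t} : Set G) →* Perm (Fin n)} {K : Subgroup G}

theorem inj (h : Gen t φ K) {x y : centralizer ({t} : Set G)} (hx : (x : G) ∈ K) (hy : (y : G) ∈ K)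
    (e : φ x = φ y) : x = y := by
  have h1 : φ (x * y⁻¹) = 1 := by rw [map_mul, map_inv, e, mul_inv_cancel]
  have h2 : ((x * y⁻¹ : centralizer ({t} : Set G)) : G) ∈ K := K.mul_mem hx (K.inv_mem hy)
  rcases (h.ker _).1 h1 with h3 | h3
  · exact mul_inv_eq_one.1 (Subtype.ext h3)
  · rw [h3] at h2; exact absurd h2 h.notMem

theorem tmem : t ∈ centralizer ({t} : Set G) := mem_centralizer_singleton_iff.2 rfl

theorem φt (h : Gen t φ K) : φ ⟨t, tmem⟩ = 1 := (h.ker _).2 (Or.inr rfl)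

theorem φt_mul (h : Gen t φ K) (g : centralizer ({t} : Set G)) : φ (⟨t, tmem⟩ * g) = φ g := by
  rw [map_mul, h.φt, one_mul]

/-- a subgroup of `C(t)` mapped bijectively onto `A` is a complement of `⟨t⟩` -/
theorem spl_of (h : Gen t φ K) (A : Subgroup (Perm (Fin n))) (S : Subgroup G)
    (htS : t ∉ S)
    (hsurj : ∀ a ∈ A, ∃ g : centralizer ({t} : Set G), (g : G) ∈ S ∧ φ g = a)
    (hA : ∀ g : centralizer ({t} : Set G), φ g ∈ A) :
    ∃ ι : A →* G, Spl t A ι ∧ (∀ a, ι a ∈ S) ∧ ∀ a, ∃ h : ι a ∈ centralizer ({t} : Set G), φ ⟨ι a, h⟩ = a := by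
  have inj : ∀ {x y : centralizer ({t} : Set G)}, (x : G) ∈ S → (y : G) ∈ S → φ x = φ y → x = y := by
    intro x y hx hy e
    have h1 : φ (x * y⁻¹) = 1 := by rw [map_mul, map_inv, e, mul_inv_cancel]
    have h2 : ((x * y⁻¹ : centralizer ({t} : Set G)) : G) ∈ S := S.mul_mem hx (S.inv_mem hy)
    rcases (h.ker _).1 h1 with h3 | h3
    · exact mul_inv_eq_one.1 (Subtype.ext h3)
    · rw [h3] at h2; exact absurd h2 htS
  choose f hf1 hf2 using hsurj
  have hmul : ∀ a b : A, f (a * b : A) (a * b : A).2 = f a a.2 * f b b.2 := by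
    intro a b
    apply inj (hf1 _ _) (S.mul_mem (hf1 _ _) (hf1 _ _))
    rw [hf2, map_mul, hf2, hf2]
    rfl
  refine ⟨{ toFun := fun a => (f a a.2 : G), map_one' := ?_, map_mul' := ?_ }, ?_, ?_, ?_⟩
  · have h1 : f (1 : A) (1 : A).2 = 1 := by
      apply inj (hf1 _ _) S.one_mem
      rw [hf2, map_one]; rfl
    show ((f (1 : A) (1 : A).2 : centralizer ({t} : Set G)) : G) = 1
    rw [h1]; rfl
  · intro a b
    show ((f (a * b : A) (a * b : A).2 : centralizer ({t} : Set G)) : G) = _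
    rw [hmul]; rfl
  · refine ⟨h.tt, h.t1, ?_, ?_, ?_, ?_⟩
    · intro a b e
      have e' : f a a.2 = f b b.2 := Subtype.ext e
      have := congrArg φ e'
      rw [hf2, hf2] at this
      exact Subtype.ext this
    · intro a
      exact (mem_centralizer_singleton_iff.1 (f a a.2).2).symm
    · intro g hg
      have hg' : g ∈ centralizer ({t} : Set G) := mem_centralizer_singleton_iff.2 hg
      set a : A := ⟨φ ⟨g, hg'⟩, hA _⟩ with ha
      have h1 : φ (⟨g, hg'⟩ * (f a a.2)⁻¹) = 1 := by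
        rw [map_mul, map_inv, hf2, mul_inv_cancel]
      rcases (h.ker _).1 h1 with h2 | h2
      · left
        refine ⟨a, ?_⟩
        exact mul_inv_eq_one.1 h2
      · right
        refine ⟨a, ?_⟩
        exact mul_inv_eq_iff_eq_mul.1 h2
    · intro a e
      apply htS
      have e' : ((f a a.2 : centralizer ({t} : Set G)) : G) = t := e
      rw [← e']
      exact hf1 _ _
  · intro a
    exact hf1 _ _
  · intro a
    refine ⟨(f a a.2).2, ?_⟩
    exact hf2 _ _

/-- the clean case -/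
theorem clean (h : Gen t φ K) (hA : ∀ g : centralizer ({t} : Set G), φ g ∈ An n) :
    ∃ ι : An n →* G, Spl t (An n) ι ∧ (∀ a, ι a ∈ K) ∧
      ∀ a, ∃ h : ι a ∈ centralizer ({t} : Set G), φ ⟨ι a, h⟩ = a :=
  h.spl_of (An n) K h.notMem h.surj hA

theorem norm_inv (h : Gen t φ K) {g : G} (hg : g * t = t * g) {k : G} (hk : k ∈ K) : g⁻¹ * k * g ∈ K := by
  have hg' : g⁻¹ * t = t * g⁻¹ := by
    rw [inv_mul_eq_iff_eq_mul, ← mul_assoc, hg, mul_inv_cancel_right]
  have := h.norm g⁻¹ hg' k hk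
  rwa [inv_inv] at this

theorem not_mem_iff {σ : Perm (Fin n)} : σ ∉ An n ↔ Perm.sign σ = -1 := by
  rw [Perm.mem_alternatingGroup]
  rcases Int.units_eq_one_or (Perm.sign σ) with h | h
  · rw [h]; decide
  · rw [h]; decide

/-- the subgroup `K ∪ Kg` -/
def halfSub (h : Gen t φ K) (g : centralizer ({t} : Set G)) (hg : φ g ∉ An n) (hgg : (g : G) * g ∈ K) :
    Subgroup G where
  carrier := {x | ∃ hx : x ∈ centralizer ({t} : Set G), (φ ⟨x, hx⟩ ∈ An n ∧ x ∈ K) ∨
    (φ ⟨x, hx⟩ ∉ An n ∧ x * (g : G)⁻¹ ∈ K)}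
  one_mem' := ⟨one_mem _, Or.inl ⟨by
    have : (⟨1, one_mem _⟩ : centralizer ({t} : Set G)) = 1 := rfl
    rw [this, map_one]; exact one_mem _, one_mem _⟩⟩
  mul_mem' := by
    rintro x y ⟨hx, hx'⟩ ⟨hy, hy'⟩
    have hgt := mem_centralizer_singleton_iff.1 g.2
    have e : (⟨x * y, mul_mem hx hy⟩ : centralizer ({t} : Set G)) = ⟨x, hx⟩ * ⟨y, hy⟩ := rfl
    refine ⟨mul_mem hx hy, ?_⟩
    rw [e, map_mul]
    rcases hx' with ⟨h1, h2⟩ | ⟨h1, h2⟩ <;> rcases hy' with ⟨h3, h4⟩ | ⟨h3, h4⟩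
    · exact Or.inl ⟨mul_mem h1 h3, mul_mem h2 h4⟩
    · refine Or.inr ⟨?_, ?_⟩
      · rw [not_mem_iff] at h3 ⊢
        rw [Perm.sign_mul, Perm.mem_alternatingGroup.1 h1, h3, one_mul]
      · rw [mul_assoc]; exact mul_mem h2 h4
    · refine Or.inr ⟨?_, ?_⟩
      · rw [not_mem_iff] at h1 ⊢
        rw [Perm.sign_mul, Perm.mem_alternatingGroup.1 h3, h1, mul_one]
      · have e1 : x * y * (g : G)⁻¹ = (x * (g : G)⁻¹) * (g * y * (g : G)⁻¹) := by group
        rw [e1]; exact mul_mem h2 (h.norm _ hgt _ h4)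
    · refine Or.inl ⟨?_, ?_⟩
      · rw [not_mem_iff] at h1 h3
        rw [Perm.mem_alternatingGroup, Perm.sign_mul, h1, h3]; decide
      · have e1 : x * y = (x * (g : G)⁻¹) * (g * (y * (g : G)⁻¹) * (g : G)⁻¹) * ((g : G) * g) := by group
        rw [e1]; exact mul_mem (mul_mem h2 (h.norm _ hgt _ h4)) hgg
  inv_mem' := by
    rintro x ⟨hx, hx'⟩
    have hgt := mem_centralizer_singleton_iff.1 g.2
    have e : (⟨x⁻¹, inv_mem hx⟩ : centralizer ({t} : Set G)) = ⟨x, hx⟩⁻¹ := rfl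
    refine ⟨inv_mem hx, ?_⟩
    rw [e, map_inv]
    rcases hx' with ⟨h1, h2⟩ | ⟨h1, h2⟩
    · exact Or.inl ⟨inv_mem h1, inv_mem h2⟩
    · refine Or.inr ⟨?_, ?_⟩
      · rw [not_mem_iff] at h1 ⊢
        rw [Perm.sign_inv, h1]
      · have e1 : x⁻¹ * (g : G)⁻¹ = (g : G)⁻¹ * (x * (g : G)⁻¹)⁻¹ * g * ((g : G) * g)⁻¹ := by group
        rw [e1]; exact mul_mem (h.norm_inv hgt (inv_mem h2)) (inv_mem hgg)

/-- the case `⟨t⟩ × S_n` -/
theorem sym (h : Gen t φ K) (g : centralizer ({t} : Set G)) (hg : φ g ∉ An n) (hgg : (g : G) * g ∈ K) :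
    ∃ ι : (⊤ : Subgroup (Perm (Fin n))) →* G, Spl t ⊤ ι ∧
      (∀ a : (⊤ : Subgroup (Perm (Fin n))), (a : Perm (Fin n)) ∈ An n → ι a ∈ K) ∧
      ∀ a, ∃ h : ι a ∈ centralizer ({t} : Set G), φ ⟨ι a, h⟩ = a := by
  have hgt := mem_centralizer_singleton_iff.1 g.2
  obtain ⟨ι, h1, h2, h3⟩ := h.spl_of ⊤ (h.halfSub g hg hgg) (by
    rintro ⟨hx, ⟨h1, h2⟩ | ⟨h1, h2⟩⟩
    · exact h.notMem h2
    · exact h1 (by rw [h.φt]; exact one_mem _)) (by
    intro a _
    by_cases ha : a ∈ An n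
    · obtain ⟨x, hx1, hx2⟩ := h.surj a ha
      exact ⟨x, ⟨x.2, Or.inl ⟨by rw [hx2]; exact ha, hx1⟩⟩, hx2⟩
    · have h4 : a * (φ g)⁻¹ ∈ An n := by
        rw [not_mem_iff] at ha hg
        rw [Perm.mem_alternatingGroup, Perm.sign_mul, Perm.sign_inv, ha, hg]; decide
      obtain ⟨x, hx1, hx2⟩ := h.surj _ h4
      have h5 : φ (x * g) = a := by rw [map_mul, hx2, inv_mul_cancel_right]
      refine ⟨x * g, ⟨(x * g).2, Or.inr ⟨by rw [h5]; exact ha, ?_⟩⟩, h5⟩
      have : ((x * g : centralizer ({t} : Set G)) : G) * (g : G)⁻¹ = x := mul_inv_cancel_right _ _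
      rw [this]; exact hx1) (fun _ => mem_top _)
  refine ⟨ι, h1, ?_, h3⟩
  intro a ha
  obtain ⟨hx, h5⟩ := h3 a
  obtain ⟨hx', ⟨h6, h7⟩ | ⟨h6, h7⟩⟩ := h2 a
  · exact h7
  · exact absurd (by rw [h5]; exact ha) h6

/-- the trichotomy -/
theorem tri (h : Gen t φ K) : (∀ g : centralizer ({t} : Set G), φ g ∈ An n) ∨
    (∃ g : centralizer ({t} : Set G), φ g ∉ An n ∧ (g : G) * g ∈ K) ∨ Iso t φ K := by
  by_cases h1 : ∀ g : centralizer ({t} : Set G), φ g ∈ An n
  · exact Or.inl h1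
  right
  push Not at h1
  by_cases h2 : ∃ g : centralizer ({t} : Set G), φ g ∉ An n ∧ (g : G) * g ∈ K
  · exact Or.inl h2
  right
  push Not at h2
  exact { h with odd := h1, sq := h2 }

end Gen

end Cfsg.Agent.OddHalf.D5
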