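import Cfsg.Agent.OddHalf.SpTwo.EndCOP_m3
import Cfsg.Agent.Lib.MatDec
import Cfsg.Agent.OddHalf.Clean
import Cfsg.Agent.LieClassical.SLFourTwo
import Mathlib
import Cfsg.Agent.KFacts.TwF4.TorFix
import Cfsg.Agent.OddHalf.Quat.NoThreeSpor.J1
import Cfsg.Agent.KFacts.RgdRigid
import Cfsg.Agent.KFacts.RgdEx
import Cfsg.Agent.Nodes.RGDChev
import Cfsg.Agent.OddHalf.D4.Basic
import Cfsg.Agent.OddHalf.D9.KillAny_m3
import Cfsg.Agent.FastGrp
import Cfsg.Agent.Prune
set_option linter.all false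

section
prune_inst 0x7f00000000000000000000000000000000000000000000000000000000000000000000000000000000000000000000000000000000000000000000000000000000000000000000000000000000000000003fffffffffffffffffffffffffffbeffbdffffffff

-- part: OddHalf/D5/EightMatB
section
set_option linter.all false
open scoped Cfsg.Agent.FastGrp

/-!
# `SL₄(2)`: facts on the centraliser of a transvection (helper401)
-/

set_option autoImplicit false
set_option Elab.async false

namespace Cfsg.Agent.OddHalf.D5.EightMatB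

open Matrix EightMat

/-- an element of order 3 of `C(z)` -/
def rho : S4 := tv 1 2 * tv 2 1

theorem rho3 : rho * rho * rho = 1 := by decide +kernel

theorem rho_ne : rho ≠ 1 := by decide +kernel

/-- the third element -/
def cc : S4 := tv 0 2 * tv 1 3 * tv 0 3

theorem p3_aux_0 : ∀ (a b c d e : Bool),
    pe 0 a b c d e * pe 0 a b c d e = 1 → pe 0 a b c d e * tv 1 2 = tv 1 2 * pe 0 a b c d e →
    pe 0 a b c d e * (rho * pe 0 a b c d e * (rho * rho)) * ((rho * rho) * pe 0 a b c d e * rho) = 1 →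
    pe 0 a b c d e = 1 ∨ pe 0 a b c d e = tv 0 2 ∨ pe 0 a b c d e = tv 1 3 ∨ pe 0 a b c d e = cc := by
  (delta Cfsg.Agent.OddHalf.D5.EightMat.pe Cfsg.Agent.OddHalf.D5.EightMatB.rho Cfsg.Agent.OddHalf.D5.EightMatB.cc Cfsg.Agent.OddHalf.D5.EightMat.mm; set_option synthInstance.maxSize 20000 in open scoped Cfsg.Agent.Lib.MatDec in decide +kernel)

theorem p3_aux_1 : ∀ (a b c d e : Bool),
    pe 1 a b c d e * pe 1 a b c d e = 1 → pe 1 a b c d e * tv 1 2 = tv 1 2 * pe 1 a b c d e →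
    pe 1 a b c d e * (rho * pe 1 a b c d e * (rho * rho)) * ((rho * rho) * pe 1 a b c d e * rho) = 1 →
    pe 1 a b c d e = 1 ∨ pe 1 a b c d e = tv 0 2 ∨ pe 1 a b c d e = tv 1 3 ∨ pe 1 a b c d e = cc := by
  (delta Cfsg.Agent.OddHalf.D5.EightMat.pe Cfsg.Agent.OddHalf.D5.EightMatB.rho Cfsg.Agent.OddHalf.D5.EightMatB.cc Cfsg.Agent.OddHalf.D5.EightMat.mm; set_option synthInstance.maxSize 20000 in open scoped Cfsg.Agent.Lib.MatDec in decide +kernel)

theorem p3_aux_2 : ∀ (a b c d e : Bool),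
    pe 2 a b c d e * pe 2 a b c d e = 1 → pe 2 a b c d e * tv 1 2 = tv 1 2 * pe 2 a b c d e →
    pe 2 a b c d e * (rho * pe 2 a b c d e * (rho * rho)) * ((rho * rho) * pe 2 a b c d e * rho) = 1 →
    pe 2 a b c d e = 1 ∨ pe 2 a b c d e = tv 0 2 ∨ pe 2 a b c d e = tv 1 3 ∨ pe 2 a b c d e = cc := by
  (delta Cfsg.Agent.OddHalf.D5.EightMat.pe Cfsg.Agent.OddHalf.D5.EightMatB.rho Cfsg.Agent.OddHalf.D5.EightMatB.cc Cfsg.Agent.OddHalf.D5.EightMat.mm; set_option synthInstance.maxSize 20000 in open scoped Cfsg.Agent.Lib.MatDec in decide +kernel)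

theorem p3_aux_3 : ∀ (a b c d e : Bool),
    pe 3 a b c d e * pe 3 a b c d e = 1 → pe 3 a b c d e * tv 1 2 = tv 1 2 * pe 3 a b c d e →
    pe 3 a b c d e * (rho * pe 3 a b c d e * (rho * rho)) * ((rho * rho) * pe 3 a b c d e * rho) = 1 →
    pe 3 a b c d e = 1 ∨ pe 3 a b c d e = tv 0 2 ∨ pe 3 a b c d e = tv 1 3 ∨ pe 3 a b c d e = cc := by
  (delta Cfsg.Agent.OddHalf.D5.EightMat.pe Cfsg.Agent.OddHalf.D5.EightMatB.rho Cfsg.Agent.OddHalf.D5.EightMatB.cc Cfsg.Agent.OddHalf.D5.EightMat.mm; set_option synthInstance.maxSize 20000 in open scoped Cfsg.Agent.Lib.MatDec in decide +kernel)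

theorem p3_aux_4 : ∀ (a b c d e : Bool),
    pe 4 a b c d e * pe 4 a b c d e = 1 → pe 4 a b c d e * tv 1 2 = tv 1 2 * pe 4 a b c d e →
    pe 4 a b c d e * (rho * pe 4 a b c d e * (rho * rho)) * ((rho * rho) * pe 4 a b c d e * rho) = 1 →
    pe 4 a b c d e = 1 ∨ pe 4 a b c d e = tv 0 2 ∨ pe 4 a b c d e = tv 1 3 ∨ pe 4 a b c d e = cc := by
  (delta Cfsg.Agent.OddHalf.D5.EightMat.pe Cfsg.Agent.OddHalf.D5.EightMatB.rho Cfsg.Agent.OddHalf.D5.EightMatB.cc Cfsg.Agent.OddHalf.D5.EightMat.mm; set_option synthInstance.maxSize 20000 in open scoped Cfsg.Agent.Lib.MatDec in decide +kernel)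

theorem p3_aux_5 : ∀ (a b c d e : Bool),
    pe 5 a b c d e * pe 5 a b c d e = 1 → pe 5 a b c d e * tv 1 2 = tv 1 2 * pe 5 a b c d e →
    pe 5 a b c d e * (rho * pe 5 a b c d e * (rho * rho)) * ((rho * rho) * pe 5 a b c d e * rho) = 1 →
    pe 5 a b c d e = 1 ∨ pe 5 a b c d e = tv 0 2 ∨ pe 5 a b c d e = tv 1 3 ∨ pe 5 a b c d e = cc := by
  (delta Cfsg.Agent.OddHalf.D5.EightMat.pe Cfsg.Agent.OddHalf.D5.EightMatB.rho Cfsg.Agent.OddHalf.D5.EightMatB.cc Cfsg.Agent.OddHalf.D5.EightMat.mm; set_option synthInstance.maxSize 20000 in open scoped Cfsg.Agent.Lib.MatDec in decide +kernel)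

theorem p3_aux : ∀ (m : Fin 6) (a b c d e : Bool),
    pe m a b c d e * pe m a b c d e = 1 → pe m a b c d e * tv 1 2 = tv 1 2 * pe m a b c d e →
    pe m a b c d e * (rho * pe m a b c d e * (rho * rho)) * ((rho * rho) * pe m a b c d e * rho) = 1 →
    pe m a b c d e = 1 ∨ pe m a b c d e = tv 0 2 ∨ pe m a b c d e = tv 1 3 ∨ pe m a b c d e = cc
  | ⟨0, _⟩ => p3_aux_0
  | ⟨1, _⟩ => p3_aux_1
  | ⟨2, _⟩ => p3_aux_2
  | ⟨3, _⟩ => p3_aux_3
  | ⟨4, _⟩ => p3_aux_4
  | ⟨5, _⟩ => p3_aux_5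
  | ⟨n + 6, h⟩ => absurd h (by omega)

/-- the `ρ`-modules -/
theorem p3 {p : S4} (hz : p * tv 0 3 = tv 0 3 * p) (h2 : p * p = 1) (hs : p * tv 1 2 = tv 1 2 * p)
    (h3 : p * (rho * p * (rho * rho)) * ((rho * rho) * p * rho) = 1) :
    p = 1 ∨ p = tv 0 2 ∨ p = tv 1 3 ∨ p = cc := by
  obtain ⟨m, a, b, c, d, e, rfl⟩ := exists_pe hz
  exact p3_aux m a b c d e h2 hs h3

theorem p2_aux_0 : ∀ (a b c d e : Bool),
    pe 0 a b c d e * rho = rho * pe 0 a b c d e →
    ∃ (f g : Bool), pe 0 a b c d e = pw (tv 0 3) f * pw rho g ∨ pe 0 a b c d e = pw (tv 0 3) f * (rho * rho) := by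
  (delta Cfsg.Agent.OddHalf.D5.EightMat.pe Cfsg.Agent.OddHalf.D5.EightMatB.rho Cfsg.Agent.OddHalf.D5.EightMat.mm; set_option synthInstance.maxSize 20000 in open scoped Cfsg.Agent.Lib.MatDec in decide +kernel)

theorem p2_aux_1 : ∀ (a b c d e : Bool),
    pe 1 a b c d e * rho = rho * pe 1 a b c d e →
    ∃ (f g : Bool), pe 1 a b c d e = pw (tv 0 3) f * pw rho g ∨ pe 1 a b c d e = pw (tv 0 3) f * (rho * rho) := by
  (delta Cfsg.Agent.OddHalf.D5.EightMat.pe Cfsg.Agent.OddHalf.D5.EightMatB.rho Cfsg.Agent.OddHalf.D5.EightMat.mm; set_option synthInstance.maxSize 20000 in open scoped Cfsg.Agent.Lib.MatDec in decide +kernel)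

theorem p2_aux_2 : ∀ (a b c d e : Bool),
    pe 2 a b c d e * rho = rho * pe 2 a b c d e →
    ∃ (f g : Bool), pe 2 a b c d e = pw (tv 0 3) f * pw rho g ∨ pe 2 a b c d e = pw (tv 0 3) f * (rho * rho) := by
  (delta Cfsg.Agent.OddHalf.D5.EightMat.pe Cfsg.Agent.OddHalf.D5.EightMatB.rho Cfsg.Agent.OddHalf.D5.EightMat.mm; set_option synthInstance.maxSize 20000 in open scoped Cfsg.Agent.Lib.MatDec in decide +kernel)

theorem p2_aux_3 : ∀ (a b c d e : Bool),
    pe 3 a b c d e * rho = rho * pe 3 a b c d e →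
    ∃ (f g : Bool), pe 3 a b c d e = pw (tv 0 3) f * pw rho g ∨ pe 3 a b c d e = pw (tv 0 3) f * (rho * rho) := by
  (delta Cfsg.Agent.OddHalf.D5.EightMat.pe Cfsg.Agent.OddHalf.D5.EightMatB.rho Cfsg.Agent.OddHalf.D5.EightMat.mm; set_option synthInstance.maxSize 20000 in open scoped Cfsg.Agent.Lib.MatDec in decide +kernel)

theorem p2_aux_4 : ∀ (a b c d e : Bool),
    pe 4 a b c d e * rho = rho * pe 4 a b c d e →
    ∃ (f g : Bool), pe 4 a b c d e = pw (tv 0 3) f * pw rho g ∨ pe 4 a b c d e = pw (tv 0 3) f * (rho * rho) := by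
  (delta Cfsg.Agent.OddHalf.D5.EightMat.pe Cfsg.Agent.OddHalf.D5.EightMatB.rho Cfsg.Agent.OddHalf.D5.EightMat.mm; set_option synthInstance.maxSize 20000 in open scoped Cfsg.Agent.Lib.MatDec in decide +kernel)

theorem p2_aux_5 : ∀ (a b c d e : Bool),
    pe 5 a b c d e * rho = rho * pe 5 a b c d e →
    ∃ (f g : Bool), pe 5 a b c d e = pw (tv 0 3) f * pw rho g ∨ pe 5 a b c d e = pw (tv 0 3) f * (rho * rho) := by
  (delta Cfsg.Agent.OddHalf.D5.EightMat.pe Cfsg.Agent.OddHalf.D5.EightMatB.rho Cfsg.Agent.OddHalf.D5.EightMat.mm; set_option synthInstance.maxSize 20000 in open scoped Cfsg.Agent.Lib.MatDec in decide +kernel)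

theorem p2_aux : ∀ (m : Fin 6) (a b c d e : Bool),
    pe m a b c d e * rho = rho * pe m a b c d e →
    ∃ (f g : Bool), pe m a b c d e = pw (tv 0 3) f * pw rho g ∨ pe m a b c d e = pw (tv 0 3) f * (rho * rho)
  | ⟨0, _⟩ => p2_aux_0
  | ⟨1, _⟩ => p2_aux_1
  | ⟨2, _⟩ => p2_aux_2
  | ⟨3, _⟩ => p2_aux_3
  | ⟨4, _⟩ => p2_aux_4
  | ⟨5, _⟩ => p2_aux_5
  | ⟨n + 6, h⟩ => absurd h (by omega)

/-- the centraliser of `ρ` in `C(z)` -/
theorem p2 {p : S4} (hz : p * tv 0 3 = tv 0 3 * p) (h : p * rho = rho * p) :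
    ∃ z r : S4, (z = 1 ∨ z = tv 0 3) ∧ (r = 1 ∨ r = rho ∨ r = rho * rho) ∧ p = z * r := by
  obtain ⟨m, a, b, c, d, e, rfl⟩ := exists_pe hz
  obtain ⟨f, g, h1 | h1⟩ := p2_aux m a b c d e h
  · refine ⟨_, _, ?_, ?_, h1⟩
    · cases f
      · exact Or.inl rfl
      · exact Or.inr rfl
    · cases g
      · exact Or.inl rfl
      · exact Or.inr (Or.inl rfl)
  · refine ⟨_, _, ?_, Or.inr (Or.inr rfl), h1⟩
    cases f
    · exact Or.inl rfl
    · exact Or.inr rfl

theorem p1_aux_0 : ∀ (a b c d e : Bool),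
    pe 0 a b c d e * pe 0 a b c d e * pe 0 a b c d e = 1 → pe 0 a b c d e ≠ 1 →
    ∃ (m' : Fin 2) (a' b' c' d' e' : Bool), pe (if m' = 0 then 0 else 1) a' b' c' d' e' * pe 0 a b c d e =
      rho * pe (if m' = 0 then 0 else 1) a' b' c' d' e' := by
  (delta Cfsg.Agent.OddHalf.D5.EightMat.pe Cfsg.Agent.OddHalf.D5.EightMatB.rho Cfsg.Agent.OddHalf.D5.EightMat.mm; set_option synthInstance.maxSize 20000 in open scoped Cfsg.Agent.Lib.MatDec in (simp only [Cfsg.Agent.Lib.MatDec.sw_dec, Cfsg.Agent.Lib.MatDec.sw_ite, Cfsg.Agent.Lib.MatDec.sw_beq, Cfsg.Agent.Lib.MatDec.sw_bne]; decide +kernel))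

theorem p1_aux_1 : ∀ (a b c d e : Bool),
    pe 1 a b c d e * pe 1 a b c d e * pe 1 a b c d e = 1 → pe 1 a b c d e ≠ 1 →
    ∃ (m' : Fin 2) (a' b' c' d' e' : Bool), pe (if m' = 0 then 0 else 1) a' b' c' d' e' * pe 1 a b c d e =
      rho * pe (if m' = 0 then 0 else 1) a' b' c' d' e' := by
  (delta Cfsg.Agent.OddHalf.D5.EightMat.pe Cfsg.Agent.OddHalf.D5.EightMatB.rho Cfsg.Agent.OddHalf.D5.EightMat.mm; set_option synthInstance.maxSize 20000 in open scoped Cfsg.Agent.Lib.MatDec in (simp only [Cfsg.Agent.Lib.MatDec.sw_dec, Cfsg.Agent.Lib.MatDec.sw_ite, Cfsg.Agent.Lib.MatDec.sw_beq, Cfsg.Agent.Lib.MatDec.sw_bne]; decide +kernel))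

theorem p1_aux_2 : ∀ (a b c d e : Bool),
    pe 2 a b c d e * pe 2 a b c d e * pe 2 a b c d e = 1 → pe 2 a b c d e ≠ 1 →
    ∃ (m' : Fin 2) (a' b' c' d' e' : Bool), pe (if m' = 0 then 0 else 1) a' b' c' d' e' * pe 2 a b c d e =
      rho * pe (if m' = 0 then 0 else 1) a' b' c' d' e' := by
  (delta Cfsg.Agent.OddHalf.D5.EightMat.pe Cfsg.Agent.OddHalf.D5.EightMatB.rho Cfsg.Agent.OddHalf.D5.EightMat.mm; set_option synthInstance.maxSize 20000 in open scoped Cfsg.Agent.Lib.MatDec in (simp only [Cfsg.Agent.Lib.MatDec.sw_dec, Cfsg.Agent.Lib.MatDec.sw_ite, Cfsg.Agent.Lib.MatDec.sw_beq, Cfsg.Agent.Lib.MatDec.sw_bne]; decide +kernel))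

theorem p1_aux_3 : ∀ (a b c d e : Bool),
    pe 3 a b c d e * pe 3 a b c d e * pe 3 a b c d e = 1 → pe 3 a b c d e ≠ 1 →
    ∃ (m' : Fin 2) (a' b' c' d' e' : Bool), pe (if m' = 0 then 0 else 1) a' b' c' d' e' * pe 3 a b c d e =
      rho * pe (if m' = 0 then 0 else 1) a' b' c' d' e' := by
  (delta Cfsg.Agent.OddHalf.D5.EightMat.pe Cfsg.Agent.OddHalf.D5.EightMatB.rho Cfsg.Agent.OddHalf.D5.EightMat.mm; set_option synthInstance.maxSize 20000 in open scoped Cfsg.Agent.Lib.MatDec in (simp only [Cfsg.Agent.Lib.MatDec.sw_dec, Cfsg.Agent.Lib.MatDec.sw_ite, Cfsg.Agent.Lib.MatDec.sw_beq, Cfsg.Agent.Lib.MatDec.sw_bne]; decide +kernel))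

theorem p1_aux_4 : ∀ (a b c d e : Bool),
    pe 4 a b c d e * pe 4 a b c d e * pe 4 a b c d e = 1 → pe 4 a b c d e ≠ 1 →
    ∃ (m' : Fin 2) (a' b' c' d' e' : Bool), pe (if m' = 0 then 0 else 1) a' b' c' d' e' * pe 4 a b c d e =
      rho * pe (if m' = 0 then 0 else 1) a' b' c' d' e' := by
  (delta Cfsg.Agent.OddHalf.D5.EightMat.pe Cfsg.Agent.OddHalf.D5.EightMatB.rho Cfsg.Agent.OddHalf.D5.EightMat.mm; set_option synthInstance.maxSize 20000 in open scoped Cfsg.Agent.Lib.MatDec in (simp only [Cfsg.Agent.Lib.MatDec.sw_dec, Cfsg.Agent.Lib.MatDec.sw_ite, Cfsg.Agent.Lib.MatDec.sw_beq, Cfsg.Agent.Lib.MatDec.sw_bne]; decide +kernel))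

theorem p1_aux_5 : ∀ (a b c d e : Bool),
    pe 5 a b c d e * pe 5 a b c d e * pe 5 a b c d e = 1 → pe 5 a b c d e ≠ 1 →
    ∃ (m' : Fin 2) (a' b' c' d' e' : Bool), pe (if m' = 0 then 0 else 1) a' b' c' d' e' * pe 5 a b c d e =
      rho * pe (if m' = 0 then 0 else 1) a' b' c' d' e' := by
  (delta Cfsg.Agent.OddHalf.D5.EightMat.pe Cfsg.Agent.OddHalf.D5.EightMatB.rho Cfsg.Agent.OddHalf.D5.EightMat.mm; set_option synthInstance.maxSize 20000 in open scoped Cfsg.Agent.Lib.MatDec in (simp only [Cfsg.Agent.Lib.MatDec.sw_dec, Cfsg.Agent.Lib.MatDec.sw_ite, Cfsg.Agent.Lib.MatDec.sw_beq, Cfsg.Agent.Lib.MatDec.sw_bne]; decide +kernel))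

theorem p1_aux : ∀ (m : Fin 6) (a b c d e : Bool),
    pe m a b c d e * pe m a b c d e * pe m a b c d e = 1 → pe m a b c d e ≠ 1 →
    ∃ (m' : Fin 2) (a' b' c' d' e' : Bool), pe (if m' = 0 then 0 else 1) a' b' c' d' e' * pe m a b c d e =
      rho * pe (if m' = 0 then 0 else 1) a' b' c' d' e'
  | ⟨0, _⟩ => p1_aux_0
  | ⟨1, _⟩ => p1_aux_1
  | ⟨2, _⟩ => p1_aux_2
  | ⟨3, _⟩ => p1_aux_3
  | ⟨4, _⟩ => p1_aux_4
  | ⟨5, _⟩ => p1_aux_5
  | ⟨n + 6, h⟩ => absurd h (by omega)

theorem pe_comm_0 : ∀ (a b c d e : Bool),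
    pe 0 a b c d e * tv 0 3 = tv 0 3 * pe 0 a b c d e := by
  (delta Cfsg.Agent.OddHalf.D5.EightMat.pe Cfsg.Agent.OddHalf.D5.EightMat.mm; set_option synthInstance.maxSize 20000 in open scoped Cfsg.Agent.Lib.MatDec in decide +kernel)

theorem pe_comm_1 : ∀ (a b c d e : Bool),
    pe 1 a b c d e * tv 0 3 = tv 0 3 * pe 1 a b c d e := by
  (delta Cfsg.Agent.OddHalf.D5.EightMat.pe Cfsg.Agent.OddHalf.D5.EightMat.mm; set_option synthInstance.maxSize 20000 in open scoped Cfsg.Agent.Lib.MatDec in decide +kernel)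

theorem pe_comm_2 : ∀ (a b c d e : Bool),
    pe 2 a b c d e * tv 0 3 = tv 0 3 * pe 2 a b c d e := by
  (delta Cfsg.Agent.OddHalf.D5.EightMat.pe Cfsg.Agent.OddHalf.D5.EightMat.mm; set_option synthInstance.maxSize 20000 in open scoped Cfsg.Agent.Lib.MatDec in decide +kernel)

theorem pe_comm_3 : ∀ (a b c d e : Bool),
    pe 3 a b c d e * tv 0 3 = tv 0 3 * pe 3 a b c d e := by
  (delta Cfsg.Agent.OddHalf.D5.EightMat.pe Cfsg.Agent.OddHalf.D5.EightMat.mm; set_option synthInstance.maxSize 20000 in open scoped Cfsg.Agent.Lib.MatDec in decide +kernel)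

theorem pe_comm_4 : ∀ (a b c d e : Bool),
    pe 4 a b c d e * tv 0 3 = tv 0 3 * pe 4 a b c d e := by
  (delta Cfsg.Agent.OddHalf.D5.EightMat.pe Cfsg.Agent.OddHalf.D5.EightMat.mm; set_option synthInstance.maxSize 20000 in open scoped Cfsg.Agent.Lib.MatDec in decide +kernel)

theorem pe_comm_5 : ∀ (a b c d e : Bool),
    pe 5 a b c d e * tv 0 3 = tv 0 3 * pe 5 a b c d e := by
  (delta Cfsg.Agent.OddHalf.D5.EightMat.pe Cfsg.Agent.OddHalf.D5.EightMat.mm; set_option synthInstance.maxSize 20000 in open scoped Cfsg.Agent.Lib.MatDec in decide +kernel)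

theorem pe_comm : ∀ (m : Fin 6) (a b c d e : Bool),
    pe m a b c d e * tv 0 3 = tv 0 3 * pe m a b c d e
  | ⟨0, _⟩ => pe_comm_0
  | ⟨1, _⟩ => pe_comm_1
  | ⟨2, _⟩ => pe_comm_2
  | ⟨3, _⟩ => pe_comm_3
  | ⟨4, _⟩ => pe_comm_4
  | ⟨5, _⟩ => pe_comm_5
  | ⟨n + 6, h⟩ => absurd h (by omega)

/-- elements of order 3 in `C(z)` are conjugate to `ρ` -/
theorem p1 {p : S4} (hz : p * tv 0 3 = tv 0 3 * p) (h3 : p * p * p = 1) (h1 : p ≠ 1) :
    ∃ h : S4, h * tv 0 3 = tv 0 3 * h ∧ h * p = rho * h := by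
  obtain ⟨m, a, b, c, d, e, rfl⟩ := exists_pe hz
  obtain ⟨m', a', b', c', d', e', h4⟩ := p1_aux m a b c d e h3 h1
  exact ⟨_, pe_comm _ _ _ _ _ _, h4⟩

theorem s_comm : tv 1 0 * tv 0 2 = tv 1 2 * (tv 0 2 * tv 1 0) ∧ tv 1 0 * tv 1 2 = tv 1 2 * tv 1 0 ∧
    tv 0 2 * tv 1 2 = tv 1 2 * tv 0 2 := by decide +kernel

/-- the permutation matrix of `(a b)` -/
def sw (a b : Fin 4) : S4 := tv a b * tv b a * tv a b

theorem conj_aux : ∀ i j : Fin 4, i ≠ j →
    (sw (if i = 3 then 0 else 3) j * sw 0 i) * tv 0 3 = tv i j * (sw (if i = 3 then 0 else 3) j * sw 0 i) := by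
  (delta Cfsg.Agent.OddHalf.D5.EightMatB.sw; set_option synthInstance.maxSize 20000 in open scoped Cfsg.Agent.Lib.MatDec in (simp only [Cfsg.Agent.Lib.MatDec.sw_dec, Cfsg.Agent.Lib.MatDec.sw_ite, Cfsg.Agent.Lib.MatDec.sw_beq, Cfsg.Agent.Lib.MatDec.sw_bne]; decide +kernel))

/-- `z` is conjugate to every transvection -/
theorem conj_tv (i j : Fin 4) (hij : i ≠ j) : ∃ k : S4, k * tv 0 3 = tv i j * k :=
  Exists.intro (sw (if i = 3 then 0 else 3) j * sw 0 i) (conj_aux i j hij)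

/-! ### An invariant of pairs of transvections: common centre -/

/-- `(x - 1) X (y - 1) ∈ {0, y - 1}` for all `X` -/
def CP (x y : S4) : Prop := ∀ X : Matrix (Fin 4) (Fin 4) (ZMod 2),
  (x.1 - 1) * X * (y.1 - 1) = 0 ∨ (x.1 - 1) * X * (y.1 - 1) = y.1 - 1

theorem val_mul (a b : S4) : (a * b).1 = a.1 * b.1 := rfl

theorem val_one : (1 : S4).1 = 1 := rfl

theorem CP_conj {k x y x' y' : S4} (h : CP x y) (hx : k * x = x' * k) (hy : k * y = y' * k) : CP x' y' := by
  have hk : k.1 * (k⁻¹).1 = 1 := by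
    rw [← val_mul, mul_inv_cancel, val_one]
  have hc : ∀ u u' : S4, k * u = u' * k → u'.1 - 1 = k.1 * (u.1 - 1) * (k⁻¹).1 := by
    intro u u' h1
    have h2 : k.1 * u.1 = u'.1 * k.1 := by
      rw [← val_mul, h1, val_mul]
    rw [mul_sub, h2, mul_one, sub_mul, hk, mul_assoc, hk, mul_one]
  intro X
  rw [hc x x' hx, hc y y' hy]
  have e : k.1 * (x.1 - 1) * (k⁻¹).1 * X * (k.1 * (y.1 - 1) * (k⁻¹).1) =
      k.1 * ((x.1 - 1) * ((k⁻¹).1 * X * k.1) * (y.1 - 1)) * (k⁻¹).1 := by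
    simp only [mul_assoc]
  rw [e]
  rcases h ((k⁻¹).1 * X * k.1) with h1 | h1
  · left; rw [h1, mul_zero, zero_mul]
  · right; rw [h1]

theorem CP_row {i j l : Fin 4} (hj : i ≠ j) (hl : i ≠ l) : CP (tv i j) (tv i l) := by
  intro X
  rw [coe_tv hj, coe_tv hl, add_sub_cancel_left, add_sub_cancel_left, Matrix.single_mul_mul_single, mul_one, one_mul]
  rcases two_cases (X j i) with h | h
  · left; rw [h, Matrix.single_zero]
  · right; rw [h]

theorem not_CP_1 : ¬ CP (tv 1 2 * tv 1 3) (tv 0 2 * tv 0 3 * tv 1 2 * tv 1 3) := by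
  intro h
  have h1 := h (Matrix.single 2 0 1)
  revert h1
  decide +kernel

theorem not_CP_2 : ¬ CP (tv 0 3) (tv 1 3) := by
  intro h
  have h1 := h (Matrix.single 3 1 1)
  revert h1
  decide +kernel

theorem not_CP_3 : ¬ CP (tv 0 2 * tv 0 3 * tv 1 3) (tv 0 2 * tv 0 3 * tv 1 3) := by
  intro h
  have h1 := h (Matrix.single 2 0 1)
  revert h1
  decide +kernel

theorem not_CP_4 : ¬ CP (tv 0 2 * tv 1 3) (tv 0 2 * tv 1 3) := by
  intro h
  have h1 := h (Matrix.single 2 0 1)
  revert h1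
  decide +kernel

theorem not_CP_5 : ¬ CP (tv 0 3 * tv 1 2) (tv 0 3 * tv 1 2) := by
  intro h
  have h1 := h (Matrix.single 2 1 1)
  revert h1
  decide +kernel

theorem not_CP_6 : ¬ CP (tv 0 3 * tv 1 2 * tv 1 3) (tv 0 3 * tv 1 2 * tv 1 3) := by
  intro h
  have h1 := h (Matrix.single 2 1 1)
  revert h1
  decide +kernel

end Cfsg.Agent.OddHalf.D5.EightMatB
end

-- part: OddHalf/D5/EightCleanSwp
section
set_option linter.all false
open scoped Cfsg.Agent.FastGrp

-- part: OddHalf/D5/EightAff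
section
/-!
# Affine action on `⟨t⟩ × V`, `V = 2⁴ < SL₄(2)`: the seven bad swaps (helper401)

`Hyp t φ`: `C_G(t) = ⟨t⟩ × φ(SL₄(2))`.  `Aff g L τ`: `g` acts on `V` as the matrix `L` and `t^g = t τ`.
If `w` swaps `t` and `t z` and is one of seven maps on `V`, then a word `w k w k' w` centralises `t` and acts on
`V` as no element of `SL₄(2)` can.
-/

set_option autoImplicit false

namespace Cfsg.Agent.OddHalf.D5.EightAff

open Matrix EightMat EightMatB

variable {G : Type*} [Group G]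

/-- `C_G(t) = ⟨t⟩ × φ(SL₄(2))` -/
structure Hyp (t : G) (φ : S4 →* G) : Prop where
  tt : t * t = 1
  inj : Function.Injective φ
  comm : ∀ a, t * φ a = φ a * t
  cent : ∀ g, g * t = t * g → (∃ a, g = φ a) ∨ ∃ a, g = t * φ a
  ne : ∀ a, φ a ≠ t

theorem comm_id {H : Type*} [Group H] (a b : H) : a * b = a * b * a⁻¹ * b⁻¹ * (b * a) := by group

namespace Hyp

variable {t : G} {φ : S4 →* G}

theorem tne (h : Hyp t φ) (a b : S4) : φ a ≠ t * φ b := by
  intro e
  apply h.ne (a * b⁻¹)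
  rw [map_mul, map_inv, e, mul_assoc, mul_inv_cancel, mul_one]

theorem t1 (h : Hyp t φ) : t ≠ 1 := fun e => h.ne 1 (by rw [map_one, e])

theorem comm' (h : Hyp t φ) (a : S4) : φ a * t = t * φ a := (h.comm a).symm

/-- a commutator in `C(t)` lies in `K` -/
theorem comm_mem (h : Hyp t φ) {u v k : G} (hu : u * t = t * u) (hv : v * t = t * v) (e : u * v = k * (v * u)) :
    ∃ a, k = φ a := by
  have key : ∀ a b : S4, φ a * φ b = φ (a * b * a⁻¹ * b⁻¹) * (φ b * φ a) := by
    intro a b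
    rw [← map_mul, ← map_mul φ b a, ← map_mul, ← comm_id]
  have fin : ∀ a b : S4, u * v = φ (a * b * a⁻¹ * b⁻¹) * (v * u) → ∃ a, k = φ a := by
    intro a b h1
    rw [e] at h1
    exact ⟨_, mul_right_cancel h1⟩
  rcases h.cent u hu with ⟨a, rfl⟩ | ⟨a, rfl⟩ <;> rcases h.cent v hv with ⟨b, rfl⟩ | ⟨b, rfl⟩
  · exact fin a b (key a b)
  · apply fin a b
    calc φ a * (t * φ b) = t * (φ a * φ b) := by rw [← mul_assoc, h.comm', mul_assoc]
      _ = t * (φ (a * b * a⁻¹ * b⁻¹) * (φ b * φ a)) := by rw [key a b]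
      _ = φ (a * b * a⁻¹ * b⁻¹) * (t * φ b * φ a) := by rw [← mul_assoc, h.comm]; group
  · apply fin a b
    calc t * φ a * φ b = t * (φ a * φ b) := by group
      _ = t * (φ (a * b * a⁻¹ * b⁻¹) * (φ b * φ a)) := by rw [key a b]
      _ = φ (a * b * a⁻¹ * b⁻¹) * ((t * φ b) * φ a) := by rw [← mul_assoc, h.comm]; group
      _ = φ (a * b * a⁻¹ * b⁻¹) * (φ b * (t * φ a)) := by rw [h.comm b, mul_assoc (φ b)]
  · apply fin a b
    calc t * φ a * (t * φ b) = t * (φ a * t) * φ b := by group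
      _ = t * (t * φ a) * φ b := by rw [h.comm' a]
      _ = (t * t) * (φ a * φ b) := by group
      _ = (t * t) * (φ (a * b * a⁻¹ * b⁻¹) * (φ b * φ a)) := by rw [key a b]
      _ = t * (t * φ (a * b * a⁻¹ * b⁻¹)) * (φ b * φ a) := by group
      _ = t * (φ (a * b * a⁻¹ * b⁻¹) * t) * (φ b * φ a) := by rw [h.comm]
      _ = (t * φ (a * b * a⁻¹ * b⁻¹)) * (t * φ b) * φ a := by group
      _ = (φ (a * b * a⁻¹ * b⁻¹) * t) * (φ b * t) * φ a := by rw [h.comm, h.comm b]
      _ = φ (a * b * a⁻¹ * b⁻¹) * ((t * φ b) * (t * φ a)) := by group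

/-- commutators in their centraliser are not conjugate to `t` -/
theorem not_conj (h : Hyp t φ) {k u v : S4} (huv : u * v = k * (v * u)) (hu : u * k = k * u) (hv : v * k = k * v)
    {g : G} (hg : g * t * g⁻¹ = φ k) : False := by
  have ht : t = g⁻¹ * φ k * g := by rw [← hg]; group
  have hc : ∀ u : S4, u * k = k * u → (g⁻¹ * φ u * g) * t = t * (g⁻¹ * φ u * g) := by
    intro u hu
    rw [ht]
    calc g⁻¹ * φ u * g * (g⁻¹ * φ k * g) = g⁻¹ * (φ u * φ k) * g := by group
      _ = g⁻¹ * (φ k * φ u) * g := by rw [← map_mul, hu, map_mul]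
      _ = g⁻¹ * φ k * g * (g⁻¹ * φ u * g) := by group
  obtain ⟨a, ha⟩ := h.comm_mem (k := t) (hc u hu) (hc v hv) (by
    rw [ht]
    calc g⁻¹ * φ u * g * (g⁻¹ * φ v * g) = g⁻¹ * (φ u * φ v) * g := by group
      _ = g⁻¹ * (φ k * (φ v * φ u)) * g := by rw [← map_mul, huv, map_mul, map_mul]
      _ = g⁻¹ * φ k * g * (g⁻¹ * φ v * g * (g⁻¹ * φ u * g)) := by group)
  exact h.ne a ha.symm

end Hyp

/-! ### The affine action -/

/-- `g` or `1` -/
def pz (g : S4) (x : ZMod 2) : S4 := if x = 0 then 1 else g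

/-- the elements of `V` -/
def vv (b : Fin 4 → ZMod 2) : S4 :=
  pz (tv 0 2) (b 0) * pz (tv 0 3) (b 1) * pz (tv 1 2) (b 2) * pz (tv 1 3) (b 3)

theorem vv_add : ∀ b c : Fin 4 → ZMod 2, vv (b + c) = vv b * vv c := by
  have h2 : ∀ x : ZMod 2, x = 0 ∨ x = 1 := by decide
  have hadd : ∀ {g : S4}, g * g = 1 → ∀ x y : ZMod 2, pz g (x + y) = pz g x * pz g y := by
    intro g hg x y
    have h0 : pz g 0 = 1 := if_pos rfl
    have h1 : pz g 1 = g := if_neg (by decide)
    rcases h2 x with rfl | rfl <;> rcases h2 y with rfl | rfl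
    · rw [add_zero, h0, mul_one]
    · rw [zero_add, h0, one_mul]
    · rw [add_zero, h0, mul_one]
    · rw [show (1 + 1 : ZMod 2) = 0 by decide, h0, h1, hg]
  have hcomm : ∀ {g h : S4}, g * h = h * g → ∀ x y : ZMod 2, pz g x * pz h y = pz h y * pz g x := by
    intro g h hgh x y
    unfold pz
    split_ifs
    · rfl
    · rw [one_mul, mul_one]
    · rw [one_mul, mul_one]
    · exact hgh
  intro b c
  have c1 := hcomm (tv_comm 0 3 0 2 (by decide) (by decide) (by decide) (by decide)).symm (c 0) (b 1)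
  have c2 := hcomm (tv_comm 1 2 0 2 (by decide) (by decide) (by decide) (by decide)).symm (c 0) (b 2)
  have c3 := hcomm (tv_comm 1 3 0 2 (by decide) (by decide) (by decide) (by decide)).symm (c 0) (b 3)
  have c4 := hcomm (tv_comm 1 2 0 3 (by decide) (by decide) (by decide) (by decide)).symm (c 1) (b 2)
  have c5 := hcomm (tv_comm 1 3 0 3 (by decide) (by decide) (by decide) (by decide)).symm (c 1) (b 3)
  have c6 := hcomm (tv_comm 1 3 1 2 (by decide) (by decide) (by decide) (by decide)).symm (c 2) (b 3)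
  have key : ∀ a0 a1 a2 a3 b0 b1 b2 b3 : S4, b0 * a1 = a1 * b0 → b0 * a2 = a2 * b0 → b0 * a3 = a3 * b0 →
      b1 * a2 = a2 * b1 → b1 * a3 = a3 * b1 → b2 * a3 = a3 * b2 →
      (a0 * b0) * (a1 * b1) * (a2 * b2) * (a3 * b3) = (a0 * a1 * a2 * a3) * (b0 * b1 * b2 * b3) := by
    intro a0 a1 a2 a3 b0 b1 b2 b3 h1 h2 h3 h4 h5 h6
    calc (a0 * b0) * (a1 * b1) * (a2 * b2) * (a3 * b3) = a0 * (b0 * a1) * b1 * a2 * (b2 * a3) * b3 := by group
      _ = a0 * (a1 * b0) * b1 * a2 * (a3 * b2) * b3 := by rw [h1, h6]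
      _ = a0 * a1 * b0 * (b1 * a2) * a3 * b2 * b3 := by group
      _ = a0 * a1 * b0 * (a2 * b1) * a3 * b2 * b3 := by rw [h4]
      _ = a0 * a1 * (b0 * a2) * (b1 * a3) * b2 * b3 := by group
      _ = a0 * a1 * (a2 * b0) * (a3 * b1) * b2 * b3 := by rw [h2, h5]
      _ = a0 * a1 * a2 * (b0 * a3) * b1 * b2 * b3 := by group
      _ = a0 * a1 * a2 * (a3 * b0) * b1 * b2 * b3 := by rw [h3]
      _ = (a0 * a1 * a2 * a3) * (b0 * b1 * b2 * b3) := by group
  have d : ∀ i : Fin 4, (b + c) i = b i + c i := fun i => rfl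
  unfold vv
  rw [d, d, d, d, hadd (tv_sq 0 2), hadd (tv_sq 0 3), hadd (tv_sq 1 2), hadd (tv_sq 1 3)]
  exact key _ _ _ _ _ _ _ _ c1 c2 c3 c4 c5 c6

theorem vv_zero : vv 0 = 1 := by decide +kernel

/-- the affine action on `tV` -/
structure Aff (t : G) (φ : S4 →* G) (g : G) (L : Matrix (Fin 4) (Fin 4) (ZMod 2)) (τ : Fin 4 → ZMod 2) : Prop where
  v : ∀ b, g * φ (vv b) * g⁻¹ = φ (vv (L *ᵥ b))
  t : g * t * g⁻¹ = t * φ (vv τ)

variable {t : G} {φ : S4 →* G}

theorem Aff.mul {g h : G} {L M : Matrix (Fin 4) (Fin 4) (ZMod 2)} {τ σ : Fin 4 → ZMod 2}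
    (hg : Aff t φ g L τ) (hh : Aff t φ h M σ) : Aff t φ (g * h) (L * M) (τ + L *ᵥ σ) where
  v := by
    intro b
    calc g * h * φ (vv b) * (g * h)⁻¹ = g * (h * φ (vv b) * h⁻¹) * g⁻¹ := by group
      _ = φ (vv ((L * M) *ᵥ b)) := by rw [hh.v, hg.v, Matrix.mulVec_mulVec]
  t := by
    calc g * h * t * (g * h)⁻¹ = g * (h * t * h⁻¹) * g⁻¹ := by group
      _ = g * (t * φ (vv σ)) * g⁻¹ := by rw [hh.t]
      _ = (g * t * g⁻¹) * (g * φ (vv σ) * g⁻¹) := by group
      _ = t * φ (vv (τ + L *ᵥ σ)) := by rw [hg.t, hg.v, vv_add, map_mul]; group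

theorem Aff.of_K (h : Hyp t φ) {k : S4} {L : Matrix (Fin 4) (Fin 4) (ZMod 2)}
    (hk : ∀ b, k * vv b = vv (L *ᵥ b) * k) : Aff t φ (φ k) L 0 where
  v := by
    intro b
    rw [← map_mul, hk, map_mul]; group
  t := by
    rw [vv_zero, map_one, mul_one, h.comm']; group

/-- `w` on `V` -/
theorem Aff.of_w {w : G} {fa fs fb : S4} {L : Matrix (Fin 4) (Fin 4) (ZMod 2)}
    (ht : w * t * w⁻¹ = t * φ (tv 0 3)) (hz : w * φ (tv 0 3) * w⁻¹ = φ (tv 0 3))
    (ha : w * φ (tv 0 2) * w⁻¹ = φ fa) (hs : w * φ (tv 1 2) * w⁻¹ = φ fs) (hb : w * φ (tv 1 3) * w⁻¹ = φ fb)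
    (hL : ∀ b : Fin 4 → ZMod 2, pz fa (b 0) * pz (tv 0 3) (b 1) * pz fs (b 2) * pz fb (b 3) = vv (L *ᵥ b)) :
    Aff t φ w L ![0, 1, 0, 0] where
  v := by
    intro b
    have hp : ∀ (x y : S4) (c : ZMod 2), w * φ x * w⁻¹ = φ y → w * φ (pz x c) * w⁻¹ = φ (pz y c) := by
      intro x y c hxy
      unfold pz
      split_ifs
      · rw [map_one]; group
      · exact hxy
    calc w * φ (vv b) * w⁻¹ = (w * φ (pz (tv 0 2) (b 0)) * w⁻¹) * (w * φ (pz (tv 0 3) (b 1)) * w⁻¹) *
          (w * φ (pz (tv 1 2) (b 2)) * w⁻¹) * (w * φ (pz (tv 1 3) (b 3)) * w⁻¹) := by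
            unfold vv
            rw [map_mul, map_mul, map_mul]; group
      _ = φ (vv (L *ᵥ b)) := by
            rw [hp _ _ _ ha, hp _ _ _ hz, hp _ _ _ hs, hp _ _ _ hb, ← map_mul, ← map_mul, ← map_mul, hL]
  t := by
    rw [ht]
    have : vv ![0, 1, 0, 0] = tv 0 3 := by decide +kernel
    rw [this]

/-- an element fixing `t` preserves `CP` -/
theorem Aff.false (h : Hyp t φ) {g : G} {L : Matrix (Fin 4) (Fin 4) (ZMod 2)} {τ : Fin 4 → ZMod 2}
    (hg : Aff t φ g L τ) (hτ : τ = 0) {b c : Fin 4 → ZMod 2} (h1 : CP (vv b) (vv c))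
    (h2 : ¬ CP (vv (L *ᵥ b)) (vv (L *ᵥ c))) : False := by
  have hgt : g * t = t * g := by
    have := hg.t
    rw [hτ, vv_zero, map_one, mul_one, mul_inv_eq_iff_eq_mul] at this
    exact this
  have key : ∀ k : S4, (∀ b, φ k * φ (vv b) * (φ k)⁻¹ = φ (vv (L *ᵥ b))) → False := by
    intro k hk
    apply h2
    have hk' : ∀ b, k * vv b = vv (L *ᵥ b) * k := by
      intro b
      apply h.inj
      rw [map_mul, map_mul, ← hk b]; group
    exact CP_conj h1 (hk' b) (hk' c)
  rcases h.cent g hgt with ⟨k, rfl⟩ | ⟨k, rfl⟩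
  · exact key k hg.v
  · apply key k
    intro b
    rw [← hg.v b]
    have e := h.comm (k * vv b * k⁻¹)
    rw [map_mul, map_mul, map_inv] at e
    calc φ k * φ (vv b) * (φ k)⁻¹ = (t * t⁻¹) * (φ k * φ (vv b) * (φ k)⁻¹) := by group
      _ = t * (φ k * φ (vv b) * (φ k)⁻¹) * t⁻¹ := by rw [e]; group
      _ = t * φ k * φ (vv b) * (t * φ k)⁻¹ := by group

/-- the word argument -/
theorem word (h : Hyp t φ) {w : G} {L K1 K2 : Matrix (Fin 4) (Fin 4) (ZMod 2)} {k1 k2 : S4}
    (hw : Aff t φ w L ![0, 1, 0, 0]) (hk1 : ∀ b, k1 * vv b = vv (K1 *ᵥ b) * k1)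
    (hk2 : ∀ b, k2 * vv b = vv (K2 *ᵥ b) * k2)
    (h0 : ![0, 1, 0, 0] + L *ᵥ ((0 : Fin 4 → ZMod 2) + K1 *ᵥ (![0, 1, 0, 0] + L *ᵥ (0 + K2 *ᵥ ![0, 1, 0, 0]))) = 0)
    {b c : Fin 4 → ZMod 2} (h1 : CP (vv b) (vv c))
    (h2 : ¬ CP (vv ((L * (K1 * (L * (K2 * L)))) *ᵥ b)) (vv ((L * (K1 * (L * (K2 * L)))) *ᵥ c))) : False :=
  (hw.mul ((Aff.of_K h hk1).mul (hw.mul ((Aff.of_K h hk2).mul hw)))).false h h0 h1 h2

end Cfsg.Agent.OddHalf.D5.EightAff
end

-- part: OddHalf/D5/EightBad
section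
/-!
# The seven bad swaps (helper401)
-/

set_option autoImplicit false

namespace Cfsg.Agent.OddHalf.D5.EightBad

open Matrix EightMat EightMatB EightAff

variable {G : Type*} [Group G] {t : G} {φ : S4 →* G}

theorem vv_a : vv ![1, 0, 0, 0] = tv 0 2 := by decide +kernel

theorem vv_z : vv ![0, 1, 0, 0] = tv 0 3 := by decide +kernel

theorem vv_s : vv ![0, 0, 1, 0] = tv 1 2 := by decide +kernel

theorem cp_az : CP (vv ![1, 0, 0, 0]) (vv ![0, 1, 0, 0]) := by
  rw [vv_a, vv_z]; exact CP_row (by decide) (by decide)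

theorem cp_aa : CP (vv ![1, 0, 0, 0]) (vv ![1, 0, 0, 0]) := by
  rw [vv_a]; exact CP_row (by decide) (by decide)

theorem cp_ss : CP (vv ![0, 0, 1, 0]) (vv ![0, 0, 1, 0]) := by
  rw [vv_s]; exact CP_row (by decide) (by decide)

theorem idone (h : Hyp t φ) {w : G} (ht : w * t * w⁻¹ = t * φ (tv 0 3)) (hz : w * φ (tv 0 3) * w⁻¹ = φ (tv 0 3))
    (ha : w * φ (tv 0 2) * w⁻¹ = φ (tv 0 2)) (hs : w * φ (tv 1 2) * w⁻¹ = φ (tv 1 2 * tv 0 3))
    (hb : w * φ (tv 1 3) * w⁻¹ = φ (tv 1 3)) : False := by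
  have hw : Aff t φ w !![1, 0, 0, 0; 0, 1, 1, 0; 0, 0, 1, 0; 0, 0, 0, 1] ![0, 1, 0, 0] :=
    Aff.of_w ht hz ha hs hb (by (delta Cfsg.Agent.OddHalf.D5.EightAff.pz Cfsg.Agent.OddHalf.D5.EightAff.vv; set_option synthInstance.maxSize 20000 in open scoped Cfsg.Agent.Lib.MatDec in (simp +singlePass only [Cfsg.Agent.Lib.MatDec.sw_ite]; decide +kernel)))
  refine word h (K1 := !![1, 1, 0, 0; 0, 1, 0, 0; 1, 1, 1, 1; 0, 1, 0, 1]) (K2 := !![1, 1, 0, 0; 0, 1, 0, 0; 1, 1, 1, 1; 0, 1, 0, 1])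
    (k1 := tv 3 2 * tv 1 0) (k2 := tv 3 2 * tv 1 0) (b := ![1, 0, 0, 0]) (c := ![0, 1, 0, 0])
    hw (by (delta Cfsg.Agent.OddHalf.D5.EightAff.vv Cfsg.Agent.OddHalf.D5.EightAff.pz; set_option synthInstance.maxSize 20000 in open scoped Cfsg.Agent.Lib.MatDec in (simp +singlePass only [Cfsg.Agent.Lib.MatDec.sw_ite]; decide +kernel))) (by (delta Cfsg.Agent.OddHalf.D5.EightAff.vv Cfsg.Agent.OddHalf.D5.EightAff.pz; set_option synthInstance.maxSize 20000 in open scoped Cfsg.Agent.Lib.MatDec in (simp +singlePass only [Cfsg.Agent.Lib.MatDec.sw_ite]; decide +kernel))) (by decide +kernel) cp_az ?_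
  have e1 : vv ((!![1, 0, 0, 0; 0, 1, 1, 0; 0, 0, 1, 0; 0, 0, 0, 1] * (!![1, 1, 0, 0; 0, 1, 0, 0; 1, 1, 1, 1; 0, 1, 0, 1] *
      (!![1, 0, 0, 0; 0, 1, 1, 0; 0, 0, 1, 0; 0, 0, 0, 1] * (!![1, 1, 0, 0; 0, 1, 0, 0; 1, 1, 1, 1; 0, 1, 0, 1] *
      !![1, 0, 0, 0; 0, 1, 1, 0; 0, 0, 1, 0; 0, 0, 0, 1]))) : Matrix (Fin 4) (Fin 4) (ZMod 2)) *ᵥ ![1, 0, 0, 0]) = tv 1 2 * tv 1 3 := by decide +kernel
  have e2 : vv ((!![1, 0, 0, 0; 0, 1, 1, 0; 0, 0, 1, 0; 0, 0, 0, 1] * (!![1, 1, 0, 0; 0, 1, 0, 0; 1, 1, 1, 1; 0, 1, 0, 1] *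
      (!![1, 0, 0, 0; 0, 1, 1, 0; 0, 0, 1, 0; 0, 0, 0, 1] * (!![1, 1, 0, 0; 0, 1, 0, 0; 1, 1, 1, 1; 0, 1, 0, 1] *
      !![1, 0, 0, 0; 0, 1, 1, 0; 0, 0, 1, 0; 0, 0, 0, 1]))) : Matrix (Fin 4) (Fin 4) (ZMod 2)) *ᵥ ![0, 1, 0, 0]) = tv 0 2 * tv 0 3 * tv 1 2 * tv 1 3 := by decide +kernel
  rw [e1, e2]
  exact not_CP_1

theorem swz (h : Hyp t φ) {w : G} (ht : w * t * w⁻¹ = t * φ (tv 0 3)) (hz : w * φ (tv 0 3) * w⁻¹ = φ (tv 0 3))
    (ha : w * φ (tv 0 2) * w⁻¹ = φ (tv 1 3)) (hs : w * φ (tv 1 2) * w⁻¹ = φ (tv 1 2))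
    (hb : w * φ (tv 1 3) * w⁻¹ = φ (tv 0 2)) : False := by
  have hw : Aff t φ w !![0, 0, 0, 1; 0, 1, 0, 0; 0, 0, 1, 0; 1, 0, 0, 0] ![0, 1, 0, 0] :=
    Aff.of_w ht hz ha hs hb (by (delta Cfsg.Agent.OddHalf.D5.EightAff.pz Cfsg.Agent.OddHalf.D5.EightAff.vv; set_option synthInstance.maxSize 20000 in open scoped Cfsg.Agent.Lib.MatDec in (simp +singlePass only [Cfsg.Agent.Lib.MatDec.sw_ite]; decide +kernel)))
  refine word h (K1 := !![0, 1, 0, 0; 1, 1, 0, 0; 0, 0, 0, 1; 0, 0, 1, 1]) (K2 := !![1, 0, 0, 0; 0, 1, 0, 0; 1, 0, 1, 0; 0, 1, 0, 1])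
    (k1 := tv 3 2 * tv 2 3) (k2 := tv 1 0) (b := ![1, 0, 0, 0]) (c := ![0, 1, 0, 0])
    hw (by (delta Cfsg.Agent.OddHalf.D5.EightAff.vv Cfsg.Agent.OddHalf.D5.EightAff.pz; set_option synthInstance.maxSize 20000 in open scoped Cfsg.Agent.Lib.MatDec in (simp +singlePass only [Cfsg.Agent.Lib.MatDec.sw_ite]; decide +kernel))) (by (delta Cfsg.Agent.OddHalf.D5.EightAff.vv Cfsg.Agent.OddHalf.D5.EightAff.pz; set_option synthInstance.maxSize 20000 in open scoped Cfsg.Agent.Lib.MatDec in (simp +singlePass only [Cfsg.Agent.Lib.MatDec.sw_ite]; decide +kernel))) (by decide +kernel) cp_az ?_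
  have e1 : vv ((!![0, 0, 0, 1; 0, 1, 0, 0; 0, 0, 1, 0; 1, 0, 0, 0] * (!![0, 1, 0, 0; 1, 1, 0, 0; 0, 0, 0, 1; 0, 0, 1, 1] *
      (!![0, 0, 0, 1; 0, 1, 0, 0; 0, 0, 1, 0; 1, 0, 0, 0] * (!![1, 0, 0, 0; 0, 1, 0, 0; 1, 0, 1, 0; 0, 1, 0, 1] *
      !![0, 0, 0, 1; 0, 1, 0, 0; 0, 0, 1, 0; 1, 0, 0, 0]))) : Matrix (Fin 4) (Fin 4) (ZMod 2)) *ᵥ ![1, 0, 0, 0]) = tv 0 3 := by decide +kernel
  have e2 : vv ((!![0, 0, 0, 1; 0, 1, 0, 0; 0, 0, 1, 0; 1, 0, 0, 0] * (!![0, 1, 0, 0; 1, 1, 0, 0; 0, 0, 0, 1; 0, 0, 1, 1] *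
      (!![0, 0, 0, 1; 0, 1, 0, 0; 0, 0, 1, 0; 1, 0, 0, 0] * (!![1, 0, 0, 0; 0, 1, 0, 0; 1, 0, 1, 0; 0, 1, 0, 1] *
      !![0, 0, 0, 1; 0, 1, 0, 0; 0, 0, 1, 0; 1, 0, 0, 0]))) : Matrix (Fin 4) (Fin 4) (ZMod 2)) *ᵥ ![0, 1, 0, 0]) = tv 1 3 := by decide +kernel
  rw [e1, e2]
  exact not_CP_2

theorem swo (h : Hyp t φ) {w : G} (ht : w * t * w⁻¹ = t * φ (tv 0 3)) (hz : w * φ (tv 0 3) * w⁻¹ = φ (tv 0 3))
    (ha : w * φ (tv 0 2) * w⁻¹ = φ (tv 1 3)) (hs : w * φ (tv 1 2) * w⁻¹ = φ (tv 1 2 * tv 0 3))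
    (hb : w * φ (tv 1 3) * w⁻¹ = φ (tv 0 2)) : False := by
  have hw : Aff t φ w !![0, 0, 0, 1; 0, 1, 1, 0; 0, 0, 1, 0; 1, 0, 0, 0] ![0, 1, 0, 0] :=
    Aff.of_w ht hz ha hs hb (by (delta Cfsg.Agent.OddHalf.D5.EightAff.pz Cfsg.Agent.OddHalf.D5.EightAff.vv; set_option synthInstance.maxSize 20000 in open scoped Cfsg.Agent.Lib.MatDec in (simp +singlePass only [Cfsg.Agent.Lib.MatDec.sw_ite]; decide +kernel)))
  refine word h (K1 := !![0, 1, 0, 0; 1, 1, 0, 0; 0, 0, 0, 1; 0, 0, 1, 1]) (K2 := !![1, 0, 0, 0; 0, 1, 0, 0; 1, 0, 1, 0; 0, 1, 0, 1])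
    (k1 := tv 3 2 * tv 2 3) (k2 := tv 1 0) (b := ![1, 0, 0, 0]) (c := ![0, 1, 0, 0])
    hw (by (delta Cfsg.Agent.OddHalf.D5.EightAff.vv Cfsg.Agent.OddHalf.D5.EightAff.pz; set_option synthInstance.maxSize 20000 in open scoped Cfsg.Agent.Lib.MatDec in (simp +singlePass only [Cfsg.Agent.Lib.MatDec.sw_ite]; decide +kernel))) (by (delta Cfsg.Agent.OddHalf.D5.EightAff.vv Cfsg.Agent.OddHalf.D5.EightAff.pz; set_option synthInstance.maxSize 20000 in open scoped Cfsg.Agent.Lib.MatDec in (simp +singlePass only [Cfsg.Agent.Lib.MatDec.sw_ite]; decide +kernel))) (by decide +kernel) cp_az ?_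
  have e1 : vv ((!![0, 0, 0, 1; 0, 1, 1, 0; 0, 0, 1, 0; 1, 0, 0, 0] * (!![0, 1, 0, 0; 1, 1, 0, 0; 0, 0, 0, 1; 0, 0, 1, 1] *
      (!![0, 0, 0, 1; 0, 1, 1, 0; 0, 0, 1, 0; 1, 0, 0, 0] * (!![1, 0, 0, 0; 0, 1, 0, 0; 1, 0, 1, 0; 0, 1, 0, 1] *
      !![0, 0, 0, 1; 0, 1, 1, 0; 0, 0, 1, 0; 1, 0, 0, 0]))) : Matrix (Fin 4) (Fin 4) (ZMod 2)) *ᵥ ![1, 0, 0, 0]) = tv 0 3 := by decide +kernel
  have e2 : vv ((!![0, 0, 0, 1; 0, 1, 1, 0; 0, 0, 1, 0; 1, 0, 0, 0] * (!![0, 1, 0, 0; 1, 1, 0, 0; 0, 0, 0, 1; 0, 0, 1, 1] *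
      (!![0, 0, 0, 1; 0, 1, 1, 0; 0, 0, 1, 0; 1, 0, 0, 0] * (!![1, 0, 0, 0; 0, 1, 0, 0; 1, 0, 1, 0; 0, 1, 0, 1] *
      !![0, 0, 0, 1; 0, 1, 1, 0; 0, 0, 1, 0; 1, 0, 0, 0]))) : Matrix (Fin 4) (Fin 4) (ZMod 2)) *ᵥ ![0, 1, 0, 0]) = tv 1 3 := by decide +kernel
  rw [e1, e2]
  exact not_CP_2

theorem aaz (h : Hyp t φ) {w : G} (ht : w * t * w⁻¹ = t * φ (tv 0 3)) (hz : w * φ (tv 0 3) * w⁻¹ = φ (tv 0 3))
    (ha : w * φ (tv 0 2) * w⁻¹ = φ (tv 0 2)) (hs : w * φ (tv 1 2) * w⁻¹ = φ (tv 1 2))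
    (hb : w * φ (tv 1 3) * w⁻¹ = φ (cc)) : False := by
  have hw : Aff t φ w !![1, 0, 0, 1; 0, 1, 0, 1; 0, 0, 1, 0; 0, 0, 0, 1] ![0, 1, 0, 0] :=
    Aff.of_w ht hz ha hs hb (by (delta Cfsg.Agent.OddHalf.D5.EightAff.pz Cfsg.Agent.OddHalf.D5.EightMatB.cc Cfsg.Agent.OddHalf.D5.EightAff.vv; set_option synthInstance.maxSize 20000 in open scoped Cfsg.Agent.Lib.MatDec in (simp +singlePass only [Cfsg.Agent.Lib.MatDec.sw_ite]; decide +kernel)))
  refine word h (K1 := !![0, 1, 0, 0; 1, 1, 0, 0; 0, 0, 0, 1; 0, 0, 1, 1]) (K2 := !![1, 1, 0, 0; 0, 1, 0, 0; 0, 0, 1, 1; 0, 0, 0, 1])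
    (k1 := tv 3 2 * tv 2 3) (k2 := tv 3 2) (b := ![0, 0, 1, 0]) (c := ![0, 0, 1, 0])
    hw (by (delta Cfsg.Agent.OddHalf.D5.EightAff.vv Cfsg.Agent.OddHalf.D5.EightAff.pz; set_option synthInstance.maxSize 20000 in open scoped Cfsg.Agent.Lib.MatDec in (simp +singlePass only [Cfsg.Agent.Lib.MatDec.sw_ite]; decide +kernel))) (by (delta Cfsg.Agent.OddHalf.D5.EightAff.vv Cfsg.Agent.OddHalf.D5.EightAff.pz; set_option synthInstance.maxSize 20000 in open scoped Cfsg.Agent.Lib.MatDec in (simp +singlePass only [Cfsg.Agent.Lib.MatDec.sw_ite]; decide +kernel))) (by decide +kernel) cp_ss ?_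
  have e1 : vv ((!![1, 0, 0, 1; 0, 1, 0, 1; 0, 0, 1, 0; 0, 0, 0, 1] * (!![0, 1, 0, 0; 1, 1, 0, 0; 0, 0, 0, 1; 0, 0, 1, 1] *
      (!![1, 0, 0, 1; 0, 1, 0, 1; 0, 0, 1, 0; 0, 0, 0, 1] * (!![1, 1, 0, 0; 0, 1, 0, 0; 0, 0, 1, 1; 0, 0, 0, 1] *
      !![1, 0, 0, 1; 0, 1, 0, 1; 0, 0, 1, 0; 0, 0, 0, 1]))) : Matrix (Fin 4) (Fin 4) (ZMod 2)) *ᵥ ![0, 0, 1, 0]) = tv 0 2 * tv 0 3 * tv 1 3 := by decide +kernel
  rw [e1]
  exact not_CP_3

theorem aao (h : Hyp t φ) {w : G} (ht : w * t * w⁻¹ = t * φ (tv 0 3)) (hz : w * φ (tv 0 3) * w⁻¹ = φ (tv 0 3))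
    (ha : w * φ (tv 0 2) * w⁻¹ = φ (tv 0 2)) (hs : w * φ (tv 1 2) * w⁻¹ = φ (tv 1 2 * tv 0 3))
    (hb : w * φ (tv 1 3) * w⁻¹ = φ (cc)) : False := by
  have hw : Aff t φ w !![1, 0, 0, 1; 0, 1, 1, 1; 0, 0, 1, 0; 0, 0, 0, 1] ![0, 1, 0, 0] :=
    Aff.of_w ht hz ha hs hb (by (delta Cfsg.Agent.OddHalf.D5.EightAff.pz Cfsg.Agent.OddHalf.D5.EightMatB.cc Cfsg.Agent.OddHalf.D5.EightAff.vv; set_option synthInstance.maxSize 20000 in open scoped Cfsg.Agent.Lib.MatDec in (simp +singlePass only [Cfsg.Agent.Lib.MatDec.sw_ite]; decide +kernel)))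
  refine word h (K1 := !![0, 1, 0, 0; 1, 1, 0, 0; 0, 0, 0, 1; 0, 0, 1, 1]) (K2 := !![1, 1, 0, 0; 0, 1, 0, 0; 0, 0, 1, 1; 0, 0, 0, 1])
    (k1 := tv 3 2 * tv 2 3) (k2 := tv 3 2) (b := ![0, 0, 1, 0]) (c := ![0, 0, 1, 0])
    hw (by (delta Cfsg.Agent.OddHalf.D5.EightAff.vv Cfsg.Agent.OddHalf.D5.EightAff.pz; set_option synthInstance.maxSize 20000 in open scoped Cfsg.Agent.Lib.MatDec in (simp +singlePass only [Cfsg.Agent.Lib.MatDec.sw_ite]; decide +kernel))) (by (delta Cfsg.Agent.OddHalf.D5.EightMat.tv Cfsg.Agent.OddHalf.D5.EightAff.vv Cfsg.Agent.OddHalf.D5.EightAff.pz; set_option synthInstance.maxSize 20000 in open scoped Cfsg.Agent.Lib.MatDec in (simp +singlePass only [Cfsg.Agent.Lib.MatDec.sw_ite]; decide +kernel))) (by decide +kernel) cp_ss ?_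
  have e1 : vv ((!![1, 0, 0, 1; 0, 1, 1, 1; 0, 0, 1, 0; 0, 0, 0, 1] * (!![0, 1, 0, 0; 1, 1, 0, 0; 0, 0, 0, 1; 0, 0, 1, 1] *
      (!![1, 0, 0, 1; 0, 1, 1, 1; 0, 0, 1, 0; 0, 0, 0, 1] * (!![1, 1, 0, 0; 0, 1, 0, 0; 0, 0, 1, 1; 0, 0, 0, 1] *
      !![1, 0, 0, 1; 0, 1, 1, 1; 0, 0, 1, 0; 0, 0, 0, 1]))) : Matrix (Fin 4) (Fin 4) (ZMod 2)) *ᵥ ![0, 0, 1, 0]) = tv 0 2 * tv 1 3 := by decide +kernel
  rw [e1]
  exact not_CP_4

theorem bbz (h : Hyp t φ) {w : G} (ht : w * t * w⁻¹ = t * φ (tv 0 3)) (hz : w * φ (tv 0 3) * w⁻¹ = φ (tv 0 3))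
    (ha : w * φ (tv 0 2) * w⁻¹ = φ (cc)) (hs : w * φ (tv 1 2) * w⁻¹ = φ (tv 1 2))
    (hb : w * φ (tv 1 3) * w⁻¹ = φ (tv 1 3)) : False := by
  have hw : Aff t φ w !![1, 0, 0, 0; 1, 1, 0, 0; 0, 0, 1, 0; 1, 0, 0, 1] ![0, 1, 0, 0] :=
    Aff.of_w ht hz ha hs hb (by (delta Cfsg.Agent.OddHalf.D5.EightAff.pz Cfsg.Agent.OddHalf.D5.EightMatB.cc Cfsg.Agent.OddHalf.D5.EightMat.tv Cfsg.Agent.OddHalf.D5.EightAff.vv; set_option synthInstance.maxSize 20000 in open scoped Cfsg.Agent.Lib.MatDec in (simp +singlePass only [Cfsg.Agent.Lib.MatDec.sw_ite]; decide +kernel)))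
  refine word h (K1 := !![1, 0, 1, 0; 0, 1, 0, 1; 1, 0, 0, 0; 0, 1, 0, 0]) (K2 := !![1, 0, 0, 0; 0, 1, 0, 0; 1, 0, 1, 0; 0, 1, 0, 1])
    (k1 := tv 1 0 * tv 0 1) (k2 := tv 1 0) (b := ![1, 0, 0, 0]) (c := ![1, 0, 0, 0])
    hw (by (delta Cfsg.Agent.OddHalf.D5.EightAff.vv Cfsg.Agent.OddHalf.D5.EightAff.pz; set_option synthInstance.maxSize 20000 in open scoped Cfsg.Agent.Lib.MatDec in (simp +singlePass only [Cfsg.Agent.Lib.MatDec.sw_ite]; decide +kernel))) (by (delta Cfsg.Agent.OddHalf.D5.EightMat.tv Cfsg.Agent.OddHalf.D5.EightAff.vv Cfsg.Agent.OddHalf.D5.EightAff.pz; set_option synthInstance.maxSize 20000 in open scoped Cfsg.Agent.Lib.MatDec in (simp +singlePass only [Cfsg.Agent.Lib.MatDec.sw_ite]; decide +kernel))) (by decide +kernel) cp_aa ?_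
  have e1 : vv ((!![1, 0, 0, 0; 1, 1, 0, 0; 0, 0, 1, 0; 1, 0, 0, 1] * (!![1, 0, 1, 0; 0, 1, 0, 1; 1, 0, 0, 0; 0, 1, 0, 0] *
      (!![1, 0, 0, 0; 1, 1, 0, 0; 0, 0, 1, 0; 1, 0, 0, 1] * (!![1, 0, 0, 0; 0, 1, 0, 0; 1, 0, 1, 0; 0, 1, 0, 1] *
      !![1, 0, 0, 0; 1, 1, 0, 0; 0, 0, 1, 0; 1, 0, 0, 1]))) : Matrix (Fin 4) (Fin 4) (ZMod 2)) *ᵥ ![1, 0, 0, 0]) = tv 0 3 * tv 1 2 := by decide +kernel
  rw [e1]
  exact not_CP_5

theorem bbo (h : Hyp t φ) {w : G} (ht : w * t * w⁻¹ = t * φ (tv 0 3)) (hz : w * φ (tv 0 3) * w⁻¹ = φ (tv 0 3))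
    (ha : w * φ (tv 0 2) * w⁻¹ = φ (cc)) (hs : w * φ (tv 1 2) * w⁻¹ = φ (tv 1 2 * tv 0 3))
    (hb : w * φ (tv 1 3) * w⁻¹ = φ (tv 1 3)) : False := by
  have hw : Aff t φ w !![1, 0, 0, 0; 1, 1, 1, 0; 0, 0, 1, 0; 1, 0, 0, 1] ![0, 1, 0, 0] :=
    Aff.of_w ht hz ha hs hb (by (delta Cfsg.Agent.OddHalf.D5.EightAff.pz Cfsg.Agent.OddHalf.D5.EightMatB.cc Cfsg.Agent.OddHalf.D5.EightMat.tv Cfsg.Agent.OddHalf.D5.EightAff.vv; set_option synthInstance.maxSize 20000 in open scoped Cfsg.Agent.Lib.MatDec in (simp +singlePass only [Cfsg.Agent.Lib.MatDec.sw_ite]; decide +kernel)))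
  refine word h (K1 := !![1, 0, 1, 0; 0, 1, 0, 1; 1, 0, 0, 0; 0, 1, 0, 0]) (K2 := !![1, 0, 0, 0; 0, 1, 0, 0; 1, 0, 1, 0; 0, 1, 0, 1])
    (k1 := tv 1 0 * tv 0 1) (k2 := tv 1 0) (b := ![1, 0, 0, 0]) (c := ![1, 0, 0, 0])
    hw (by (delta Cfsg.Agent.OddHalf.D5.EightAff.vv Cfsg.Agent.OddHalf.D5.EightAff.pz; set_option synthInstance.maxSize 20000 in open scoped Cfsg.Agent.Lib.MatDec in (simp +singlePass only [Cfsg.Agent.Lib.MatDec.sw_ite]; decide +kernel))) (by (delta Cfsg.Agent.OddHalf.D5.EightAff.vv Cfsg.Agent.OddHalf.D5.EightAff.pz; set_option synthInstance.maxSize 20000 in open scoped Cfsg.Agent.Lib.MatDec in (simp +singlePass only [Cfsg.Agent.Lib.MatDec.sw_ite]; decide +kernel))) (by decide +kernel) cp_aa ?_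
  have e1 : vv ((!![1, 0, 0, 0; 1, 1, 1, 0; 0, 0, 1, 0; 1, 0, 0, 1] * (!![1, 0, 1, 0; 0, 1, 0, 1; 1, 0, 0, 0; 0, 1, 0, 0] *
      (!![1, 0, 0, 0; 1, 1, 1, 0; 0, 0, 1, 0; 1, 0, 0, 1] * (!![1, 0, 0, 0; 0, 1, 0, 0; 1, 0, 1, 0; 0, 1, 0, 1] *
      !![1, 0, 0, 0; 1, 1, 1, 0; 0, 0, 1, 0; 1, 0, 0, 1]))) : Matrix (Fin 4) (Fin 4) (ZMod 2)) *ᵥ ![1, 0, 0, 0]) = tv 0 3 * tv 1 2 * tv 1 3 := by decide +kernel
  rw [e1]
  exact not_CP_6

end Cfsg.Agent.OddHalf.D5.EightBad
end

-- part: OddHalf/D5/EightClean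
section
/-!
# `K = SL₄(2) = A₈`, `C_G(t) = ⟨t⟩ × K`: the swap centralises `C_K(z)` (helper401)

`Wx t φ x`: `x` maps `t` to `t z` and fixes `z`.  From one such `x` we construct an involution `y` with the same property
that centralises `φ(C(z))`.
-/

set_option autoImplicit false

namespace Cfsg.Agent.OddHalf.D5.EightClean

open Matrix EightMat EightMatB EightAff

variable {G : Type*} [Group G] {t : G} {φ : S4 →* G}

/-- `x` swaps `t` and `t z` -/
structure Wx (t : G) (φ : S4 →* G) (x : G) : Prop where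
  t : x * t * x⁻¹ = t * φ (tv 0 3)
  z : x * φ (tv 0 3) * x⁻¹ = φ (tv 0 3)

theorem zz (φ : S4 →* G) : φ (tv 0 3) * φ (tv 0 3) = 1 := by rw [← map_mul, tv_sq, map_one]

/-- conjugation is compatible with commuting -/
theorem conj_comm {x a b : G} (h : a * b = b * a) : (x * a * x⁻¹) * (x * b * x⁻¹) = (x * b * x⁻¹) * (x * a * x⁻¹) := by
  calc (x * a * x⁻¹) * (x * b * x⁻¹) = x * (a * b) * x⁻¹ := by group
    _ = x * (b * a) * x⁻¹ := by rw [h]
    _ = (x * b * x⁻¹) * (x * a * x⁻¹) := by group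

theorem conj_mul {x a b : G} : x * (a * b) * x⁻¹ = (x * a * x⁻¹) * (x * b * x⁻¹) := by group

/-- conjugates of elements of `C(⟨t,z⟩)` -/
theorem Wx.cent {x : G} (W : Wx t φ x) {y : G} (hy : y * t = t * y) (hz : y * φ (tv 0 3) = φ (tv 0 3) * y) :
    (x * y * x⁻¹) * t = t * (x * y * x⁻¹) ∧ (x * y * x⁻¹) * φ (tv 0 3) = φ (tv 0 3) * (x * y * x⁻¹) := by
  have h1 := conj_comm (x := x) hy
  have h2 := conj_comm (x := x) hz
  rw [W.t] at h1
  rw [W.z] at h2
  refine ⟨?_, h2⟩
  set y' := x * y * x⁻¹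
  have e : t = (t * φ (tv 0 3)) * φ (tv 0 3) := by rw [mul_assoc, zz, mul_one]
  calc y' * t = y' * ((t * φ (tv 0 3)) * φ (tv 0 3)) := by rw [← e]
    _ = (y' * (t * φ (tv 0 3))) * φ (tv 0 3) := by group
    _ = (t * φ (tv 0 3)) * (y' * φ (tv 0 3)) := by rw [h1]; group
    _ = (t * φ (tv 0 3)) * (φ (tv 0 3) * y') := by rw [h2]
    _ = ((t * φ (tv 0 3)) * φ (tv 0 3)) * y' := by group
    _ = t * y' := by rw [← e]

/-- elements of `C(⟨t,z⟩)` -/
theorem form (h : Hyp t φ) {y : G} (hy : y * t = t * y) (hz : y * φ (tv 0 3) = φ (tv 0 3) * y) :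
    ∃ p : S4, p * tv 0 3 = tv 0 3 * p ∧ (y = φ p ∨ y = t * φ p) := by
  rcases h.cent y hy with ⟨p, rfl⟩ | ⟨p, rfl⟩
  · refine ⟨p, h.inj ?_, Or.inl rfl⟩
    rw [map_mul, map_mul, hz]
  · refine ⟨p, h.inj ?_, Or.inr rfl⟩
    rw [map_mul, map_mul]
    have h1 := h.comm (tv 0 3)
    have : t * (φ p * φ (tv 0 3)) = t * (φ (tv 0 3) * φ p) := by
      calc t * (φ p * φ (tv 0 3)) = t * φ p * φ (tv 0 3) := by group
        _ = (φ (tv 0 3) * t) * φ p := by rw [hz]; group
        _ = t * (φ (tv 0 3) * φ p) := by rw [← h1]; group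
    exact mul_left_cancel this

theorem phi_comm_t (h : Hyp t φ) (a : S4) : φ a * t = t * φ a := h.comm' a

theorem phi_comm {a b : S4} (φ : S4 →* G) (hab : a * b = b * a) : φ a * φ b = φ b * φ a := by
  rw [← map_mul, hab, map_mul]

/-- powers of `t φ p` -/
theorem cube (h : Hyp t φ) {p : S4} (e : (t * φ p) * (t * φ p) * (t * φ p) = 1) : False := by
  apply h.ne (p * p * p)⁻¹
  have h1 : (t * φ p) * (t * φ p) * (t * φ p) = t * φ (p * p * p) := by
    calc (t * φ p) * (t * φ p) * (t * φ p) = t * (φ p * t) * φ p * (t * φ p) := by group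
      _ = t * (t * φ p) * φ p * (t * φ p) := by rw [h.comm']
      _ = (t * t) * φ p * (φ p * t) * φ p := by group
      _ = (t * t) * φ p * (t * φ p) * φ p := by rw [h.comm']
      _ = (φ p * t) * φ p * φ p := by rw [h.tt, one_mul]; group
      _ = t * φ (p * p * p) := by rw [h.comm', map_mul, map_mul]; group
  rw [h1] at e
  rw [map_inv]
  exact (mul_eq_one_iff_eq_inv.1 e).symm

theorem Wx.mul_phi (h : Hyp t φ) {x : G} (W : Wx t φ x) {a : S4} (ha : a * tv 0 3 = tv 0 3 * a) : Wx t φ (φ a * x) where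
  t := by
    calc φ a * x * t * (φ a * x)⁻¹ = φ a * (x * t * x⁻¹) * (φ a)⁻¹ := by group
      _ = (φ a * t) * φ (tv 0 3) * (φ a)⁻¹ := by rw [W.t]; group
      _ = t * (φ a * φ (tv 0 3)) * (φ a)⁻¹ := by rw [h.comm']; group
      _ = t * φ (tv 0 3) := by rw [phi_comm φ ha]; group
  z := by
    calc φ a * x * φ (tv 0 3) * (φ a * x)⁻¹ = φ a * (x * φ (tv 0 3) * x⁻¹) * (φ a)⁻¹ := by group
      _ = φ (tv 0 3) := by rw [W.z, phi_comm φ ha]; group

theorem rho_z : rho * tv 0 3 = tv 0 3 * rho := by decide +kernel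

/-- **Step 1**: a swap commuting with `ρ` -/
theorem step1 (h : Hyp t φ) {x : G} (W : Wx t φ x) : ∃ x', Wx t φ x' ∧ x' * φ rho * x'⁻¹ = φ rho := by
  obtain ⟨h1, h2⟩ := W.cent (phi_comm_t h rho) (phi_comm φ rho_z)
  obtain ⟨p, hp, hy⟩ := form h h1 h2
  have h3 : (x * φ rho * x⁻¹) * (x * φ rho * x⁻¹) * (x * φ rho * x⁻¹) = 1 := by
    calc (x * φ rho * x⁻¹) * (x * φ rho * x⁻¹) * (x * φ rho * x⁻¹) = x * (φ rho * φ rho * φ rho) * x⁻¹ := by group
      _ = 1 := by rw [← map_mul, ← map_mul, rho3, map_one]; group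
  rcases hy with hy | hy
  · rw [hy, ← map_mul, ← map_mul] at h3
    have h4 : p * p * p = 1 := h.inj (h3.trans (map_one φ).symm)
    have h5 : p ≠ 1 := by
      rintro rfl
      rw [map_one, mul_inv_eq_one] at hy
      exact rho_ne (h.inj ((mul_eq_left.1 hy).trans (map_one φ).symm))
    obtain ⟨a, ha1, ha2⟩ := p1 hp h4 h5
    refine ⟨φ a * x, W.mul_phi h ha1, ?_⟩
    calc φ a * x * φ rho * (φ a * x)⁻¹ = φ a * (x * φ rho * x⁻¹) * (φ a)⁻¹ := by group
      _ = φ (a * p) * (φ a)⁻¹ := by rw [hy, map_mul]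
      _ = φ rho := by rw [ha2, map_mul]; group
  · rw [hy] at h3
    exact (cube h h3).elim

theorem s_z : tv 1 2 * tv 0 3 = tv 0 3 * tv 1 2 := by decide +kernel

theorem s_rho : tv 1 2 * rho = rho * rho * tv 1 2 := by decide +kernel

theorem s_fix0 : (1 : S4) * (tv 1 2 * 1) = tv 1 2 * 1 := by decide +kernel

theorem s_fix1 : (rho * rho) * (tv 1 2 * rho) = tv 1 2 * (rho * rho) := by decide +kernel

theorem s_fix2 : rho * (tv 1 2 * (rho * rho)) = tv 1 2 * rho := by decide +kernel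

theorem s_rr : tv 1 2 * (rho * rho) = rho * tv 1 2 := by decide +kernel

/-- the element `p` with `p ρ = ρ² p` in `C(z)` -/
theorem inv_form {p : S4} (hp : p * tv 0 3 = tv 0 3 * p) (hr : p * rho = rho * rho * p) :
    ∃ z' r r' : S4, (z' = 1 ∨ z' = tv 0 3) ∧ p = z' * (tv 1 2 * r) ∧ r' * tv 0 3 = tv 0 3 * r' ∧
      r' * rho = rho * r' ∧ r' * (tv 1 2 * r) = tv 1 2 * r' := by
  have h1 : (tv 1 2 * p) * tv 0 3 = tv 0 3 * (tv 1 2 * p) := by
    rw [mul_assoc, hp, ← mul_assoc, s_z, mul_assoc]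
  have h2 : (tv 1 2 * p) * rho = rho * (tv 1 2 * p) := by
    rw [mul_assoc, hr, ← mul_assoc, s_rr, mul_assoc]
  obtain ⟨z', r, hz', hr', h3⟩ := p2 h1 h2
  have h4 : z' * tv 1 2 = tv 1 2 * z' := by
    rcases hz' with rfl | rfl
    · rw [one_mul, mul_one]
    · exact s_z.symm
  have h5 : p = z' * (tv 1 2 * r) := by
    rw [← mul_assoc, h4, mul_assoc, ← h3, ← mul_assoc, tv_sq, one_mul]
  have hrr : rho * rho * tv 0 3 = tv 0 3 * (rho * rho) := by
    rw [mul_assoc, rho_z, ← mul_assoc, rho_z, mul_assoc]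
  rcases hr' with rfl | rfl | rfl
  · exact ⟨z', 1, 1, hz', h5, by rw [one_mul, mul_one], by rw [one_mul, mul_one], s_fix0⟩
  · exact ⟨z', rho, rho * rho, hz', h5, hrr, by rw [mul_assoc], s_fix1⟩
  · exact ⟨z', rho * rho, rho, hz', h5, rho_z, rfl, s_fix2⟩

theorem rr_comm (φ : S4 →* G) {x : G} (h : x * φ rho * x⁻¹ = φ rho) :
    x * (φ rho * φ rho) * x⁻¹ = φ rho * φ rho := by
  rw [conj_mul, h]

/-- **Step 2** -/
theorem step2 (h : Hyp t φ) {x : G} (W : Wx t φ x) (hr : x * φ rho * x⁻¹ = φ rho) :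
    ∃ w, Wx t φ w ∧ w * φ rho * w⁻¹ = φ rho ∧ ∃ z' : S4, (z' = 1 ∨ z' = tv 0 3) ∧
      (w * φ (tv 1 2) * w⁻¹ = φ (z' * tv 1 2) ∨ w * φ (tv 1 2) * w⁻¹ = t * φ (z' * tv 1 2)) := by
  obtain ⟨h1, h2⟩ := W.cent (phi_comm_t h (tv 1 2)) (phi_comm φ s_z)
  obtain ⟨p, hp, hy⟩ := form h h1 h2
  -- `y ρ = ρ² y`
  have h3 : (x * φ (tv 1 2) * x⁻¹) * φ rho = φ rho * φ rho * (x * φ (tv 1 2) * x⁻¹) := by
    calc (x * φ (tv 1 2) * x⁻¹) * φ rho = (x * φ (tv 1 2) * x⁻¹) * (x * φ rho * x⁻¹) := by rw [hr]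
      _ = x * (φ (tv 1 2) * φ rho) * x⁻¹ := by group
      _ = x * (φ rho * φ rho * φ (tv 1 2)) * x⁻¹ := by rw [← map_mul, s_rho, map_mul, map_mul]
      _ = (x * (φ rho * φ rho) * x⁻¹) * (x * φ (tv 1 2) * x⁻¹) := by group
      _ = φ rho * φ rho * (x * φ (tv 1 2) * x⁻¹) := by rw [rr_comm φ hr]
  have hpr : p * rho = rho * rho * p := by
    apply h.inj
    rw [map_mul, map_mul, map_mul]
    rcases hy with hy | hy
    · rwa [hy] at h3
    · rw [hy] at h3
      have h4 : t * (φ p * φ rho) = t * (φ rho * φ rho * φ p) := by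
        calc t * (φ p * φ rho) = t * φ p * φ rho := by group
          _ = φ rho * φ rho * (t * φ p) := h3
          _ = (φ (rho * rho) * t) * φ p := by rw [map_mul]; group
          _ = t * (φ rho * φ rho * φ p) := by rw [h.comm', map_mul]; group
      exact mul_left_cancel h4
  obtain ⟨z', r, r', hz', hpe, hr1, hr2, hr3⟩ := inv_form hp hpr
  have hz'c : r' * z' = z' * r' := by
    rcases hz' with rfl | rfl
    · rw [one_mul, mul_one]
    · exact hr1
  have key : φ r' * φ p * (φ r')⁻¹ = φ (z' * tv 1 2) := by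
    rw [mul_inv_eq_iff_eq_mul, ← map_mul, ← map_mul, hpe, ← mul_assoc, hz'c, mul_assoc, hr3, mul_assoc]
  refine ⟨φ r' * x, W.mul_phi h hr1, ?_, z', hz', ?_⟩
  · calc φ r' * x * φ rho * (φ r' * x)⁻¹ = φ r' * (x * φ rho * x⁻¹) * (φ r')⁻¹ := by group
      _ = φ rho := by rw [hr, ← map_mul, hr2, map_mul]; group
  · have e : φ r' * x * φ (tv 1 2) * (φ r' * x)⁻¹ = φ r' * (x * φ (tv 1 2) * x⁻¹) * (φ r')⁻¹ := by group
    rcases hy with hy | hy
    · left
      rw [e, hy, key]
    · right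
      rw [e, hy, ← key]
      calc φ r' * (t * φ p) * (φ r')⁻¹ = (φ r' * t) * φ p * (φ r')⁻¹ := by group
        _ = t * (φ r' * φ p * (φ r')⁻¹) := by rw [h.comm']; group

theorem zs_comm : (tv 3 2 * tv 0 1) * (tv 1 3 * tv 0 3) =
      (tv 0 3 * tv 1 2) * ((tv 1 3 * tv 0 3) * (tv 3 2 * tv 0 1)) ∧
    (tv 3 2 * tv 0 1) * (tv 0 3 * tv 1 2) = (tv 0 3 * tv 1 2) * (tv 3 2 * tv 0 1) ∧
    (tv 1 3 * tv 0 3) * (tv 0 3 * tv 1 2) = (tv 0 3 * tv 1 2) * (tv 1 3 * tv 0 3) := by decide +kernel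

/-- **Step 3**: `D ∩ K = ∅` -/
theorem step3 (h : Hyp t φ) {w : G} (W : Wx t φ w) {z' : S4} (hz' : z' = 1 ∨ z' = tv 0 3)
    (hs : w * φ (tv 1 2) * w⁻¹ = t * φ (z' * tv 1 2)) : False := by
  -- `s t` is conjugate to `t`
  obtain ⟨k, hk⟩ := conj_tv 1 2 (by decide)
  have h1 : φ k * (t * φ (tv 0 3)) * (φ k)⁻¹ = t * φ (tv 1 2) := by
    rw [mul_inv_eq_iff_eq_mul, ← mul_assoc, h.comm', mul_assoc, mul_assoc, ← map_mul, ← map_mul, hk]
  have h2 : (w * φ k * w) * t * (w * φ k * w)⁻¹ = (w * t * w⁻¹) * (w * φ (tv 1 2) * w⁻¹) := by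
    calc (w * φ k * w) * t * (w * φ k * w)⁻¹ = w * (φ k * (w * t * w⁻¹) * (φ k)⁻¹) * w⁻¹ := by group
      _ = w * (t * φ (tv 1 2)) * w⁻¹ := by rw [W.t, h1]
      _ = _ := by group
  have h3 : (w * t * w⁻¹) * (w * φ (tv 1 2) * w⁻¹) = φ (tv 0 3 * (z' * tv 1 2)) := by
    rw [W.t, hs, map_mul φ (tv 0 3) (z' * tv 1 2)]
    calc t * φ (tv 0 3) * (t * φ (z' * tv 1 2)) = t * (φ (tv 0 3) * t) * φ (z' * tv 1 2) := by group
      _ = (t * t) * φ (tv 0 3) * φ (z' * tv 1 2) := by rw [h.comm']; group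
      _ = φ (tv 0 3) * φ (z' * tv 1 2) := by rw [h.tt, one_mul]
  rw [h3] at h2
  rcases hz' with rfl | rfl
  · rw [one_mul] at h2
    obtain ⟨e1, e2, e3⟩ := zs_comm
    exact h.not_conj e1 e2 e3 h2
  · rw [← mul_assoc, tv_sq, one_mul] at h2
    obtain ⟨e1, e2, e3⟩ := s_comm
    exact h.not_conj e1 e2 e3 h2

theorem prod3 : ∀ i : Fin 3, (![tv 0 2, tv 1 3, cc] i) * (rho * (![tv 0 2, tv 1 3, cc] i) * (rho * rho)) *
    ((rho * rho) * (![tv 0 2, tv 1 3, cc] i) * rho) = 1 := by (delta Cfsg.Agent.OddHalf.D5.EightMatB.cc Cfsg.Agent.OddHalf.D5.EightMatB.rho; set_option synthInstance.maxSize 20000 in open scoped Cfsg.Agent.Lib.MatDec in decide +kernel)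

theorem sq3 : ∀ i : Fin 3, (![tv 0 2, tv 1 3, cc] i) * (![tv 0 2, tv 1 3, cc] i) = 1 := by decide +kernel

theorem s3 : ∀ i : Fin 3, (![tv 0 2, tv 1 3, cc] i) * tv 1 2 = tv 1 2 * (![tv 0 2, tv 1 3, cc] i) := by decide +kernel

theorem z3 : ∀ i : Fin 3, (![tv 0 2, tv 1 3, cc] i) * tv 0 3 = tv 0 3 * (![tv 0 2, tv 1 3, cc] i) := by decide +kernel

/-- **Step 4**: the image of `a = x₁₃` under `w` -/
theorem step4 (h : Hyp t φ) {w : G} (W : Wx t φ w) (hr : w * φ rho * w⁻¹ = φ rho) {z' : S4}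
    (hz' : z' = 1 ∨ z' = tv 0 3) (hs : w * φ (tv 1 2) * w⁻¹ = φ (z' * tv 1 2)) {a : S4}
    (ha3 : a * (rho * a * (rho * rho)) * ((rho * rho) * a * rho) = 1) (ha2 : a * a = 1)
    (has : a * tv 1 2 = tv 1 2 * a) (haz : a * tv 0 3 = tv 0 3 * a) (ha1 : a ≠ 1) :
    w * φ a * w⁻¹ = φ (tv 0 2) ∨ w * φ a * w⁻¹ = φ (tv 1 3) ∨ w * φ a * w⁻¹ = φ cc := by
  obtain ⟨h1, h2⟩ := W.cent (phi_comm_t h a) (phi_comm φ haz)
  obtain ⟨p, hp, hy⟩ := form h h1 h2
  have hrr := rr_comm φ hr
  -- the product of the three conjugates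
  have h3 : (w * φ a * w⁻¹) * (φ rho * (w * φ a * w⁻¹) * (φ rho * φ rho)) *
      ((φ rho * φ rho) * (w * φ a * w⁻¹) * φ rho) = 1 := by
    calc (w * φ a * w⁻¹) * (φ rho * (w * φ a * w⁻¹) * (φ rho * φ rho)) *
        ((φ rho * φ rho) * (w * φ a * w⁻¹) * φ rho)
        = (w * φ a * w⁻¹) * ((w * φ rho * w⁻¹) * (w * φ a * w⁻¹) * (w * (φ rho * φ rho) * w⁻¹)) *
        ((w * (φ rho * φ rho) * w⁻¹) * (w * φ a * w⁻¹) * (w * φ rho * w⁻¹)) := by rw [hr, hrr]
      _ = w * (φ a * (φ rho * φ a * (φ rho * φ rho)) * ((φ rho * φ rho) * φ a * φ rho)) * w⁻¹ := by group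
      _ = w * φ (a * (rho * a * (rho * rho)) * ((rho * rho) * a * rho)) * w⁻¹ := by simp only [map_mul]
      _ = 1 := by rw [ha3, map_one]; group
  have hy' : w * φ a * w⁻¹ = φ p := by
    rcases hy with hy | hy
    · exact hy
    · exfalso
      rw [hy] at h3
      have h4 : (t * φ p) * (φ rho * (t * φ p) * (φ rho * φ rho)) * ((φ rho * φ rho) * (t * φ p) * φ rho) =
          t * φ (p * (rho * p * (rho * rho)) * ((rho * rho) * p * rho)) := by
        have c := h.comm'
        have ct : ∀ (u : S4) (v : G), φ u * (t * v) = t * (φ u * v) := fun u v => by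
          rw [← mul_assoc, c, mul_assoc]
        simp only [map_mul, mul_assoc, ct]
        rw [← mul_assoc t t, h.tt, one_mul]
      rw [h4] at h3
      apply h.ne (p * (rho * p * (rho * rho)) * ((rho * rho) * p * rho))⁻¹
      rw [map_inv]
      exact (mul_eq_one_iff_eq_inv.1 h3).symm
  rw [hy'] at h3 ⊢
  have hp3 : p * (rho * p * (rho * rho)) * ((rho * rho) * p * rho) = 1 := by
    apply h.inj
    rw [map_one, ← h3]
    simp only [map_mul]
  have hp2 : p * p = 1 := by
    apply h.inj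
    rw [map_mul, ← hy', ← conj_mul, ← map_mul, ha2, map_one]; group
  have hz's : z' * p = p * z' := by
    rcases hz' with rfl | rfl
    · rw [one_mul, mul_one]
    · exact hp.symm
  have hps : p * tv 1 2 = tv 1 2 * p := by
    have h5 : p * (z' * tv 1 2) = (z' * tv 1 2) * p := by
      apply h.inj
      rw [map_mul φ p (z' * tv 1 2), map_mul φ (z' * tv 1 2) p, ← hy', ← hs]
      exact conj_comm (phi_comm φ has)
    have h6 : z' * (p * tv 1 2) = z' * (tv 1 2 * p) := by
      rw [← mul_assoc, hz's, mul_assoc, h5, mul_assoc]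
    exact mul_left_cancel h6
  rcases p3 hp hp2 hps hp3 with rfl | rfl | rfl | rfl
  · exfalso
    rw [map_one, mul_inv_eq_one] at hy'
    exact ha1 (h.inj ((mul_eq_left.1 hy').trans (map_one φ).symm))
  · exact Or.inl rfl
  · exact Or.inr (Or.inl rfl)
  · exact Or.inr (Or.inr rfl)

theorem a_ne : tv 0 2 ≠ 1 ∧ tv 1 3 ≠ 1 ∧ tv 0 2 ≠ tv 1 3 ∧ tv 0 2 ≠ cc ∧ tv 1 3 ≠ cc := by decide +kernel

theorem cc_facts : tv 0 2 * tv 1 3 * tv 0 3 = cc ∧ tv 0 2 * cc * tv 0 3 = tv 1 3 ∧ cc * tv 1 3 * tv 0 3 = tv 0 2 ∧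
    tv 1 3 * cc * tv 0 3 = tv 0 2 ∧ cc * tv 0 2 * tv 0 3 = tv 1 3 := by (delta Cfsg.Agent.OddHalf.D5.EightMatB.cc; set_option synthInstance.maxSize 20000 in open scoped Cfsg.Agent.Lib.MatDec in decide +kernel)

theorem not_rho : ∀ i : Fin 3, (![1, rho, rho * rho] i) * tv 0 2 ≠ tv 1 3 * (![1, rho, rho * rho] i) ∧
    (![1, rho, rho * rho] i) * tv 0 2 ≠ cc * (![1, rho, rho * rho] i) := by
  decide +kernel

/-- `w²` does not move `a` to `b` or `c` -/
theorem sq_act (h : Hyp t φ) {w : G} (W : Wx t φ w) (hr : w * φ rho * w⁻¹ = φ rho) {b : S4}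
    (hb : w * (w * φ (tv 0 2) * w⁻¹) * w⁻¹ = φ b) (h1 : b = tv 1 3 ∨ b = cc) : False := by
  have hwt : (w * w) * t = t * (w * w) := by
    rw [← mul_inv_eq_iff_eq_mul]
    calc w * w * t * (w * w)⁻¹ = w * (w * t * w⁻¹) * w⁻¹ := by group
      _ = w * (t * φ (tv 0 3)) * w⁻¹ := by rw [W.t]
      _ = (w * t * w⁻¹) * (w * φ (tv 0 3) * w⁻¹) := by group
      _ = t := by rw [W.t, W.z, mul_assoc, zz, mul_one]
  have hwz : (w * w) * φ (tv 0 3) = φ (tv 0 3) * (w * w) := by
    rw [← mul_inv_eq_iff_eq_mul]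
    calc w * w * φ (tv 0 3) * (w * w)⁻¹ = w * (w * φ (tv 0 3) * w⁻¹) * w⁻¹ := by group
      _ = φ (tv 0 3) := by rw [W.z, W.z]
  have hwr : (w * w) * φ rho = φ rho * (w * w) := by
    rw [← mul_inv_eq_iff_eq_mul]
    calc w * w * φ rho * (w * w)⁻¹ = w * (w * φ rho * w⁻¹) * w⁻¹ := by group
      _ = φ rho := by rw [hr, hr]
  obtain ⟨p, hp, hy⟩ := form h hwt hwz
  have hpr : p * rho = rho * p := by
    apply h.inj
    rw [map_mul, map_mul]
    rcases hy with hy | hy
    · rwa [hy] at hwr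
    · rw [hy] at hwr
      have h4 : t * (φ p * φ rho) = t * (φ rho * φ p) := by
        calc t * (φ p * φ rho) = t * φ p * φ rho := by group
          _ = φ rho * (t * φ p) := hwr
          _ = (φ rho * t) * φ p := by group
          _ = t * (φ rho * φ p) := by rw [h.comm']; group
      exact mul_left_cancel h4
  obtain ⟨z', r, hz', hr', rfl⟩ := p2 hp hpr
  have hb' : (w * w) * φ (tv 0 2) = φ b * (w * w) := by
    rw [← mul_inv_eq_iff_eq_mul, ← hb]; group
  have hb2 : (z' * r) * tv 0 2 = b * (z' * r) := by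
    apply h.inj
    rw [map_mul φ (z' * r) (tv 0 2), map_mul φ b (z' * r)]
    rcases hy with hy | hy
    · rwa [hy] at hb'
    · rw [hy] at hb'
      have h4 : t * (φ (z' * r) * φ (tv 0 2)) = t * (φ b * φ (z' * r)) := by
        calc t * (φ (z' * r) * φ (tv 0 2)) = t * φ (z' * r) * φ (tv 0 2) := by group
          _ = φ b * (t * φ (z' * r)) := hb'
          _ = (φ b * t) * φ (z' * r) := by group
          _ = t * (φ b * φ (z' * r)) := by rw [h.comm']; group
      exact mul_left_cancel h4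
  have hzb : z' * b = b * z' := by
    rcases hz' with rfl | rfl
    · rw [one_mul, mul_one]
    · rcases h1 with rfl | rfl
      · exact (z3 1).symm
      · exact (z3 2).symm
  have h5 : r * tv 0 2 = b * r := by
    have h6 : z' * (r * tv 0 2) = z' * (b * r) := by
      rw [← mul_assoc, hb2, ← mul_assoc, ← mul_assoc, hzb]
    exact mul_left_cancel h6
  rcases hr' with rfl | rfl | rfl <;> rcases h1 with rfl | rfl
  · exact (not_rho 0).1 h5
  · exact (not_rho 0).2 h5
  · exact (not_rho 1).1 h5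
  · exact (not_rho 1).2 h5
  · exact (not_rho 2).1 h5
  · exact (not_rho 2).2 h5

/-- **Step 5**: `w` centralises `a`, `b`, `s` -/
theorem step5 (h : Hyp t φ) {w : G} (W : Wx t φ w) (hr : w * φ rho * w⁻¹ = φ rho) {z' : S4}
    (hz' : z' = 1 ∨ z' = tv 0 3) (hs : w * φ (tv 1 2) * w⁻¹ = φ (z' * tv 1 2)) :
    w * φ (tv 0 2) * w⁻¹ = φ (tv 0 2) ∧ w * φ (tv 1 3) * w⁻¹ = φ (tv 1 3) ∧
      w * φ (tv 1 2) * w⁻¹ = φ (tv 1 2) := by
  obtain ⟨n1, n2, n3, n4, n5⟩ := a_ne
  obtain ⟨c1, c2, c3, c4, c5⟩ := cc_facts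
  have fa := step4 h W hr hz' hs (prod3 0) (sq3 0) (s3 0) (z3 0) n1
  have fb := step4 h W hr hz' hs (prod3 1) (sq3 1) (s3 1) (z3 1) n2
  change w * φ (tv 0 2) * w⁻¹ = φ (tv 0 2) ∨ w * φ (tv 0 2) * w⁻¹ = φ (tv 1 3) ∨ w * φ (tv 0 2) * w⁻¹ = φ cc at fa
  change w * φ (tv 1 3) * w⁻¹ = φ (tv 0 2) ∨ w * φ (tv 1 3) * w⁻¹ = φ (tv 1 3) ∨ w * φ (tv 1 3) * w⁻¹ = φ cc at fb
  have fc : w * φ cc * w⁻¹ = (w * φ (tv 0 2) * w⁻¹) * (w * φ (tv 1 3) * w⁻¹) * φ (tv 0 3) := by
    rw [← c1, map_mul, map_mul, conj_mul, conj_mul, W.z]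
  have inj : ∀ u v : S4, w * φ u * w⁻¹ = w * φ v * w⁻¹ → u = v := fun u v e =>
    h.inj (mul_left_cancel (mul_right_cancel e))
  have hs0 : z' = 1 → w * φ (tv 1 2) * w⁻¹ = φ (tv 1 2) := fun e => by rw [hs, e, one_mul]
  have hs1 : z' = tv 0 3 → w * φ (tv 1 2) * w⁻¹ = φ (tv 1 2 * tv 0 3) := fun e => by rw [hs, e, s_z]
  rcases fa with fa | fa | fa <;> rcases fb with fb | fb | fb
  · exact absurd (inj _ _ (fa.trans fb.symm)) n3
  · rcases hz' with e | e
    · exact ⟨fa, fb, hs0 e⟩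
    · exact (EightBad.idone h W.t W.z fa (hs1 e) fb).elim
  · rcases hz' with e | e
    · exact (EightBad.aaz h W.t W.z fa (hs0 e) fb).elim
    · exact (EightBad.aao h W.t W.z fa (hs1 e) fb).elim
  · rcases hz' with e | e
    · exact (EightBad.swz h W.t W.z fa (hs0 e) fb).elim
    · exact (EightBad.swo h W.t W.z fa (hs1 e) fb).elim
  · exact absurd (inj _ _ (fa.trans fb.symm)) n3
  · -- `a → b → c`
    exfalso
    refine sq_act h W hr (b := cc) ?_ (Or.inr rfl)
    rw [fa, fb]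
  · -- `a → c → b`
    exfalso
    refine sq_act h W hr (b := tv 1 3) ?_ (Or.inl rfl)
    rw [fa, fc, fa, fb, ← map_mul, ← map_mul, c5]
  · rcases hz' with e | e
    · exact (EightBad.bbz h W.t W.z fa (hs0 e) fb).elim
    · exact (EightBad.bbo h W.t W.z fa (hs1 e) fb).elim
  · exact absurd (inj _ _ (fa.trans fb.symm)) n3

theorem gen_facts : tv 2 1 = tv 1 2 * rho ∧ tv 0 1 = tv 0 2 * tv 2 1 * tv 0 2 * tv 2 1 ∧
    tv 2 3 = tv 2 1 * tv 1 3 * tv 2 1 * tv 1 3 := by decide +kernel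

/-- `w` centralises `C_K(z)` -/
theorem cent_P {w : G} (h03 : w * φ (tv 0 3) = φ (tv 0 3) * w) (h13 : w * φ (tv 1 3) = φ (tv 1 3) * w)
    (h12 : w * φ (tv 1 2) = φ (tv 1 2) * w) (h02 : w * φ (tv 0 2) = φ (tv 0 2) * w)
    (hr : w * φ rho = φ rho * w) {c : S4} (hc : c * tv 0 3 = tv 0 3 * c) : w * φ c = φ c * w := by
  obtain ⟨g1, g2, g3⟩ := gen_facts
  let S : Subgroup S4 := (Subgroup.centralizer ({w} : Set G)).comap φ
  have hS : ∀ c, c ∈ S ↔ w * φ c = φ c * w := fun c => by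
    rw [Subgroup.mem_comap, Subgroup.mem_centralizer_singleton_iff]
    exact eq_comm
  have m12 : tv 1 2 ∈ S := (hS _).2 h12
  have m02 : tv 0 2 ∈ S := (hS _).2 h02
  have m13 : tv 1 3 ∈ S := (hS _).2 h13
  have m21 : tv 2 1 ∈ S := by rw [g1]; exact mul_mem m12 ((hS _).2 hr)
  have m01 : tv 0 1 ∈ S := by rw [g2]; exact mul_mem (mul_mem (mul_mem m02 m21) m02) m21
  have m23 : tv 2 3 ∈ S := by rw [g3]; exact mul_mem (mul_mem (mul_mem m21 m13) m21) m13
  exact (hS _).1 (EightUp.P_le ((hS _).2 h03) m13 m23 m12 m21 m01 m02 hc)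

/-- **The swap.** -/
theorem main (h : Hyp t φ) {x : G} (W0 : Wx t φ x) :
    ∃ y : G, y * y = 1 ∧ y * t * y = t * φ (tv 0 3) ∧ ∀ c : S4, c * tv 0 3 = tv 0 3 * c → y * φ c = φ c * y := by
  obtain ⟨x1, W1, hr1⟩ := step1 h W0
  obtain ⟨w, W, hr, z', hz', hs | hs⟩ := step2 h W1 hr1
  swap
  · exact (step3 h W hz' hs).elim
  obtain ⟨ha, hb, hs'⟩ := step5 h W hr hz' hs
  have toc : ∀ u : S4, w * φ u * w⁻¹ = φ u → w * φ u = φ u * w := fun u e => by
    rwa [mul_inv_eq_iff_eq_mul] at e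
  have hP : ∀ c : S4, c * tv 0 3 = tv 0 3 * c → w * φ c = φ c * w := fun c hc =>
    cent_P (toc _ W.z) (toc _ hb) (toc _ hs') (toc _ ha) (toc _ hr) hc
  have hwt : w * t = t * φ (tv 0 3) * w := by
    have := W.t
    rwa [mul_inv_eq_iff_eq_mul] at this
  have hzw : φ (tv 0 3) * w = w * φ (tv 0 3) := (toc _ W.z).symm
  -- `w² ∈ {1, z}`
  have hww : w * w = 1 ∨ w * w = φ (tv 0 3) := by
    have hwwt : (w * w) * t = t * (w * w) := by
      calc w * w * t = w * (w * t) := by group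
        _ = w * (t * φ (tv 0 3) * w) := by rw [hwt]
        _ = (w * t) * (φ (tv 0 3) * w) := by group
        _ = (t * φ (tv 0 3) * w) * (w * φ (tv 0 3)) := by rw [hwt, hzw]
        _ = t * φ (tv 0 3) * w * (φ (tv 0 3) * w) := by rw [hzw]
        _ = t * φ (tv 0 3) * (w * φ (tv 0 3)) * w := by group
        _ = t * φ (tv 0 3) * (φ (tv 0 3) * w) * w := by rw [hzw]
        _ = t * (φ (tv 0 3) * φ (tv 0 3)) * (w * w) := by group
        _ = t * (w * w) := by rw [zz, mul_one]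
    have hwwz : (w * w) * φ (tv 0 3) = φ (tv 0 3) * (w * w) := by
      rw [mul_assoc, ← hzw, ← mul_assoc, ← hzw, mul_assoc]
    obtain ⟨p, hp, hy⟩ := form h hwwt hwwz
    have hpc : ∀ c : S4, c * tv 0 3 = tv 0 3 * c → p * c = c * p := by
      intro c hc
      have h1 : (w * w) * φ c = φ c * (w * w) := by
        rw [mul_assoc, hP c hc, ← mul_assoc, hP c hc, mul_assoc]
      apply h.inj
      rw [map_mul, map_mul]
      rcases hy with hy | hy
      · rwa [hy] at h1
      · rw [hy] at h1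
        have h4 : t * (φ p * φ c) = t * (φ c * φ p) := by
          calc t * (φ p * φ c) = t * φ p * φ c := by group
            _ = φ c * (t * φ p) := h1
            _ = (φ c * t) * φ p := by group
            _ = t * (φ c * φ p) := by rw [h.comm']; group
        exact mul_left_cancel h4
    have h0 : p = 1 ∨ p = tv 0 3 := by
      apply K1 (by decide) p
      · intro l hl
        apply hpc
        apply tv_comm
        · exact hl.symm
        · decide
        · exact hl
        · decide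
      · intro l hl
        apply hpc
        apply tv_comm
        · exact hl
        · decide
        · decide
        · exact hl.symm
    rcases hy with hy | hy
    · rcases h0 with rfl | rfl
      · left; rw [hy, map_one]
      · right; exact hy
    · exfalso
      -- `w` commutes with `w²`, not with `t`, `t z`
      have h2 : w * (t * φ p) = (t * φ p) * w := by rw [← hy]; group
      have h3 : w * φ p = φ p * w := by
        rcases h0 with rfl | rfl
        · rw [map_one]; group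
        · exact hzw.symm
      have h4 : w * t = t * w := by
        have h5 : (w * t) * φ p = (t * w) * φ p := by
          calc (w * t) * φ p = w * (t * φ p) := by group
            _ = t * (φ p * w) := by rw [h2]; group
            _ = (t * w) * φ p := by rw [← h3]; group
        exact mul_right_cancel h5
      rw [hwt] at h4
      have h5 : φ (tv 0 3) = 1 := by
        have h6 : t * φ (tv 0 3) * w = t * 1 * w := by rw [mul_one]; exact h4
        exact mul_left_cancel (mul_right_cancel h6)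
      exact tv_ne_one 0 3 (by decide) (h.inj (h5.trans (map_one φ).symm))
  rcases hww with hww | hww
  · refine ⟨w, hww, ?_, hP⟩
    rw [hwt, mul_assoc, hww, mul_one]
  · have htw : t * w = φ (tv 0 3) * w * t := by
      calc t * w = t * (φ (tv 0 3) * φ (tv 0 3)) * w := by rw [zz, mul_one]
        _ = (t * φ (tv 0 3)) * (φ (tv 0 3) * w) := by group
        _ = (φ (tv 0 3) * t) * (φ (tv 0 3) * w) := by rw [h.comm]
        _ = φ (tv 0 3) * (t * φ (tv 0 3) * w) := by group
        _ = φ (tv 0 3) * w * t := by rw [← hwt]; group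
    refine ⟨w * t, ?_, ?_, ?_⟩
    · calc w * t * (w * t) = w * (t * w) * t := by group
        _ = (w * φ (tv 0 3)) * w * (t * t) := by rw [htw]; group
        _ = φ (tv 0 3) * (w * w) := by rw [h.tt, mul_one, ← hzw]; group
        _ = 1 := by rw [hww, zz]
    · calc w * t * t * (w * t) = w * (t * t) * w * t := by group
        _ = φ (tv 0 3) * t := by rw [h.tt, mul_one, hww]
        _ = t * φ (tv 0 3) := (h.comm _).symm
    · intro c hc
      rw [mul_assoc, h.comm, ← mul_assoc, hP c hc, mul_assoc]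

end Cfsg.Agent.OddHalf.D5.EightClean
end

-- part: OddHalf/D5/EightFrame
section
/-!
# `C_G(t) = ⟨t⟩ × SL₄(2)`: the frame and the swap (helper401)
-/

set_option autoImplicit false

namespace Cfsg.Agent.OddHalf.D5.EightFrame

open Subgroup EightMat EightMatB EightAff EightUp EightClean
open Cfsg.Agent.OddHalf.TR

variable {G : Type*} [Group G] {t : G} {φ : S4 →* G}

theorem tphi (h : Hyp t φ) (a b : S4) : (t * φ a) * (t * φ b) = φ (a * b) := by
  calc (t * φ a) * (t * φ b) = t * (φ a * t) * φ b := by group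
    _ = (t * t) * (φ a * φ b) := by rw [h.comm']; group
    _ = φ (a * b) := by rw [h.tt, one_mul, map_mul]

theorem tphi' (h : Hyp t φ) (a b : S4) : φ a * (t * φ b) = t * φ (a * b) := by
  rw [← mul_assoc, h.comm', mul_assoc, map_mul]

/-- `⟨t⟩ × φ(A)` -/
def TT (h : Hyp t φ) (A : Subgroup S4) : Subgroup G where
  carrier := {g | ∃ u ∈ A, g = φ u ∨ g = t * φ u}
  one_mem' := ⟨1, A.one_mem, Or.inl (map_one φ).symm⟩
  mul_mem' := by
    rintro _ _ ⟨u, hu, rfl | rfl⟩ ⟨v, hv, rfl | rfl⟩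
    · exact ⟨u * v, A.mul_mem hu hv, Or.inl (map_mul φ u v).symm⟩
    · exact ⟨u * v, A.mul_mem hu hv, Or.inr (tphi' h u v)⟩
    · exact ⟨u * v, A.mul_mem hu hv, Or.inr (by rw [map_mul, mul_assoc])⟩
    · exact ⟨u * v, A.mul_mem hu hv, Or.inl (tphi h u v)⟩
  inv_mem' := by
    rintro _ ⟨u, hu, rfl | rfl⟩
    · exact ⟨u⁻¹, A.inv_mem hu, Or.inl (map_inv φ u).symm⟩
    · refine ⟨u⁻¹, A.inv_mem hu, Or.inr ?_⟩
      rw [inv_eq_iff_mul_eq_one, tphi h, mul_inv_cancel, map_one]

theorem phi_mem (h : Hyp t φ) {A : Subgroup S4} {u : S4} (hu : u ∈ A) : φ u ∈ TT h A := ⟨u, hu, Or.inl rfl⟩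

theorem t_mem (h : Hyp t φ) (A : Subgroup S4) : t ∈ TT h A := ⟨1, A.one_mem, Or.inr (by rw [map_one, mul_one])⟩

theorem comm_t (h : Hyp t φ) {A : Subgroup S4} {g : G} (hg : g ∈ TT h A) : g * t = t * g := by
  obtain ⟨u, -, rfl | rfl⟩ := hg
  · exact h.comm' u
  · rw [mul_assoc, h.comm']

/-- `T` is a 2-group -/
theorem pT (h : Hyp t φ) {A : Subgroup S4} (hA : IsPGroup 2 A) : IsPGroup 2 (TT h A) := by
  rintro ⟨g, u, hu, hg⟩
  obtain ⟨k, hk⟩ := hA ⟨u, hu⟩
  have hk' : u ^ 2 ^ k = 1 := congrArg Subtype.val hk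
  refine ⟨k + 1, Subtype.ext ?_⟩
  show g ^ 2 ^ (k + 1) = 1
  rw [pow_succ', pow_mul]
  have h2 : g ^ 2 = φ (u ^ 2) := by
    rw [pow_two, pow_two]
    rcases hg with rfl | rfl
    · rw [map_mul]
    · exact tphi h u u
  rw [h2, ← map_pow, ← pow_mul, mul_comm, pow_mul, hk', one_pow, map_one]

theorem pU : IsPGroup 2 U := IsPGroup.of_card (n := 6) (by rw [card_U]; norm_num)

/-- `U` is a Sylow subgroup -/
theorem U_max {P : Subgroup S4} (hP : IsPGroup 2 P) (hle : U ≤ P) : P ≤ U := by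
  have hfin : Finite S4 := Nat.finite_of_card_ne_zero (by rw [card_S4]; norm_num)
  have h1 : Nat.card P ∣ 20160 := by rw [← card_S4]; exact card_subgroup_dvd_card P
  obtain ⟨n, hn⟩ := IsPGroup.iff_card.1 hP
  rw [hn] at h1
  have h2 : n ≤ 6 := by
    by_contra hlt
    have h3 : 2 ^ 7 ∣ 20160 := (pow_dvd_pow 2 (by omega)).trans h1
    norm_num at h3
  have h4 : Nat.card P ≤ Nat.card U := by
    rw [hn, card_U]
    calc 2 ^ n ≤ 2 ^ 6 := Nat.pow_le_pow_right (by norm_num) h2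
      _ = 64 := by norm_num
  exact (Subgroup.eq_of_le_of_card_ge hle h4).ge

theorem x_comm : tv 0 1 * tv 1 3 = tv 0 3 * (tv 1 3 * tv 0 1) ∧ tv 0 1 * tv 0 3 = tv 0 3 * tv 0 1 ∧
    tv 1 3 * tv 0 3 = tv 0 3 * tv 1 3 := by decide +kernel

/-- the frame -/
theorem frame [Finite G] (h : Hyp t φ) : Frame t (φ (tv 0 3)) (TT h U) where
  tt := h.tt
  zz := zz φ
  t1 := h.t1
  z1 := fun e => tv_ne_one 0 3 (by decide) (h.inj (e.trans (map_one φ).symm))
  ne := h.ne _
  pT := pT h pU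
  tT := t_mem h U
  tc := fun _ hx => comm_t h hx
  zT := phi_mem h (tv_mem_U (by decide))
  zc := by
    have hz : ∀ u ∈ U, u * tv 0 3 = tv 0 3 * u := by
      intro u hu
      have h1 : U ≤ centralizer ({tv 0 3} : Set S4) := by
        apply U_le
        intro i j hij
        rw [mem_centralizer_singleton_iff]
        apply tv_comm
        · exact hij.ne
        · decide
        · intro e
          rw [e] at hij
          exact absurd hij (by omega)
        · intro e
          rw [← e] at hij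
          exact absurd hij (by omega)
      exact mem_centralizer_singleton_iff.1 (h1 hu)
    rintro x ⟨u, hu, rfl | rfl⟩
    · exact phi_comm φ (hz u hu)
    · rw [mul_assoc, phi_comm φ (hz u hu), ← mul_assoc, ← mul_assoc, h.comm]
  max := by
    intro P hP hle hc g hg
    have h1 : P.comap φ ≤ U := by
      apply U_max
      · exact hP.comap_of_injective φ h.inj
      · intro u hu
        exact hle (phi_mem h hu)
    rcases h.cent g (hc g hg) with ⟨a, rfl⟩ | ⟨a, rfl⟩
    · exact phi_mem h (h1 hg)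
    · refine ⟨a, h1 ?_, Or.inr rfl⟩
      have h2 : t * (t * φ a) ∈ P := P.mul_mem (hle (t_mem h U)) hg
      rw [← mul_assoc, h.tt, one_mul] at h2
      exact h2
  om := by
    intro y hy hc _
    obtain ⟨u, hu, hy⟩ := hy
    have hcu : ∀ v ∈ U, u * v = v * u := by
      intro v hv
      apply h.inj
      have h1 := hc (φ v) (phi_mem h hv)
      rw [map_mul, map_mul]
      rcases hy with rfl | rfl
      · exact h1.symm
      · have h4 : t * (φ v * φ u) = t * (φ u * φ v) := by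
          calc t * (φ v * φ u) = (φ v * t) * φ u := by rw [h.comm']; group
            _ = t * φ u * φ v := by rw [← h1]; group
            _ = t * (φ u * φ v) := by group
        exact (mul_left_cancel h4).symm
    have h0 : u = 1 ∨ u = tv 0 3 := by
      apply K1 (by decide) u
      · intro l hl
        apply hcu
        apply tv_mem_U
        exact Fin.pos_of_ne_zero hl
      · intro l hl
        apply hcu
        apply tv_mem_U
        omega
    rcases h0 with rfl | rfl <;> rcases hy with rfl | rfl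
    · left; exact map_one φ
    · right; left; rw [map_one, mul_one]
    · right; right; left; rfl
    · right; right; right; rfl
  iso := by
    intro g h1 h2
    have hz1 : φ (tv 0 3) ≠ 1 := fun e => tv_ne_one 0 3 (by decide) (h.inj (e.trans (map_one φ).symm))
    have hzt : φ (tv 0 3) ≠ t := h.ne _
    have inj : ∀ c d : G, g * c * g⁻¹ = g * d * g⁻¹ → c = d :=
      fun c d e => mul_left_cancel (mul_right_cancel e)
    -- `t` is a product of the images
    have hzz := zz φ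
    have hct := h.comm (tv 0 3)
    -- an element commuting with `t` and `z` is mapped to an element commuting with `t`
    have hc : ∀ u : S4, u * tv 0 3 = tv 0 3 * u → (g * φ u * g⁻¹) * t = t * (g * φ u * g⁻¹) := by
      intro u hu
      have e1 := conj_comm (x := g) (h.comm' u)
      have e2 := conj_comm (x := g) (phi_comm φ hu)
      set y := g * φ u * g⁻¹
      have fin : y * (t * φ (tv 0 3)) = (t * φ (tv 0 3)) * y → y * φ (tv 0 3) = φ (tv 0 3) * y → y * t = t * y := by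
        intro e1 e2
        have e : t = (t * φ (tv 0 3)) * φ (tv 0 3) := by rw [mul_assoc, hzz, mul_one]
        calc y * t = y * ((t * φ (tv 0 3)) * φ (tv 0 3)) := by rw [← e]
          _ = (y * (t * φ (tv 0 3))) * φ (tv 0 3) := by group
          _ = (t * φ (tv 0 3)) * (y * φ (tv 0 3)) := by rw [e1]; group
          _ = (t * φ (tv 0 3)) * (φ (tv 0 3) * y) := by rw [e2]
          _ = ((t * φ (tv 0 3)) * φ (tv 0 3)) * y := by group
          _ = t * y := by rw [← e]
      rcases h1 with h1 | h1 | h1 <;> rcases h2 with h2 | h2 | h2 <;> rw [h1] at e1 <;> rw [h2] at e2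
      · exact e1
      · exact e1
      · exact e1
      · exact e2
      · exact absurd (inj _ _ (h1.trans h2.symm)) hzt.symm
      · exact fin e2 e1
      · exact e2
      · exact fin e1 e2
      · exact absurd (inj _ _ (h1.trans h2.symm)) hzt.symm
    obtain ⟨c1, c2, c3⟩ := x_comm
    obtain ⟨a, ha⟩ := h.comm_mem (k := g * φ (tv 0 3) * g⁻¹) (hc _ c2) (hc _ c3) (by
      calc (g * φ (tv 0 1) * g⁻¹) * (g * φ (tv 1 3) * g⁻¹) = g * (φ (tv 0 1) * φ (tv 1 3)) * g⁻¹ := by group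
        _ = g * (φ (tv 0 3) * (φ (tv 1 3) * φ (tv 0 1))) * g⁻¹ := by rw [← map_mul, c1, map_mul, map_mul]
        _ = (g * φ (tv 0 3) * g⁻¹) * ((g * φ (tv 1 3) * g⁻¹) * (g * φ (tv 0 1) * g⁻¹)) := by group)
    rcases h2 with h2 | h2 | h2
    · exact absurd (ha.symm.trans h2) (h.ne a)
    · exact h2
    · exact absurd (ha.symm.trans h2) (h.tne a _)

/-- **the swap**, in the model `SL₄(2)` -/
theorem swap [Finite G] (h : Hyp t φ) (hG : commutator G = ⊤) :
    ∃ y : G, y * y = 1 ∧ y * t * y = t * φ (tv 0 3) ∧ ∀ c : S4, c * tv 0 3 = tv 0 3 * c → y * φ c = φ c * y := by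
  have F := frame h
  have hmu : (⟨t, F.tT⟩ : TT h U) ∉ commutator (TT h U) := by
    intro h1
    have h2 : commutator (TT h U) ≤ (φ.range).subgroupOf (TT h U) := by
      rw [commutator_def, commutator_le]
      rintro ⟨a, ha⟩ - ⟨b, hb⟩ -
      rw [mem_subgroupOf]
      show a * b * a⁻¹ * b⁻¹ ∈ φ.range
      obtain ⟨k, hk⟩ := h.comm_mem (k := a * b * a⁻¹ * b⁻¹) (comm_t h ha) (comm_t h hb) (comm_id a b)
      exact ⟨k, hk.symm⟩
    obtain ⟨k, hk⟩ := h2 h1
    exact h.ne k hk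
  obtain ⟨S, -, -, ⟨x, -, -, -, hxt, hxz⟩, -, -⟩ := F.main' hG hmu
  exact EightClean.main h ⟨hxt, hxz⟩

end Cfsg.Agent.OddHalf.D5.EightFrame
end

-- part: OddHalf/D5/EightIso
section
/-!
# `SL₄(2) ≃* A₈` with `tv 0 3 ↦ z₀` (helper401)
-/

set_option autoImplicit false

namespace Cfsg.Agent.OddHalf.D5.EightIso

open Matrix EightMat Eight
open Cfsg.Agent.LieClassical

theorem center_eq_bot : Subgroup.center S4 = ⊥ := by
  rw [eq_bot_iff]
  intro A hA
  rw [Matrix.SpecialLinearGroup.mem_center_iff] at hA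
  obtain ⟨r, hr, h⟩ := hA
  have hr1 : r = 1 := by
    rw [Fintype.card_fin] at hr
    have h5 : ∀ r : ZMod 2, r ^ 4 = 1 → r = 1 := by decide
    exact h5 r hr
  rw [Subgroup.mem_bot]
  apply Subtype.ext
  rw [← h, hr1, map_one]
  rfl

/-- `PSL_4(2) ≃* SL_4(2)` -/
noncomputable def psl : Matrix.ProjectiveSpecialLinearGroup (Fin 4) (ZMod 2) ≃* S4 :=
  (QuotientGroup.quotientMulEquivOfEq center_eq_bot).trans QuotientGroup.quotientBot

theorem simple : IsSimpleGroup S4 := by
  have h := SLGen.psl_isSimpleGroup (ι := Fin 4) (F := ZMod 2) (by simp)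
  exact psl.symm.isSimpleGroup

theorem tv_eq {i j : Fin 4} (h : i ≠ j) : tv i j = SpecialLinearGroup.transvection h 1 := by
  unfold tv
  rw [dif_pos h]

theorem hom_tv {i j : Fin 4} (h : i ≠ j) :
    SLFourTwo.hom (tv i j) = Function.Involutive.toPerm (SLFourTwo.sig i j) (SLFourTwo.sig_sig i j) := by
  rw [tv_eq h]
  exact SLFourTwo.hom_transvection h

theorem hom_inj : Function.Injective SLFourTwo.hom := by
  have := simple
  rw [← MonoidHom.ker_eq_bot_iff]
  rcases Subgroup.Normal.eq_bot_or_eq_top (inferInstance : SLFourTwo.hom.ker.Normal) with h | h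
  · exact h
  · exfalso
    have h1 : SLFourTwo.hom (tv 0 3) = 1 := by
      rw [← MonoidHom.mem_ker, h]
      exact Subgroup.mem_top _
    rw [hom_tv (by decide)] at h1
    have h3 := DFunLike.congr_fun h1 0
    revert h3
    change ¬ (SLFourTwo.sig 0 3 0 = (0 : Fin 8))
    decide

theorem range_hom : SLFourTwo.hom.range = A8 := by
  apply Equiv.Perm.eq_alternatingGroup_of_index_eq_two
  have h1 : Nat.card SLFourTwo.hom.range = 20160 := by
    rw [← EightUp.card_S4]
    exact (Nat.card_congr (MonoidHom.ofInjective hom_inj).toEquiv).symm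
  have h2 : Nat.card (Equiv.Perm (Fin 8)) = 40320 := by
    rw [Nat.card_eq_fintype_card, Fintype.card_perm, Fintype.card_fin]
    decide
  have h3 := Subgroup.card_mul_index (SLFourTwo.hom.range)
  rw [h1, h2] at h3
  omega

/-- a conjugating permutation -/
def cj : Equiv.Perm (Fin 8) := ⟨![0, 1, 2, 4, 5, 6, 7, 3], ![0, 1, 2, 7, 3, 4, 5, 6], by decide, by decide⟩

theorem cj_mem : cj ∈ A8 := by
  rw [Equiv.Perm.mem_alternatingGroup]
  decide

theorem cj_z : cj * Function.Involutive.toPerm (SLFourTwo.sig 0 3) (SLFourTwo.sig_sig 0 3) * cj⁻¹ = z0 := by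
  rw [mul_inv_eq_iff_eq_mul]
  ext i
  revert i
  decide

/-- **`SL₄(2) ≅ A₈`**, transvections are of type `2⁴`. -/
theorem exists_equiv : ∃ e : S4 ≃* A8, (e (tv 0 3) : Equiv.Perm (Fin 8)) = z0 := by
  let e1 : S4 ≃* SLFourTwo.hom.range := MonoidHom.ofInjective hom_inj
  let e2 : SLFourTwo.hom.range ≃* A8 := MulEquiv.subgroupCongr range_hom
  let e3 : A8 ≃* A8 := MulAut.conj ⟨cj, cj_mem⟩
  refine ⟨(e1.trans e2).trans e3, ?_⟩
  show cj * SLFourTwo.hom (tv 0 3) * cj⁻¹ = z0
  rw [hom_tv (by decide), cj_z]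

end Cfsg.Agent.OddHalf.D5.EightIso
end

-- part: OddHalf/D5/EightCleanSwp
section
/-!
# ODD D5, `n = 8`, clean case: `C_G(t) = ⟨t⟩ × A₈` gives the swap (helper401)
-/

set_option autoImplicit false

namespace Cfsg.Agent.OddHalf.D5.EightCleanSwp

open EightMat Eight

variable {G : Type*} [Group G]

/-- from `A₈` to `SL₄(2)` -/
theorem hyp {t : G} {ι : A8 →* G} (h : Spl t A8 ι) (e : S4 ≃* A8) : EightAff.Hyp t (ι.comp e.toMonoidHom) where
  tt := h.tt
  inj := h.inj.comp e.injective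
  comm := fun a => h.comm (e a)
  cent := by
    intro g hg
    rcases h.cent g hg with ⟨a, ha⟩ | ⟨a, ha⟩
    · left
      refine ⟨e.symm a, ?_⟩
      show g = ι (e (e.symm a))
      rw [e.apply_symm_apply]; exact ha
    · right
      refine ⟨e.symm a, ?_⟩
      show g = t * ι (e (e.symm a))
      rw [e.apply_symm_apply]; exact ha
  ne := fun a => h.ne (e a)

/-- **the swap in the clean case** -/
theorem swp [Finite G] {t : G} {ι : A8 →* G} (h : Spl t A8 ι) (hG : commutator G = ⊤) : ∃ y : G, Swp t A8 ι y := by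
  obtain ⟨e, he⟩ := EightIso.exists_equiv
  obtain ⟨y, h1, h2, h3⟩ := EightFrame.swap (hyp h e) hG
  refine ⟨y, ⟨h1, ?_, ?_⟩⟩
  · intro a ha
    have : a = e (tv 0 3) := Subtype.ext (ha.trans he.symm)
    rw [h2, this]
    rfl
  · intro a ha
    have h4 : (e.symm a) * tv 0 3 = tv 0 3 * (e.symm a) := by
      apply e.injective
      rw [map_mul, map_mul, e.apply_symm_apply]
      apply Subtype.ext
      show (a : Equiv.Perm (Fin 8)) * (e (tv 0 3) : Equiv.Perm (Fin 8)) = (e (tv 0 3) : Equiv.Perm (Fin 8)) * a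
      rw [he]; exact ha
    have h5 := h3 _ h4
    have h6 : (ι.comp e.toMonoidHom) (e.symm a) = ι a := by
      show ι (e (e.symm a)) = ι a
      rw [e.apply_symm_apply]
    rwa [h6] at h5

end Cfsg.Agent.OddHalf.D5.EightCleanSwp
end
end

-- part: KFacts/Ru/EndWords
section
set_option linter.all false
open scoped Cfsg.Agent.FastGrp

section
set_option autoImplicit false
set_option maxRecDepth 100000
set_option exponentiation.threshold 5000

namespace Cfsg.Agent.RuFast

open Cfsg.Agent.RuD.Letters Cfsg.Agent.SporRec.R3.Kernel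

section fast
open Cfsg.Agent.Lib.BitNet

private def trs (x : ℕ) (l : List (ℕ × ℕ)) : ℕ :=
  l.foldr (fun p y => dsw (Nat.pow 2 p.2 - Nat.pow 2 p.1) (trMask 16 p.1 p.2) y) x

private theorem testBit_trs (x : ℕ) : ∀ l : List (ℕ × ℕ), (∀ p ∈ l, p.1 < p.2 ∧ p.2 < 16) → ∀ I < 2 ^ 16, ∃ J < 2 ^ 16,
    (trs x l).testBit I = x.testBit J ∧ ∀ j, J.testBit j = I.testBit (l.foldr (fun p i => swapIdx p.1 p.2 i) j)
  | [], _, I, hI => ⟨I, hI, rfl, fun _ => rfl⟩
  | p :: l, h, I, hI => by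
    obtain ⟨h1, h2⟩ := h p List.mem_cons_self
    obtain ⟨h3, h4⟩ := sw_trMask h1 h2 hI
    obtain ⟨J, h5, h6, h7⟩ := testBit_trs x l (fun q hq => h q (List.mem_cons_of_mem _ hq)) _ h4
    exact ⟨J, h5, (testBit_dsw (trMask_valid h1 h2) _ I).trans h6, fun j => (h7 j).trans (h3 _)⟩

private def swL : List (ℕ × ℕ) :=
  [(0, 12), (1, 13), (2, 14), (3, 15), (0, 8), (1, 9), (2, 10), (3, 11), (0, 4), (1, 5), (2, 6), (3, 7)]

/-- the table of a network -/
private def tabN (l : List (ℕ × ℕ)) : ℕ := trs (appMr 4096 4 l.reverse (pack (fun r => idxMask 16 r) 4096 4 0)) swL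

private theorem tabN_eq {l : List (ℕ × ℕ)} (h : In 4096 l) {c : ℕ} (hc : c < 4096) :
    Nat.mod (Nat.shiftRight (tabN l) (Nat.mul 16 c)) 4096 = app l c := by
  have h0 := h.app_lt hc
  refine Nat.eq_of_testBit_eq fun r => ?_
  show (tabN l >>> (16 * c) % 2 ^ 12).testBit r = _
  rw [Nat.testBit_mod_two_pow, Nat.testBit_shiftRight]
  rcases Nat.lt_or_ge r 12 with hr | hr
  · obtain ⟨J, h1, h2, h3⟩ := testBit_trs (appMr 4096 4 l.reverse (pack (fun r => idxMask 16 r) 4096 4 0)) swL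
      (by decide) (16 * c + r) (by omega)
    have h4 : J = 2 ^ 12 * r + c := Nat.eq_of_testBit_eq fun j => by
      rcases Nat.lt_or_ge j 16 with hj | hj
      · have h5 : ∀ j < 16, swL.foldr (fun p i => swapIdx p.1 p.2 i) j = if j < 12 then j + 4 else j - 12 := by decide
        rw [h3, h5 j hj, Nat.testBit_two_pow_mul_add r (show c < 2 ^ 12 from hc),
          show 16 * c + r = 2 ^ 4 * c + r from rfl, Nat.testBit_two_pow_mul_add c (show r < 2 ^ 4 by omega)]
        by_cases h6 : j < 12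
        · rw [if_pos h6, if_pos h6, if_neg (by omega), Nat.add_sub_cancel]
        · rw [if_neg h6, if_neg h6, if_pos (by omega)]
      · have h6 : 2 ^ 16 ≤ 2 ^ j := Nat.pow_le_pow_right (by decide) hj
        rw [Nat.testBit_lt_two_pow (h1.trans_le h6), Nat.testBit_lt_two_pow (lt_of_lt_of_le (by omega) h6)]
    have h7 := testBit_appMr (k := 4) (l := l.reverse) (fun p hp => h p (List.mem_reverse.1 hp))
      (pack (fun r => idxMask 16 r) 4096 4 0) (r := r) (by omega) h0
    rw [Cfsg.Agent.Lib.BitNetSimple.app_reverse, appInv_app h.valid, testBit_pack _ 4 0 (by omega) h0, Nat.zero_add,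
      testBit_idxMask (by omega), decide_eq_true (show app l c < 2 ^ 16 by omega), Bool.true_and] at h7
    rw [decide_eq_true hr, Bool.true_and, ← h7]
    exact h2.trans (congrArg _ h4)
  · rw [decide_eq_false (by omega), Bool.false_and,
      Nat.testBit_lt_two_pow (h0.trans_le (Nat.pow_le_pow_right (by decide) hr : 2 ^ 12 ≤ 2 ^ r))]

private noncomputable def nthT (l : List ℕ) : ℕ → ℕ :=
  List.rec (motive := fun _ => ℕ → ℕ) (fun _ => tabN [])
    (fun x _ ih a => Nat.rec (motive := fun _ => ℕ) x (fun b _ => ih b) a) l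

private theorem nthT_map : ∀ (l : List (List (ℕ × ℕ))) (a : ℕ), nthT (l.map tabN) a = tabN (nthL l a)
  | [], _ => rfl
  | _ :: _, 0 => rfl
  | _ :: l, a + 1 => nthT_map l a

private theorem in_nthL : ∀ (l : List (List (ℕ × ℕ))), allL (inn 4096) l = true → ∀ a, In 4096 (nthL l a)
  | [], _, _ => fun _ hp => absurd hp List.not_mem_nil
  | x :: _, h, 0 => inn_sound ((allL_iff _ _).1 h x List.mem_cons_self)
  | _ :: l, h, a + 1 => in_nthL l ((allL_iff _ _).2 fun y hy => (allL_iff _ _).1 h y (List.mem_cons_of_mem _ hy)) a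

private theorem in_NL : allL (inn 4096) NL = true := by decide +kernel

private def TL : List ℕ := [
  0xfff0ffe0ffd0ffc0ffb0ffa0ff90ff80ff70ff60ff50ff40ff30ff20ff10ff00fef0fee0fed0fec0feb0fea0fe90fe80fe70fe60fe50fe40fe30fe20fe10fe00fdf0fde0fdd0fdc06860c90053a08b0046805170809080a019f0a670d3005ec09750b0505160f5d0112040a0b3d0106045c010e0e3f00bc097e09f603200f5105970f3e06c60f9d04160a8e028f0aab0f220e2405ed0d6300bf0802068d044b01a207f90fac0fad02ad05650a4a050c02b605a10cb10aba022303110ae500bb034e04af0fbc08e80f250f4701e90eac0e400d730a80008103ea06ef0b1b0ba60df00d97076105f20c29046107630aee045f00fb0cea09d405a6052701550305051808db09f209870c3f00160d5e06fc040105b20ab50a4d0b2104c908770dff0904096e0cd80f0d0d7608010b550be200a406b50aa80b6b0d540e5406e40d59029102eb0fcc060a0ea00e7a090201af0c30053c07030b3204c409be0fc00ea90b19042c0b480e360a8403100c5d01bb0f9a0a3808fc0243004f0b0c0ba0028406f20fbe0c4401d9056201be0f0f087c07950d1408d30ccc0621043d011709bb03630486032402330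d6405d709520d4409f80d0b0f9b017b05fd0fb704600ee8072d06d30b08093401bd02bb02a303930242099a089f0cc103070a1a0cf705700f3905c60f6c043f056908e00c5a039e06a704a1085b0af4070a070b03440b9e02c40698003f00f407110cf90d9b05f4013004c805860715029c0e5b07810972028008c903810939090101f803300f200d0901770df70d8101c4008406a00c010df5019d00a208c30581038d076505cf03f40ad9009409eb0d8702e507b80a9d01080399080308200bf0008d0c180a170a6402e20b0704080c2409360aa50e4c0c7e0bef077f02be058001940a830bcb07ac041b07fa05a50b2a0b740c7706420c7101ce01460f9805c1026e0f500d0c04220afc007c03fe059b09aa01c70f5b02c80328055908a505470431005f0e8f0d740645062d01d00b35057305000a160e9809f404d205b90914021002280966066a02f60526010903f90d4e0b9a03180d9004340b4c000a09150f5a032708500054077c006a0d120d7a054d0a0502120ae102ef08a80d61027e00fa04050ce4095e05140cdd054f0bdd07f707f602bc0cca001e03a9089d0ef2055f0172044e011104bd0d940f620a3a00100411064d06bf029e05310ec0078a0b340c48001c07fd0d3a02e7060506650ab80ba90f970fc50c45083d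0b8206150ca30dec0473020c0f4c0bd105dc041803970a6a010a02ba087e01e40a3e0bf80d1c0b670cf80cab00b307b20fb607a3078b07a9063004940d6507d1066d06380e1700b200b80e1a09ff0ac108ce0d6e0640017f0d3100ee0d1d0a25079306c8075d0a1501b206dd01f409ea08c70599002b0c59029d0f7002700ca90b8f0b270625007b09540ee500d40edf018a04d7014707340f8f08680b2e09580e390c32099e043603df0bbd025508210c2a03690ce901d405de0070088d0da40d1608e50af6052f011c044802e40cb60d180c27095301050d49026c005d0d6d07aa0003087d0b0e06a90be40924014b02a602bd0d8305030d3b096b0c6d08060ab30c0a085503e401db045801ec07a007a20a52098c0d070433046e0071099409ed081004fa02d50c22084c02a5022b0ddd00db01280533017907b000af0af704aa0ef90729026208610f8e003c06590e5504b80b8809700e7f099c0d7007ff02aa0c3a0ab9002107ef0ed30a90033303060dc2067b0ee40cb30676006c063f09fe06840e730bb00ca00a2b0f6b04ef0e970f9600650c810d8e02510e130dcd0ba70aa60463089a011407bb0c0e0e1e0f2b0fb40afb0e6c059d01580f7906e50c5205ca09730f60063a061e02cd04300f630480042008ef046200c50e8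2051e0316093a04700dd00b3e05bd08e3092a0f280524042608f0073204b70c89033a0c1c0dc00e46056c07b3007d094606ae0c0d0be105570e100fd10542050803a104be032b06fd0a46034705ee013401f00175058f030b09a5068f049e0c2e0e0e0e2a049703cd0c930dd401ef0ddc088f0f36019e0e74022d01dd01a70ac606340ea80f260ab70ee703780db1098a04d509980a9c08ee00f804e703b0042f0b99019a01a906950efa0e280f11073c068806ac02f5097400d30c9c03d20a5c0ccd023c05c80f850de202db0b63067c0a4b0e68079f07e40651072b0657036c0e65096007350af008170f6d09a602ff019908b505c5032a030e01cc060805eb0ced0f3401780e5f00ec0744071d0a810c6301d30173004a0f14058402dc08f705e7008f009a055403150c99052d0dd5078d08a20d80083b0fa50838024b054c052c002e0e270a360dfd0beb02220837082a04e20e3a020706910d780543003809e70cf00abf0ab20cb808a00c410bac027d06070d19058d05d80fda0be800430c1e047a01cb08de0d3e020202390b6e01950168065205e00d7102a905e30ebf0bb708bd0890013e04bc027f0eb1025b049a025002b701b80eaf0544008e07f80dbe085f0737027a0353099504ca09c60bfa01860cc5044504510a7c00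b504fb0f490baf06fb0f090e010b180b20031903010b8c02e10d5c08490459064c0883061404b0071f00450c130e4901d1049c0e3e0f3d067408dc0c9701ed0f7b05e2033b026d09b70d8b064b0c00074f055c01a406e90c030deb02ce0f57001f0d1e0989003b00ca0de40f8b0a880dd30b09018c0ec3018b0da80197085e03870c8d0a920d3c062301a606530ec903ed00df09ba084d0c490a8a099603f5056e0d660d34093e057a0dbb03b7007907c90332040705090c33065f0ee00c38067f031b06a80558012d0c65080e0e2b0bd90a19047107c70167095d00080ecb0ebe026603ac0b940ca802d706f10c8f0a3d069706270dc703bc0f680d3308a406d207200e63084f090a01fe0bf708ae02d306ce04910a7a035807d40e35013b078f029000070a090eb8001305a800ba06800818053805a70a9604e400ea0882053d0a760de70a1e03c102c508af04bf0c7d048701d8028709470a3903f60d790c5c056005740c96032c074b0e41094f0d6c0f900121037f09680b5604f00f4108810f0008a605c700c20e810cfd04e3039a0a7507fe0bec06bd018d082502fe0dfc0400011d0c54006306da00ab0d92000e057c01260ad302820e3c0967099f02810886087108aa07ca04da082603e10843099702f10eb206f609dc0ae70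26009190c8609a409170f640135099203aa0e290753060f06890ce702ed09d10ac30b5a076406f7000f08230b5f021e0a4f07ab0ba20f6901ee08b6035e06d5023804f7042e05360e7d09a00862013f0f4d04a609820b4104400ae606600b45057805cd0d480fc90a0106f000b1063303dc014d040c0e930e4a05b70f5404a5001803d60dee047d043e07680eb306c70a020dfb00000a5b0b11003707740f730c57012c0215024e09ad0f91076e0f4f0c58042b066202850b1202130b140b2404ec08be0dc906470f42009c061f0c260f1d0ec500cf0fce059c017403b204d40074073601e303260ea60d620039005302690d9d0dda07880f040513007809fa0cda0aaa0f880965009d04560481098001100b710b430fa1045a083f06700e6f086e03c3060e03c70550016b02050ed603ff03d5044a090e073e0b840499016f015c063b004e069303d70a2803d906b00a3303db0d0e052504a40b6000ad0e1501de0c9b08d401c007480a9f0fa40d8a0e420d0a08880f75021d0dbc0c9a08b8098e03e5076b07ae04ab0fb80aef09050f6509c90d6b0ec10959027109ae05fc08110abb05750ed00d03042d0a71067307df0a620bc309f107ec04c70c1d04dc0d86032f0fba07800062050f0c1203610c2804db014a04f80f4b0eb90370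0cc60f9502b8053402ac0c6002fa0bd405c400f300200bbe0b9607060371027c0a9a05fb08e709d5061308f600880e3101ff020e0fd2013206cc0ec7068c0a97036a008b055d04d304cf0cee0b2507050382023b07be065c057d02c706770db3006408870b5806ff0f7404820ce50fa9026f00d000ce0d290898078602de07ce059a091a007e0e2c0be705ad00850e530bb20f4606af0caa040601760ac808cc041e06d0014f06e102b502a70d7703c806f30acb0429082b0e0d00350297073008bb03de03fb0bbc089e095008f80f120bf609570ec80e900e0907cc008006ea012e0441074d05920738013c084406440bcc0339084008480e7109b306480b280b3c05df0e160d7c04f6086709310af100020f27041c0fc206c00e8e07270f7d0a95063e007f09b20dac04fd0ed40e05023d05880c9d038a055b027406b304bb0650079600d807a807a60b7200b4038506be06b10707028a0a6e0f840783049f0b6107af00b9087907da025f052901870aa7087b01610c66025208b9064100830051028802310f5204e5073b0f300c1501f906dc0c3b024f071a044f0a0409ee065a060301b10aa20b1c072406090ea20912099002990cd70d210b6d02a1029f050e0b4b0b800dea00950d8f01510f16086a0d040b760c110c680dad031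f0b69002609a805550ab008930db206850d060c2d02fb0f7c072105ff065803e20b46075f0ae903e60fc3077d05bb0643031307bf022c080409100fcf0cf20d5a0ef000ff0d91023a0f6e01f603640dbf069f05d90ba30b810e880aed0267008c005900c60cdc045d0e670bf2029401df05530aa40ded0a1802b3000d0df80dd20f2909080a1c0ba80196081c0119035401b9041f01e20bb30d36091b03da0666028b07c2084707750c0c06c4004802650d4b0eec061902370ec2015a0f1c01cd05ef09fb0373045e0309085d010b00190d4503cf07a40709074005fa0dc6012f060d02cc0229064e06db08da02d109450a400b6f05f90b6c07790e7b0e8b052209a900c8097601220ad50760022504130bdb05be0951046408e40aa90f6f03e70f590eeb070d03d006cf07ba0f45086006ec00910a1b0cbe0a6c03b503600664040207390d410d510d020549086c0626085304570f9c0a6f05010ddb09060d4602c902b10f0a031c0c8a03a50c420f7e091d02a2050403b300bd06b40abe0f3507850546075503920e14020a0a32022a01250eee048a0e04050a01ab02c20edc047c086f034f02780b0f0c7c049d0a21078909c40ab102e90b530cd4005a04c30234053e0fd80bb90bd8006d028607b60b7c08350e6d046f0b9d0e9c0b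e0059f0cb401bf0c980f150a1d0e5c05a301ba0d6908950a45068704c60899058e098d04e104eb0c7b0d1506bc0dde010206a502f9076a0ab60a500b7e048b01fd0c4e0bc00b9f05d3017c0e2e0dca0f3809c8038f09ce03950f71043c025e04f40203082f0b7d074c08c10ae0007a08ec00170999076d0def09fc04cc0583051f02950b4a0d9808fb0c6c0c20092d032e0f0506df04b603ae066307de0dba02bf08ea0246064a0e780bdc06750c140da7024c04850c510a060940034c07990a0b0b7704e605850a070ae3073a0e3d02540cb204b906b80cb00ca6038b08a904e807bc0506059e04e9087206f9001500c00a260ca5075e057703a60b790b9103ab0b5b07710de50ecc047907a7004d094d0050014200a70bc60cd9051d03b604880567055a0aa00dab05c00bf904d604b407570fd40fd5022e060b0dbd00de09770ecd0fb20f6a06220d8d0b950e47029a02ca0eb50fae0c6e0e620e6104240014040404ac037403450d88007307500a94015e048407e106b901a505e900a10ce20410008907e9024d0a980856037a01b503ad09cd016d02980489043500d60bd20624072f0e1d0366018e0a4206e30a14072a0b7b0c0702140bf40004046700d705480941040b05d509790a57018008330d6708fd034b0ed1008708ab0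10f068e0d380e25038e0d9f09d00aad07460eb70b570dcc0e2109de081e09dd05e509280e230db4037e0db50ce3071206e6026404490368084506e8078209e00f3704c10e0c0139025603080bcf01650cb503430e220e4b08ba0af503140a4408d2035709d307970ef10a8d0ebd046c097d0e76026802ab091602cb06aa019c093f0b2205bc03770822070803b10b1a086901150aae088907470b2b03c601200ed90b5e0f8901c30f8d090d098108290e0a04de040f047703400276080b02b408d003750b660656054507ed0c3706a10a0f08700baa05d106720abc076907ad003e0cc8069e013102fc092605980ad4031a0cf609bc083e08f10a0d0c6b0aff0cdb0df104f30d4004dd0a2207d200a90f1f03ec0ce007cb0d9a015009f30148047e09ac035004ba09860bde0c4b065e0cc70384044709b504a206e0024901810ef4066703f2079e0efb01c9014305b6090005b30f020f030927077009d70a740a5a066e0f55023f04df06d10a4e05ac0d2a0f780c5b0057082e06eb0b5d0b7301b300560a290f3f0be90b3b0f920100003008fa06f80a120c340798057f079d0d5d0f6107cd00cd0a2e0718085a00f70e0709b8091e0b8a05fe025304c004720b5103fc0f1e0bdf07000a3008fe0bd601e50a650321049601ea0e0b0b29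0fbd0671093d067d01e605da09f50e4f09d90b93088e00c4061807e80839005c00e70f6608d509e3061c09d80ac90a370d35025c0cf4011e07770dc80bfd0f070699088b034106120587074e0ee1096a0743058c0182020d005806a60efe0be602480cfa068b0acd050b0ca104a90d2007b40fb10a63069405f10b640cf508970fdb098b0d7b025a00b603c50bc70bff05c906c30ce60d820541017102240a530d7f084e0c430a99074906c50ae2032307040e1c059400060e8705790219071409430e4308f308570b1601c80b420c02071e02d90a56050209b10d9509840cdf0752024702d40c190c830ce109e1048e091f0e500c4f0c39085100ef0a030b0d05630e960a0a097b0eb009c30e120d7d09f003e905c30acf0d58045b0e1b02ae04f200600d0d0b39017a035c0e2002a404760e9503b80184016c04f102d00be508eb0dfa07d30c1b08000f33054b0b0a0d57044406b2046500aa093806ba0033042a0e3b0c4d0a6d06a3050503360b650ade0922002408070f5c09ab0ccf0c94048d0e4402cf09b0004b01e8015d098506d90f230aa10a7009250918002f0164020103a20ef803ca0f8c068a01ca09320d270fb50fd00cce00f207e605190cbd055207a505b40c7f0c3e01a00c820a000de001230e34053f06c109690c9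10f2a00c307c001f1088001fc074a04a80ed802720b3f009300820d5b067e0ceb0b9c0f0e0cd30a79063c02060eab080f00e309090d470773097c02200e8c00be0b33070e036505e4070c0f76055e02b2039805390a3c06fe013601bc00520bc90bc40f830eb4030c089c041d0fa6001b08a308310d600b040ea30a410e03073f0fbf02320116066c058b0a0e0226011b0d2308940c92069d0593016e047409e806a20ef508410cc0086502e30edb0ebb06e7009f0a550b8602630c0b06690b400828021a0a9e0bad0e9200e2054e0f1002730c0f00d20d39023501370f0b00f50813012b0faa000106460f3b00a30bae0e5a05b10a5f0c3609e508120e9d0bfc0d3201e7098f0cba095a05e604550adc0e6405710e720cae0620052b08ed07c30e9b08d107510c700c9f0d2f067a041705db08b10bbf0f5603030fd905ae0bc504b50b4d044d0a7e0da103a30e4d01fa0dd904b10cb70cad054a008a09cb04b20f820e850ac50d4302dd091300e802e808640d4d0816047b002802af05e80f7f0fd60fcd03960e660af304fe042103a70a8b09a100eb0fa8069208c60c040d2e02d20832061108d80dc1065b08e60e9101f3051209ec01890c5e0daa01f20a850b4f09fd04cb08740733063606290ba10d7500fe03560b100891004108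3008340d00084209bd0bc20b980ca4089201560701075c07310a910a870b7a040e034d0df3080d0d050b010a5e0e8d0124046a0a5d03420346086604f50c670f720ef60a930896032d0f5308b3009e079406d70bb80d2c0e560c7909e20722083a0d930d3f08590537080c01930528052e0c4c0f9e02f4007707f20aac0d9c069005d003f10b470b310ac402f707190f0603ba09d20d1f08bc0c4600f60c750ad200f10d1b06ca021b0e1f047501180bd502f30442064f06060098088508c807d708140bb60f2e084a07ea03380a4c0aea0d5303cc07250b2d08c2051c0c8c081f0230075a062e049305890e3806d60bf50d4a08a70daf03eb077e013a04d001910fd707c50044061b09070d6a0d500f8a0f210f87092f095f0fc706390ae40c500db708e90aeb055100e40427041a0c6101fb09b40e58053503590fb00ad6079b0dd7071b030a0c62061d0236048f0a100b440f0c0b2c0f32087603a8012a002701da004c0de907d60e7e0db001ad0e9a0d550cfe0b4e0a9b0f4e0b1706160a2700fc04530d4203e807f502b00ea705110d5209490a3105a209f70eb60452010d0e3305400fbb039100d1090b023e0e5107e3075b04d900e10b3607c10fca01c50ec40c050a350e6907f3020008f20f770b8e0ad80ea403a006d40a1f0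0d90e83001103b40bb10c100ed70211071304a7030f03a402920c17072c046d0f93063d04250903097f0aaf0db9031209830b7800610de80a20026a0b380ac709440aca003a0acc0b2f0ad703bd03be0cef035d08ff092902750d1a047f02fd05f302ee0a2a0add0767068103bb0adf02450bbb029b013d03d303d40be303c404a00138062c0c09081508f503f708d70b02076f0cff0042085807db0bed08240b680e5d043b0510082708dd03ef053205f50d2d03fd03830f0801cf01c1006e0b970ece05af0e3205150878037c0f1808cf04150283087a07b10eda0049083609e6034802770c1f014409da071c039f0a590eed02170ba407a100cc0394001d07dd00460d08077201e0075407f10930005e0a730a8201d2036b01600cde036e0a610de3079a033e07d005b5096c0f2f017e0a8908f401b70b5203d1063103350104044c0bd3078404ed0133094b0c6901ac0090072308c00f9f04d8084607b90198015f03890d2804cd07f00f01078c04ce06a4075902e60367010c02960c3d0d3d0a08048302e00610035b01dc0d850c06021f0ee90a8f085c04c50bab0d2b0cd201660e9e0e790afd003d0f2d066f031d06cb0fc109930258032208df0bfe073d0c560e80021c0d4c0cb90787097a03e30fa20f4a03f00cd1030405a4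0d220446092e07900f130d840f80030d053b00e90c5501d50cd60b9003cb074109880a7b088a000904a30e860cf304ae049002ea0b7501620e6e03c90b6200f90f5e02f208b705200e45033f0ed20dd605820ec60c53033701d60a4305230cbf0ce80216065d00b00bea009b0da906540bd70507091c062806040c310d560921077807fb08e20e9f0a5401570bba0eff015408c4011f01e108540ebc0dc30e600f1a0e2f02930a7f0c730fa70a2d0756095605b008e10423051a06370fab0a7d077a0d8c0c80025d0a2c0dc40da6062f0f1908d909a3015309a20e4e0e000ef303c007fc09a707d80a23033c0863095c02b903ee0f5f0bce0fb9016a005b006f094209d6008609c00bb408ac0b150f4003900b830b7f0eef0c780e6b0c950a72019b0c6a00ed08bf0388075803ce09e4056f05ce0aa30dfe0a490eaa0c3c0dcf025703dd0af8077b09640bee093b079c057b0d9900970b7009cc087502a806ad0c7606830107031e026b07910de6083c06d809c50d6f0c7409b60b1d07e0084b0caf0103071706960655085203c200b70f440f1701d701400702041209e90cec0a58096f0c870b5009370443056b08b20f2c059609bf0478006b08080d1109780da508cb09200e8902080591090c06780fa30ca701a105ba03310b590ab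4031704950576066800d5038002da0b1e07c80b130e7003f30e8a01270a68069b0e37002c08cd00a502270ca205c20ada018508730c8805f604030a690bda088405d20450053009b90eea01eb096d00750e0604ff04f905d40d250d170b540c400db601f706c90f990601055606c206cd0e2d0afe094802c00376095b0ac00d1003340db804380f3c0bb5024102df03000de10cc4036f0c470e94039d0eae09330cd00c8b05f0071006610ea1019204090ee3076200e5039c0abd08a10f3a0f1b05aa0f48089b094a0c72035f00da07dc00dd06f50e0809af00290f5801a80432035208c500a60cfb01ae0d0f0c1a07e70c3500550faf022105e10fd30d130ede0776027b0cfc0cd5034a0c21094e0c850eba04b301c60469014c007207cf0b920c250c230df404fc003209ca0c640204062b0068069c071607bd0e1103620092087f0f2406320da00ccb0ee60a340d240b030cc30e59067900dc0ad1058a07d9062a0adb028e00e00c840bf30329078e05f7010102f009c7036d034907eb06000ad000fd093501450d5f02c604e00f8102c302a000ac099b07280a2f00a00b3701900dc50a86000507260df20ead01590386070f081a011302400b490c7a03bf0a0c0bd0046b079203b9056a05ab0b6a0d2603550a6607420ef709230a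110bfb0b1f0566043a00230da2020f0b8508ca04d105dd090f0ba5076602c106ab0b8d0dd805900031094c04920f310595076c0d6801410fcb0e570ae807b50fc60419033d092c0e300e840ecf02590fc80dd1035a024a088c016306ee097104ee015b04280f860e6a02ec0d0106de049b05680efc0a7805ea0498000b06490e0f02790cc9050d0bc10302052106b6003601c2045405bf0572040d01690c16080501b401700da301b603fa09df07c407d502180df60cf1056d04140a480b060a4706e2037d00ae0c2b00c7091100c909610d4f06bb05d60b9b0067082c0fb305b808d60fc40fa00bc809cf0e18024406820c5f09db0e260e190b3a02d80d9e00cb0ac201520b89061a072e000c081901aa02090f6705610edd07e5014e057e04c20aec0b0b02d60cbb0047048c0261001a099d0ed505cc017d08f903510cbc0c6f0eca09630a60052a07e20a6b07b702890a3b0ee209c205cb0f940a1309ef0a3f0d370ea50df9086d0c080af204ad006601f50b0007ee018f0dae0ddf028c039b08ad0d7e022f0e750012018300c100760d720a510b8b0a8c03e006350e9903720dce06b7028d08b40962069a06fa06f401a30e770af905a909c1081b0f430ace081d043706020cc2038c093c009903790c4a04660c8e03af04ea00340efd074503250d960c2c03d80afa0c9e0b2300e60a24004006170188011a06ed05f80cac0025020b0e02002201b0051b04390991002d060c0129002a0d890a770c2f0e5e037b0e4805a00096092b0b30086b0f7a082d07f40bca006903f80e520b5c0b87095500a800f00e7c02f80bf10bcd066b014907c60dcb09f905640b26,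
  0xfff0ffe0ffd0ffc0ffb0ffa0ff90ff80ff70ff60ff50ff40ff30ff20ff10ff00fef0fee0fed0fec0feb0fea0fe90fe80fe70fe60fe50fe40fe30fe20fe10fe00fdf0fde0fdd0fdc088b0c220c0c0807082e0996056b07bd0203095c097d09e805e2043405380f5703f101e502050b2208920da10d1305ad0e1e0da60d3f0d000e6409e5037400e60c6504b90788099d09de0727048b0d4f0a170e470680021908760a610cba05540844093f0d8b0bb20a410751013605c8029200ff04980a6e001108780036030b085a0ac0023e03db064f01080bd0073700850899011c065d03d0022905040ef90dc9069d076e0710037a05a60a4d0d930f8b0e760771041002b30ecd0bf703f50c3f078500ce007001d30bec0bf40e59097206470423036600960f2500c804bd02dd01440f18082c06f2019f0b7f0b4700730adc049e00d50bbe06670c3009ed00a107440bcb01e7006f05de01bd0de60d4a024b04e70f2f0f4f0bd409bb04000d180679030803a101de065b043306cc0e6907dc0b5308a407f0055b03cc022d03570987072203c70671006a08d90a710740076707a10f80035c0d570b390e910de102720c14046d0a8503fc06df02ab063407a808130f39085c0ee50c9b0ba10ed20e9e0a84033502d50ccb004e04d704320b1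e00720ba804ba0a800e5604f40eb20fac072b08e209ac0f89062b0d850e5306b301e10a01005908880a60012305e50b8b0d30068809660607094b0146097e0e3e0e2608190d0903e5036708bf05b80d5809390f0f04d2058606050f610e7200b60dc203c00afd07d30d5b0a4603b50c1600e4041c09140eac02d607b703fa05c405c203ce009d00f003cd06ec0efe0424013f05a906c60c640b4b08e3015b0acd090c08e0041f0a420ea1024c08180e8a04eb0af00e5207a002aa08360a4c0ed402e40cd3059b0254025c0ac705cb0b7a03630b77066d0e1101220edc0475037807ad07e50a9002860382089703ac0d5a05da044709aa074d0dcf0c6306a60d490a550754071b0ee0079100ef0bf50f810f130cd604360d250eee026006a90f580ad00cff0056006709c50fc104830cc80c7f096e0a1e04920d38045308600520078c0a100e7409ef0f6c044e0aa4077f096d0f6b010b0c5703bc0be20820083105070ef70cb90ad9075e0f010c45021a00b008ad08560cad0c43055005ee0c2e0dc40ece01cd083809f90f0a0848078d083b07070fb203d4028f06dc0fc00ded0b89048e019e0f7f0149057504810f1c093c0dca04310b8e058e0ac5078001d704220e7909be030007ab022004e6032c023d0e860e38089e079509f300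81049c063509280f1908c509f209b50f9909d00a7c016507af05ac0019011b022f0c6c005b07020de800e3063b04b5034e0b9f0aee04200d5c068a02830bb70d0f02980e000cd507d0009f01470f5d00970d4500690e390e4402d00326016d0c6a0f9a016208ff04140aa105e60048035103dd06780c0f0dff0bb307f206b5023606fb0d07059f007c07bb0239010903a30e140e2f038f09d30a5b005d0e1f0b41080d08140e8f0ea0044b06ea054a071c0c0500fb09a3093b0fb1021e0f7101cb06850f970e230df90a3301ce019a023701d904cc031807c10464097502e20191073a09db0b430df5043b08790f230d420f7509310b0c05ae0d2e0da50c87029906cb065a0b4c03120e0f090306ab0fd103ed0c390dee09200487079f06740e3d0f620aa806f40cf605d30d0601380fa102490aa9080400d9016302440a23098b002e06e40edd06c90ca40e5c01f80ebe08fb004c0c7e0b2f05230eb70ea20ecf08060e3208800089006b0a12056f043f04e0051e049f011f02db01ab01d400c5033b0e5802f5024e0a470e0a01a205c3096302180c7908470b540dad07ee0160088a0e2e01f2018701af0dc50133034a07320e9801390b510c9e0bd303eb015200d7048c0415041d0e3a02a4094a07a303bd07f901dc012b0ae90ebb0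01700830750023f077d06e703bb07f606f801e80e8308340b2308c808f2090a00a007fa0ba7084e039a04b604ef05bf0bab0d1b0356041804940e0d0e840ec40e7507d20427028b080901b60c930f5c084306d40ee60e8d004a00b40d8d08ab0f960bf004a800620cd107e90e6c067d0fa40a620be1006302f6018f07ec06d103b40c4c072001880e66092405a509cf094e0dbc0f740c5b0e060ade0b2c0faa0d76031d06f60f6009f10d360b950be308c20c8e0b400a87091101a502bc0c8f060309f802b40e4305910ccf00d000b90a9a0524031503f4023b0a24010e072c02e30d3d0d740df300b20d8a0d9f040f06d70c1e0ec00760029a03480dce04580fb700a2080005ab04fc0dd9067008a806bf047303140df2000c045f074b02fc0d9a093405b40e810ebf0cdb088f09df05140cf406ae07fc0e8e0f8e06210bc400e80e330ba20a190da80e010b79032f05f3014206d80ca30c330fa60b55079b034905a30cf903970d0b07db09490b2b00e50dd7031b09fe07180dd607e6082105d106e803960ea30ad806720fd80ac802160dc00bc10b2106f104a90eb105e80a0903ec01e20b420abc0b360ad307900fab03cf0ce0029d02c30a110ce1024601950bfd0faf00aa0bad0b9d089f0b8302c70c5a0cf109c10cb207ef09e7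0518047f01030f1a0d9708d00f7b041b06b006b60b860ae50fb6089305530d6f08ae08fc0d4c00900451028c05290d75051c03010c620f660b0e092f0b45035a0ce500fd0aae0f420d920aa204f60a8f046e01b90f4104d30b760b49006c0c0a055d0955005107df0fca039d0d9e0ce8086b08d30b0b09370bc80ca801680e4e0e2707c90316050e029b098d09ff02a80c5305680091051906530842094107040cc90ba30f3108450f04069807ce0eab0dfb0b8500a801670b0a0c5908d5021701ae02650da200c009c2091307c5098e0ecc09830cf80cbe07c20f070bc00247012f0d530a5009ee08940af10b4e07be07c60db40cda0f54038e01fa0cef0c9a01920a8e093801580cc101ac02f207f30f700d200fa50e700e3506560768017407720b110bca0e990287043702ad0b140c180f3300db074300ab0df1027302d90f0602c60daa0cb80d3e08b600c90b3c08a90dc3098f015c06c3088e0e77047709bd0126034d03fd01a10b900fcc0e36001b0c8509dd07260c720e5404400071077e0b0f072d0a9e009e02fa028a08860ede02f702ac04030c9f0a15025f0092009a09eb0953079e0c280a9f09890f690b310fbc04a605720ec7053d09e90bac0a8a07a9060e0b5f0cae07b900c40ab4010f0bba064806bb0d690cbf0cf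70c990393008f08cc0de707330c5f07b202cb059402520bd20ef40c500f30013c03850029063d0c34067e01b00f59018507920ada0b1c05eb0cd9028501b20243059206990cb50a2102550c7c0e6305a805fc0ef6087208b404820143087102610ce90c6600400e5d00760ef0012e0f56041904d909810dd801210b19015408cb04090945074f01aa0c370034062600250f860f2101b500d2084a01040abf09a003a70e7e0bbb003e04ae0bcf02070b980b8d0c1d017f0c3d05640e4b050503e708ce03ab033307d70ccc05c605780e1a01c90e120d040d980921065e0e890a8806e900f104a40b0900200d120541072a042b0a960c210aa5002f0f980023015d068300780a1308be069a01d8065c02c203e60e2b071d0cc306da0794099f001e0d1907f70df0034b0846092b0ca906ac058b03410cc00d160ceb0717095801770d0307c70d5e0cfc0d35040d01bc03040ccd01da099c00950e170ac1028103d10f0c02250d26018a0c200aeb0a310ddc002b02750ecb0045090e05af00f204460619071f0aac064c0daf0828010102f1083a0ac6081f0dc70a980d94045e01ca03b206420dd408910c410fc6013b0f320773019b07480c6d04800f5508a70b610404075a0f5a07d506970ad509300830044a0296091206390ea706f30f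4002940a6607790fbd089b030a059804f208f60e710a5d0eb409c605b90e480a7404bf069103650d6006c8046900e00dfa02dc0c5c01720ed305650c3a0a6b080b0b5e04e8059908ed055f05fe0d8e05df0cd705ba06b40468048d0d27005f0502050a07870a630ce60b80062305ed051f026704440ee3004403d60ee80a30017301000e3f0acf0a0a02df0762007509780a7f068f090604c5024d0215066e0288005203750f8805cd070e038a0cf00b5c0a18023801ec018306ff03d707a206590afe062a034302950ed90b7d09ad0c0d06fe0eea06860472076c0f0e00fc04f803a502a50bd50c0102620bd90c4b0dab08a50ec505fd0b13008703900808022300d8012a07470da7049006e6022204af0e22006105e007120d640827004f09190e9d0d910ad604b803f0095b054c0495018b03af01c009b40a1b00cc035d0f7a086a0c7706640c3601dd08840af30e9608fd0caf058a03d903050a5f026e0f1e057c01b40e310d0c08630b070cc600f70deb085e075f01a408250d0809ba0fcd0d1c07e7067504a506fd053b07c807d40a7b026a0f49073c038101780f5e0d73017d040a0be909ce03590a6408b10516049605aa01d2083e06a107ff047b02910c10047a0c4809320efc09da0b9e071e08830d6505f207cd09760afa0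c7a0140090009180c3e0bde008c00a70b160f650e680f9b06be093d007b0dcc0b1b04fa04c202ff06400f2a020c01270c71047c0ba4092c0799027f03d30bae0134055209c00e5b00eb0dec04d6084d0e46032d073409ea00cb09270ab7095e020b060c00130980032404be062e085507d100c30c250f350e20017a030c019802780f380eda069308e504f0067b0aad01150aa706c2070806090d3c0d8903580000096c0868075300bf068d006e073d049b0a820c3c00150c2702a00f2d0a000c2d03f20f9d014d03380471020e0c150abe05f906fc0af20102021f02740e2809e00d3a07a707810e15001a06760eb800be0c47045a054e09600db0042a0b30012d07e007b009a9001d0a5a0da00e6b04d10098087e05d00dea01a30a6f005c07eb0d2204e903b605320ef10038000708c10fad0fbe0253062902bb08030dd3053a0761002a05db04dc059302a205950f820ac20ea605900c8a0c1b0b630d710aaf070a0c7d02a7029c0d170d2902310b920dc107fb002d01c2066a01f508ea055c00e10c700a3209b008c7086c0b1801cc060b0bd106a7042f08dc0ad204a304c70f0d0ed50835068705220b1f0f2204fd09f40ace08e40344026801f10d4d06040e0302ef07ca02cf064a036f0c6f082a0448040802010d670e5f0c1f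0b38013d0a9c06250b7e0aa00cfa0f15035200c702b608d601d504070add001605d9004205be02b006dd083f08410c2a0a34019d0986018d067a0ad40055091a02eb010600d106d6008d06ce0a69090107150b2e061602da09ae09ab061401840e780ee402bf03100e570f3c055706b704b10bb90f6e03e20209000d05390e2c0995061a016c05d60c4002500a4e09cc09360d6b01e30c260a7e0005006506220c9503da01890baa04ee0a9303fe02c80bfc05dc04ec01760fc40fd405970fc5074103470a3d02e60543022102e70a03019404ac08fa01c807380e7300ae0b870b9c0c690ab204db058100d40a7304c901d0041e04260bff0c190ce20c670b3b01800235008a04ad0eae09af070d0d1a07fd03860985098a04e50802058d03300d8c036a08b0059e02d203e40d8402fb00dc0b6906370977092203ae04ab00030f5001db017502930a510e950b730f4d08b90db80c2f05ea011106500fda0e300abd01130b820c4909cd0dd109b20a02082b0f7d0b520a4906d90c730b3f05610a7d0c8405350968039e02d4063e070b0e1d0e4a047e013e0bb806db0e9f02c10cdc04a202060f0b04990701068e03340f370d7703e3021b043800fa00100f11052b006003e00a0d0c82031f03640f940ec602d70fcf0322076a02690b6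2004101310c7405bb0b000f9e06c50d6205370d2b0eef0aab042e02700db701a60c460a06085308240692054901160112030f007400b30d0e01c70f760f8c0118020d06ba0b3704d40ab80a43018c0066098c033d0eba01f702480ba50fc80f170ced03bf031c005a0a1f00300454021d0b1a061c08d8088c0f000d28088103c50ec30d4404250c0806f00d9000ad029f0c9602900da40858095a0ee109570721069e0bf2045c058408df0e6a003c0a58069c08670a830b660d3900800d540a940aca053401240db60d3b04e3004302f001c10391036201c30a26048f032e08120a9500a30c17064e0d9909bc05d50c35026603c80c8c0ab00f0906570035045705730a6a04500a670a4f04c30ead09c70643088907a50b7801e0086d01d10e6f09e30a3a0def01eb05590e7a0e8c01930f1b0340013a01370baf080f03f90ddf092902a900bc083907b50dd206f5032a06d00345061f0cce0895090406cf001806b809e60f45097c0b060af8075d0d1f02b7057a061d0fd2085005b10c5206d3082d01480684000602cd036804f300570df70467056a0864057106550fd609160cdd00330af70f9f070f07f104f7063003b10b71050c049109330f4304d805f6026402ee0d24094405f701500fd30a9102f300470b6f04c108c605800b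4a03f70d9c0e4202a102e10724007d038707d60e1b004b06a00d8307aa018206e1083706520d050d370ab603800b990d3306d20bf805cc0b9a03790b9707b40bc701ba0bdf0c0e0e2107000e6e06a5074e0bef00bb02d1019003d20e1602ce076f043e0cac0a9d039f08bc0e0b01ea00a5024a03980fc70b4f0a77066f04b3071a0b7c020a0de90b930cb6016104760f5101790f4a01c50d0105c909a10cdf085b0ca10c510a810ce305ef09460bce027706940997089c0d590ca708c0026d039908a60e2408af08f40765046003ea0a0f0acc091005c50d10085f089d081000500cb308c404bc07cf01e900a402110257060a0b150954048407a40a2804dd026c06c70ba600530ed8050101a808e7092a0b280ba005ff09260f92048509400f8a009909080a38087c03c90b9b081d0aea0282033c063804bb0b330c120b17031a00ca00770dac0b9106080521056309b8062006de06730d4803d50e490d7b0d0d045603730fb3071303cb078907360fbb0cf5074c0d9b0d6600b107ae048a088505880a48060f006405f5075b06aa0993079703ad0eb60a200efa0d3408a3084f052504390fa80f910bf605ce0f2e072504060fa708b2095d008609f70a2f02040a360350063c0c310ab302bd0f950f2707030d80081c0082067f0b810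79606d50db206e30ebc06490a0408bb007a023307820ae10b940cd4096a06a204130fd705c0059c0974092507b10fba0c29038b050f077b000a05450840012c0e340cf303c104930d7001a7056c054f0627087b08aa0f6d0b500026016a0eb508510b560a2e0cd80cde0e7b0fa3060203540aa60e190bd600ed08f50bc600cf00b805b50dae03aa009c06bd09020be707760e020ec90dd00e130120094f0f9c00af06e20fae09c305f40b7405110f720e93077502e00f93078403420b12057608b50a6c025107690e940a5900f507ed039406ca0e4c056007770d0201970f68076602e80ae206ef05b0099e0f020bed05270ddd03ff0735057f0ed0053100270cd002ea0de00a16093e090b01c60463066c065f05bc09b102ec000204b202ba003b03890e6d02b20e2908f80c09077c08c90e6200ac023a0a680b2d0a2d01ff014b0edb09d806b908d703a209560c110bc50ba90b2004890d21083205420be4021409520a3900930a2c0c0703c40f48055809e20f8d0e4008490815057d064d09a5021303320b840ab50ab10eb00e250fdb045d0585039c03f305cf0c8907ac0a5c0f7e08eb0ca50c540b100ea4030e0ec2016e0d5f06bc0729008e0e0c046b0681017e057705f002000bc20329027a07e407b6078f0a050256072e0cfb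04cf0adf02af0eca095f06900b0d0c940c4f0b7b08f0047008ec0e0e0afb0d56075206eb052c0d7c079d0a2a027d083d05a20d810d6a04ca0c9103b70c2c0a540395036b0c6e01700d8f011e0046028905620a0c08bd0f8f0b4d01fb07630a1a01df08590e870c9d06150de500580fa9049706170aef02a300c608d1092307c308f1034f0646095008110f030c1303710b03061e0c680ea903720d8702cc036d061307c004c809bf06b103ca066109170f28073109610915087d079a00ec0d4000940edf0b9605b20b5d01a90a5206f9065406af0951081e015604f9058c056707dd01e6037f04e1018e0ac40574040b015e086108ee0b5b070c02d306600ac30ea8006d0c0207110668025a04ea07830e92046a0948046103690739000f03e90874082f03c60e0709b70d6d087f06580d4b022407da00c10ae60ae8097309940d6107780c4a0a7a022a004d06ee054005b307c40d310db90e510e1c050602f9002c0fb50e7c08dd0db50bd703ba0a8d0e4d0bfa04c4011909e4061202a60b480c2404e404620a0e0b3406cd03110d460cab068c01f6098801f9027e0cc40f4c012908c308e106fa02b80eb30dc806770b080bb401cf0e8b0efd097b0f3b0c7b0c000fd00d7e055a0a750a3b081b0e100d7f0c4e030d086601fe00f40e0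908a2056e022c0a440e080e5e0d2c0b8a0dbf0cc70bc90600046501140dc60a700ae40b260ae004ed0a6d0fc908700f240f200bc303fb014c09f607cb027c0cb10c980b720d68061b01280fc20f12058f0b2900ba0df6037b0f1d002202f4069607e104300854010a0b270e450bbf08290c3b0d2f033f04f10c3800f904160e6102b1066302c90f3a05bd09f50054000b058702410e4109090d4e035b0afc0f530cec09690a2b00df023200fe043a052d058309fd080103a608e90857001c033e024501570bea0fb40e82051d09e104b40cc2010c03b809a2099209c9058900d60c9703a40a86042c07fe014a073f044307420145035e0f2c06c4063106660e55070502c40bbd05fb07ea0c8608750efb08870fcb08db02020d0a0f73045208050bee050303f8016601ed07190bb00c040cb70037051a02ae02c00c1a03c3043503e80b460159016f0c440ac9062f0d95005e031305b70b6e0f3600b7029e0adb0eec0b750c4d0d410da306010756057908ac05e30a9207cc0633032303390e6504b7044c0dde0a080f3e025d0f63065103b00d510355090d050b00390bda09710171089006650e850a8b0d6c04d007700fb801ad029707e305260e900b05085203170e6002fe0b3d0eb90f5f0dbe03dc092e053601f004b0036e054805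7b0cbb0570007f017b0b5a093507140263054402b50fb909820a790b250279018606a8097a07f40e5a096f0ab901f409650f050f850bf30a7809fb068b088201bb015308e6054b0c6101ee00f60b010ee90bcd0d86059d04cb0212096201fc01ef031e063f0d32084b0c8b013003280f520a3f043d0798059a01c40e7f0ef2069f086f041103b30f670a0b027b061803b90f2607bf0466087705080acb0f4b0fd90d2a0ee203030cb001990fc308a00c920e2a0e3c01d60f3d0eeb0c78007e05ec0a760a570af50dda03920dfc0dba0970055106450b240c42091b0be0023c0f1f09d60ee706e0095905a70be604c600ea040102ca08650079086e084c08e8014f0df4057e008804da00e70f5b0b6407860611069b05d705c105a402ed0b68064b0e9b0abb044f0ae30979086205e90fa00107088d0689028009470d72066b08f307e2074a00dd040e001f0a3e052f0a890b580cfd0388052e0a720bf10a650da9012501a0075906a3022e019607060ce405a100b5038d0de306410c5805000be507ba0b6c0b6a052a09420240022b0ce703700307022709910331049d03ee0f87085d02be016b089a0f7908ef0aaa019c0dd5031903c20aed010d044d00a60441003f015501b702840c830e9a0d7808de0512020805e4094d05f8003d0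de40c030aff09b90a2908f7069502340b6005280eaa063a000909d9033605f10e5008b80a350bdb0a250cbc0755090702f80d9d04120b3e037c0ae705170b57011d00240d7d062c03be0dfd0fd50d140e8009840d11037708ca0014021c0db1058203ef0d880cc501be083c0d820226081a0b3a03e100f8074609a80fa2054d06b209a40d4706a409ec0f7c02e50cf20d2d05d40e6705150eff08980c9009b601b30d520c3208da0556038c0110041a0ef301bf0a97004900da0a5e02b90bd80716043c092d03de0873072f062402de08960aba0be80d790b880e050449021005d809900db3003101e4026f03a00a4b076b07d90c06042d037d0bcc03250f900b6b0ca608b3091e028d09430bf900bd077a0df80e7d0d430ef5067c014e0745033a02d803830c750bb5036c01410af90ec10af6025b015f011706690dfe08ba08330f1009990f4e05090dcb0ad70a5605e70ddb099b0b1d04f50793082205d20084099a0eed091f096400280f44011a0b590b020f84073b0f4706ad01510f6a037605c7027105e104590bfe09dc006809fa06f7032b0d230ef80b0400e204020c88013209fc0e88039b0c9c08f9053c0b350dcd02e90321035f046c0c8100a90bdc0f7804a106ed025804aa05a0087a028e075c07090546037e09c80242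09d20aa304a707de022804df053304a00ad10c1c03270b700aec025907740488025e03610cca07bc0f6f06620cee0cbd04170f830ebd015a0a8c055e0e3b042105dd046f0b650a4a01f3036003df0f770ed70f290f140fce047d072802300b6d082309670d6e0d500c760dbb01b1024f049a09a70a450b2a078b09f001050c560628003200cd094c0757051007640c0b0d6307b804450d5d08d406e50eaf09ca079c0486055500e90fbf0ec809b3053f0a3c09d505300c23078e0008091c040c0f2b0a1d0c6008170cea00ee0ed1034c0f1601b80f4604420276035308a104fe0f3f04ce05ca062d051b0e180d1d0998056d00f30c8d0a220a1c05470a270c5d009b0caa080e0bfb00de04c0074907f50e3706360b6709c4045b056904550606068201fd07230c6b05b60e9c09a60566090f0012073e0beb0f3407f8076d06100ca2060d0e2d03a80ea50b8f06c00cfe04e2013507b303d80f64030208690dbd016907a604790cb4026b06c104740fb0016408cf0e04020f04d50c800cd201810bbc078a05fa0513000e0405097f0d7a093a0a990e97059606320730080c00d30a3708260d550b8c0bb1008b0d960a140bb60c55096b00010d1503a90478064403f600c20a9b04de08fe02fd0e4f0c5e0ca007d80346091d07e8017c053e04fb0c2b08b704cd090509d109cb0ed6081609d70a07042900210bdd0a4008d2080a03060b32003a0a530d1e02c50b44050d075804ff032003090af4000408cd09d40f080384042803370de2,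
  0xfff0ffe0ffd0ffc0ffb0ffa0ff90ff80ff70ff60ff50ff40ff30ff20ff10ff00fef0fee0fed0fec0feb0fea0fe90fe80fe70fe60fe50fe40fe30fe20fe10fe00fdf0fde0fdd0fdc0cd107140180091d081d0d3a0da609b704f60f7e094f031a00ce043a044e077603a2061d05860fc800fb088d051f016005ba0a980a4d02030c92074f0ea307510b830b48014b0954057802ec07bc09230d400d7d0ce70a0b0921020e0478023008cd0eb609a4086b0cb80f0a0cd307fc0bee0455055d0b5a026d0a5b054508230c2e00ea0850005d097c071606f40f6900f70869018509f50b6e0bdf0b22018f018c0a3000e40c2409a8045c0267087a0c3e0bba08b4025700860fd20c5f03de03cc08d20ce5016a03e6074705b303200dd6063a090205900d61019806430961040d02cb0f9405c80e960049032104d402d60e72049e02870cf6045a019c0ed806a80510087706cf0e710ec80ad707960b0a0d2c0873017d046402470a8e03020cf8077b01e308970bc10bbe0a8d0c1b0dd704a40e2b0a2300fe0c370f3d0a960579045901bf0228030b0575057c098e080603bf011400e003dc02ae0a8302c80d0805a20db80f1f018e09450d1e0685009c0b4004f903d60f28054a035f0c8508f4089d09bf07dc0387043c003f001102cd0bd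105700cf708a10aaa00c6065d08ad0fa60d150414022606710bcc03f5034b014208dc086308bc00c8089f0a3405f00b3b070d0b5301bc085f0b3d009902f50db909cc090907600e2001ee05540ee5046202390b2f0a9b09650eeb04cf066c0cc60757005903f4060501720a8b007d0a5103090f5c0df50ac100820bc5020806490b5702480b590ece00da01f6023f01c501890f5608a804f402dc086f0aee06cc09a100a50ebf07290ebd017e0abb0c4b032400270bb00faa0c58074d03fa0ca702550041075e0be406c20dce0d820813009200cd0b4b0275036601d50fbd076203480bfd02330e9e092c08a4026406330c070bca08620f6709fc062a02690353005102e8001303f70549015d0e8b0d46087c0ce808a00dab019106d9017103cd03c20b2900c709e60e18040e040703a700e301e90dcb0bbc016706740a570f620f57039a07a501d60a64090408e7080d01ba0b0d0aa4047e04d306bc0c7b01b905220ad409890253007502bb03e4012800a205160acb0b230daa054d0467063809de002c029205e101680209093c091e084a0d2608ac05170dbe019d01ae0b880b8905bb08640463078209d20bd704f8081209e20c8000e90a1a04ec0c83080700fd09b60929025407ef0df90f410e2a0cc40a84012b063401eb00f901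61062c0c760eee0870062e054207100010075605840e7d02b4000f0ad902c20601002f08d703d90d9e0c7f014e086601de09d00bd20887073a0078098402b1029407a105d5012e011b0da7015003bc06950b760e2c0aab090107ea0ed7021b0ba4045d05c20c860792055702b5055a077a051c0abf0de806b90c77009a0da90dc10cc70b710cb2051b010e04fe04e206d50d2403d705e40f430f7308de00d70125052d09e90c660dcf0eac0dcd0b7d0e7708f50b5e0db001ce01d8028f04a9082f07a60de308ff07310e4506210a410c9501100ef20f290c0c0db608920d4f096c0481061c0dc80d9c047902f109b40e860e550de40c6b0dfe0fd50bab05120299055f0bb902740cbe0e0f07410daf09000bef0d960ca806d20d9906df04fa0c550ab8006f00c9046a04e30cec00a606b409b5000601e402270489033203a109dd0eab0a5d0a2f06fa0c910fb204da019307be07ac04ff05d200e1031d0b4a01810d290ae20b9808f101e80d6d076e01870c450ac80117058e086d04760378012f00330f6f066605ce0a4b0af1041a024e06c90bb404c9095703070cd4009b0616080e0bac01f80db40d1a04c302fe0a08062209c606730c390e8a0631072d049b047c05b50fb305c30bbb0373083003d00fd6007f01df0581056b07ce0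c0409d50b2e0aca0ba807d1065e03060f5200070ac60d720b6902930e4808fd0dda07b1079508bf0bff06e40f2505e30d1c01fe0d4e085707c4035e0ca40f090a9e0c110c43099b076b054e06fd00b306e2091b0b2d042d0f2b06b2043809910af5097604e008d901150979037a028d020104040b2706f00f4b0f100f5f02ac0263029c05f1088c0cf00c70053003c40d8d0be20964071d0e880fb10c9f0f79064706120746025203fd0c2307870a5e072106b303790968097b06540a710b200d550fa502710fdb06970c0f01b103bb0ab005bc0c2d0afd0bf70de20ee200950e2909c9045e03f800b20b070d9f09b20add0821093907860fa709530c8a0661053f014f0de005c501cf03c3097a0b330a78056607c807280d980eb2032303fc0d160a85024608b101f30ce60c7d09550c9c0436070402b6066a007e08ef0dbb025e06630fbf0d7e06670c8f012309b0063e0bdc0cb603c1013303300df00f1c05310e33061806700e370e0e0c7e0c9e036e0e6300d802dd00300de60e210a3b021f02360c7208290cef0ab4002002e704c80da806b60573012c017c0dd00a75039b099d094104c10c600f7d060e0afe0ac704ce088f07c00eb50199090b0d93059c0131045207ec01be01070808034d024c0eba026a032d048502f007e9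0d6a0c440d1203440a3f07d6047f0f830341034e080a08d50d470b620f3e02760380039f0c3302ab01c00a0501c10f9b0cca0a140b5002d50c25073008ca02da0c290f880cdf07370b7c0949024206030c1d04e90f4402de062804fc0bc6041001c201e004c509800d130af40ccf007a05090db70629027d034500a90e99033309150d340c030845096202ed0d20070f0ea000020a7f0b9604200ba00cc80b70011e0359006a05cc0b4907020d9a0fa3036f0b5d0861063d09250be803b201cc09310eae0b8f0ceb0a6e08a50f8e008008900c8b05f304970744065c0e3b08600585029005010e090f1207d901830a7a032b0f0504390e980b13084708be0c170ed4006001d900b00f47053406780f4607e80e760d3e0f820da10277003804f309240d5900a700f505390eb703db046b02400d510da5074300ab0d300b1a06c007700df3081707360a490bf8011302950835082607da0245005b0d7002120bfa0adb06f7075a07710a6303160be30a1208480b0403510ab60e410e42029808d306b70ad10fbb049f0b8101a3034309c80dcc0c21077909fe05c70b58041c0dfa099402220b730b720de10bf607910f8f0a4a07fb0b0107c60d28029b01d3083400b90237068d0c380b4107e700bb0dc90bec09ff08e80fa00ecf0b780ed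10aff008103810ef801ef08e50c2b0a030b4e030300b80ea70d740bf10fba0b4704ab09d103be05a3098f0b610f2201490a990ef509b80efa045304310363056a07060af806db0cad09e0057705d40ee80d320d0a054809f100d90e8000be0cfa083904af057e0e560f8d02e40cd50995031e05ca096a02040ba7090707fa0772095603e7077e0bc9046c009f05dc068007640e680ac405fd0f53021601b70cbf01e2012a0b8c08f80a3d0b6b003d0b560c5d0cc903ce0617024107900b3502fc01750d040c10041e01f40d5d004605c60ec3017702fa08b9098c0a8a085501d4089c0a5f02eb0ada0d7105e504cd024b04fb0cbc09a20b950ae30e15033d0f55089305b60e60016f09ac0b8408ab090f0814019b052f0e570d310ac20d690c5c0d2a09d70b0c01a50ac90ed606c80de909bc02ce01320ebb029a071a0d92047d0b8a070c0c6f059a066e04030ccc06c401dd0aad09820df80f0e0a4e06cb017309ca050e0e67032a000b04420a1c05800d14069609100ee702ff0b3e0fc203850f3c076808490a930a92091207d7048d0f4d0f4500150edc0ae9031f0a22024a08f60ca30e280f2d0450008400560bfb088206880a7c009d0bce0a790cac07f80a380c65040c058200580cd607de027e0be1033c014a0136015b06cd07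f908db074809360e6d0b9109da001407d50ae50cdd0d8101fa0f9e0a5a0626060c0e7308ae088503d804f503640eda01b203e10aa90fc10a4c0d5e0b6d0ba102ee0975006501e7031501a606ae0dbc08320c41007b0b0208650c7507c505680a760466021407830efc089a04c605130f8a0d800908095807b401fc013804650111065003bd00a007cb0f400a8807f109870a1f077c08dd0aa001740e350260061e053c052007d40c2c07200b8e029d08e905a5057f07a701440fb00944085b0d4b017a011d0c3005b00b4f05b806dc04170b5c0b7a019f0e95062706e5055807cf084307df0f9003b409cb00b50b2b047a056c05e7044f02c3053806580dd108a7000d0e7e0853017907350e3804290b32013e0e510d8309dc06ad0a6201a100320ac505760d33038f04060e3c0b450e0a060f00dc00c20ef109f30aa60cc30b7e07a30d490651045600f203ef050005280f1904be044d0abe016900e5023a0b3c0fd40e300d8a0dac02b20cbd04190c8d05eb00f0069f0ad208fa01c304dc0f8700db02d402780fa9020d0adc0ec104220055047b0c6304d00d110876035b07880625019e0b1f0b75036103470d05045f0b420f34044a0aea017b01da0e5f02e60a20096000520e0502f30aac07d30c120401022000cb0f970cd80cae0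cff00b7094d0d030a47068a01ea05be04b5028c01f9034a08200db304dd0b1c04b10cd9096702db0ee60cea04eb0c010f6c0986014709590093059907b305f7095e0a2d0d570b160c9d0fb80cb701db06e108110fd105ef09770398010407f70c2000cf081902350f260a0a059d06d70c6200ba0749045803e50e4b021c03390cba033e06890a6507e00195007301960be5033a004a0765030f0e9d0668035c0e2f09280572030c0be90bb50fb403500faf048a02c60e4a0fd803ba0d0b0506025603e802ca07ca0c05091407f60a9106980a9c0acf070e0280050b0c5603ca0ef00a2e0b1900d206ff0e6c02850f710df70d9b0dc001af0d25078006ce09ab07120b0307b00a860dca0f1b004008310d6f03650c96015604d203ab0382055b0a100b5b0e6b03580b51056d0210004b08c705a104df0dd50a1d0f010a6708b00d0106200e1102b00c3a073b0b860f7a038406ca011a08c40fab089608b70c270630022908e108c6001208ce050f0426040808c00d210bc7036b0eff037407b50aeb020008cb05f404300f81051e04ba0ca108da05330a560f0b0e470ad0019708a60ec709e808a90be00e9c039105db0f0f0e870efd03a50f1a0ae604050a33006605560f4808cc007607bb0ad60db5008c0bdd0c5a054f0fc60cf10232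081503c606da0e08087b0a5506bb022e0a7e0141082c04ca083c03b50e8908860f84017004470f59099a060702e20f5102bd07aa0e1f0ec403460d6608240fa803350f920139062d0e0c0a3c0e3f0f000e970beb0bd60ef6041f03f003f10a090659085900a80d1905fb0ae807e209e5020701530f9901cb00e60376027004b00e490a940b8d0bc805c90c02044b09f706d104910632020506dd0797087e05de05e90b26039d066f05d60b9d0b6605ed0a4008f20d3c0dc307520062088003d406d40c7104a5061a0b9c068c086c0f9c018d0cbb096d007107380fd708040334070b094703ed0ba306e6088a0ace0eaa0e39095002f607eb0d520e6a006106a00c3b02a50c4e0e320f3306a1081c01b6063f07780470023c016b02860fa40b6c0b180a680a77094a091304a8036a01a9055e0a2103b70e2d01cd01240c51080f0df60c460bbd0b6004b9047207ad00df0854049c093509f60a70042f0f1807db0b9b0bd0000e0a900c400a600a150981069d0d2f007c09f80d3507cd003b0a240916005f0caa044c0b6a0a3a0d18043e044503a80c5903b00d7a053a0fb5089401f0070a07ab0100015c08ba0a2c095b01f70d2308f7075d07ae07e40d7907b80871025b04110a0d0dc20e6f07a409c700c50e0204e106a30091051d054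70639079a065f048e083d0f540d22045104cc0def0b6f0af9006800d501c8028103b80048010f09980cde0cb9001603eb0a350e3d025f08fc077f0b1400ae0a1e0f4a0deb0b7b080103750fcc0672076101780b170b920ba500220d6c06ef04e70d10076705b20a95076a0356092e0b0e04540ea207740eef06240eaf07af067a07170b930593055c0ee10e1a049606aa04e8082e0fbc04d10fbe00de0eb40494069e058a093f0a660f760ce203a30bd90baa02e10d9d05a4050702bc05ec029108d40e070251081e0c220ba209e30206048700bf0dbf0c28058c00790d44001b03a000350ebe0ca9052903f205140499060d02340cdc0a13019405080ce9054603950ab906940394075b0f9600470fda014808f901ca0e1c0bfe090e0ef90ab5081a07b900e2012105250b3607050c9a03d50bf0031c04e6090504920d0e028e03420d7f065600a30b9406f605150f95061b04ee05fa0cf9076d0087027f0609056104000383064f0592081609fa0d1f06e30d0c0951037c0d9503ea083e0a010b3408880e84001e094200a10ddb082a052b0d97084204610f5808fb0a690ec20aa808d00d5a0ac00318059b04a10aaf03c50ead04280ba603ee022104770e64088405e00de700000b850c6a038c0d8b0cdb0d07018800ad00440a4209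db057b0471075404330f5b059104830596033b079f006b0805080b09ad074b07d2069c02a1027c033809110cd00a9d0dfb0719027b0225053e02a6067f02a70b63082504a2097409370a7d01bb030e0f2404b30097011f067d0b0f068f034c0681054305c1075c03f90bbf04cb005700360e740d4807750f060c8108370ab201c90ee300210c980562092b0c900d6001a800340c9302b30cb5055507990d2e0f0c0bd80446010d085a09ea018b06f9042c0cd702d0041809c50a2706e80157020b025905bd02a00ed204f70ce4004200a403da0f6d04ea05ea05f808020c8c0bea04b701220f72079b0e520486052a05a70e260e9a08400d4508c9062f0e1e08670e22037d0e940c0b0c1909fb0a590997075f02430d4a0dbd08d804c40a180fca0db106f3082703670c820afb0d5302d304d802960ce30589049309cf0c5e07230a58039705cf06ec056e0875032f0ede06040c1e02c90e1305b905a901090b0b048f085606f104250640095a019a011208b60bdb00720cf20efb094e02b90833073d09af0641083a016609ee04a30ae10dd80d1d05a60e4e06ba0540083b00430b1008a200fc052e006c041d08360e010b3000c00d77016e0424060a0d5f00050bf200940b1d08460f680b790aef0cb105c40d3f0df1067b015e03270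972064b0ccb0e400fc306000a02052c0ad50d41011c0f75076904ac0a04011903f6058301180088013005ff0213063505e20a0f07400b430f2a08e003ec0415040209430c5406c60ab3095c02d2058d06a5059501c4075906e706a70f70038e0d670597072f0340074a0611046f022f0fc90bd50e1905ad0a730d370a9f0a0e0b24048b0f3506ac04f10f3b0fb70b3109d60f3601400c69092701a70f110009060808e409ef0d360b37006d0a39026e0cab041b01b003af066906eb013a0da207f20fa1075808ea0dec010b09f90dee089806600eec016402f70311029f088e0d0f0e54031305040f1e0e8d0b2c079c071c0f9d03d2067c0e1d04de05df0cb4069102240a17053607bd0bb109eb00ff053b04e50bc008af003e0c840cee0acc05d90dd205b706d30636072709c002c50469070700f604bc0e6103cb0a160fc508b3079d0dea0ddf014c032902890e460e5806f507250a310da403490f5a08c30aa5025d0017090c050a0c0d071e073f091a0474054b0369030a0bd309c10d780ddd01540c180ade0d940f210e3a06480fd30a530ec60bb6008a057a026f032206f201200e34096306420c1c0753076c0700053502d80d8e0ddc07a00d0208df0541096b09a901030d7c000a0614037f00fa00260f640e6508ed0750099c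0ee40c5b0ae007930677087f0d580c6c04c70a320c13061f0d4d01b40c61028b038809be00370523047308b207e60301063c04b6097103e0068402880969084b0b250498033705b10b46046e0dc407f5032e04a608280f4205e6068b06c502d10b820f6102c407e10d430085072404ae0bda0755018a074c061006fe084103e205fc07980a8f0101057d09200d86004e073306370c4800d406a604820db2042a0c3f0e660ab70d42099e09f00dae0fad06bd0d650336050504bb07e506ab0800058804aa03570b120bae0d8f0526004d0e530a370a290f4f0e3e0eea06d001f209900cc20df20f8604490f5e0f3a093e044109c40fa207630b3a0c5207940a8209ed0fcd09bd07c70844098d045b004f0878065b07c2040a02b70aa1045703d302d907c3013d0f16040b0fce0bcb0d0604120c9b01ed038a06a901450b3908b507dd042e0d0906550377048009e106c100b108c205f905d000bd09a0015f0bf9085e0af305d70b7705650d5c09b106520a000282059f0f080319043707a80c1602490e7c0f6b0a74043b0444008d08c10e7b09d3089b0cfb0ab1059e097f06ea010c03000ce00ca503fb0eb306790cc10e8e05ae0f040edf00ed0726085c085d09c206bf081805a0078406de02d709180b150f77093d0e5b03e304900a4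f04b403df0f7c00450f2f0baf06440e100a540dd90f200703082b0440054403d10d3b02ba0afc0e820f7b0521090a00d003b9008f088906c30ced0caf0e810c8903aa0f320b440a260dfc0ccd091c03c8078b07f002f9087d09f4017f0be7002a07bf0563000c03ad01d208ec03c001f507c10e7a00aa089e008307450fcb0d84072b0c3400d10838001f0c640e700399094c060b01b3071b071801b5003108a3039009d4058f006406b500c3043401c704bf0f17013c0a9708d106e908eb0b540c3504d7002b062b06e003720cfe0cda0d64042b084d077708bb0d3d037b02e301fb0bed0c7c00bc031408bd07f40503036806190ea508f00a520b3802be099301bd0f1d0d17035d092a099903540bf408e6046d07660202035a0e9201520b8b0922034f0c3c0c4d067e0f03096e05110ea10992086e0c090c420b7f06fb0c3d058b02fb09380ad80a6d06a40930093a069904ad0475086a081b0c060d8502500c87060604a70c49022b0bcd0aa30519032805bf00ec00740eb90ca604ef0f650f740a890b1e0d75070101430fd0041306c702650b900a44036c054c031205510268092d0686030d09260f3705020ed900530d560d2d026b03040b4d0f4c04b803fe0a9a0d4c00e80af7033f0aec03b60273055208100ef300f1098302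0f0dad0c4702df0a480c000fb60ae40127022a0e900c6d098800ef0b21037108740742007702ef0c1a0c790ec509660c26043f04e403e90f630c2a09a60615059804a0065302cf0abd0f1301a20f6a091706020f2c003a091f0527049d09ec0e1400b602c0008903620872073e0e5c03cf05ee012d04430c990ded0e17066209b30e0408d601900f2e020a0cf50c3201aa020c00eb068e0690080902a4023100f8069b064a055001a00a110cf30b680aba0da30b87028406130b9e0e030d270e4f073c0bd40dc506fc0cfd097004c0021a051804b20f6007fd0903029702830416078c090d06ed0a6f0c0a069a069300e7021109a50bb80c360ea60da002f801580cd2084c04f005670f9f026c03050c4a0e9303100f85022303170e9b0cf4003c025a0a1907810c94050d00b407a90261064c02150f8009190eb10e2e0e5e0ce107390331010a0d5b015a0c4c0adf0a87040f0ed00f4e0ca20b9a022c06230c1f0afa0bad0ecb004c010507ff002409b90ee900ca0b640c73094607220e9f088b02a30fac0587088301510244032c02e908c80f380d870f070692053d02660b7406be097e0c740108008e093b0df4028a0019016501a40b0902580a3605a80b97027908e302f20fae09a302a9064d02ad0e4c0ed308520734083f0b1b0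fc003550cfc08b801e50d1b00c40a2b03700a5c096f0d5007b20ecc03a90af20ca00460001807ba0b520eed043501ec0e2509730e780d6e0a45014601ff0d880f490b0601e10c140d380e0b0aae00500952098a0bc30dc600390e6e0ea40ae70b6703ac0162016c0cb00dc707ee0be6084f0711066d078d0389001a0eca059409aa0c150c2f0c310f390c5003600ef706870e690e6201b80b080803039304c203960a500cce056408fe0e43015900ac006902aa07f3066505710a430ac302170b8002cc09d9029e09fd09960e440f5d0acd05f60c570f6e08aa09320934071f0d7b00960e8502af0f8c0f2708220f8b065704950ec906b10d6b006e0f9100cc0bcf01820d730fd903b30ebc0f500c67098b0a0709e407730aed00f40af60a1b0aa70edd0e8308790ad305d1013b01d007fe0f7809bb0e4d0e7505e802180553009801d10e230fc4042105c00e8c07b60a6a024d01ad0272064e08ee005a04fd08510352022d0dfd0cb30e0d0137051a0fb90a6c0b3f0713095f01e604320a0c031b0f0208810574000809df043d0386016d056008680a2a014d0a6b0004001c0c880abc0c5305aa0d630e0002b80c680e270b0500250e5a02ea005c0dd307ed0c8e063b070804ed06820bf50a0605b40dff08cf05af05ac0d6801160d00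0f310b9f05f50a280dba07890dde065a03ff0559024f05fe021e0c4f0106023d094b04db00d3048c07b705370f3f0e3105da0fc704d60e2402a20f9305240bb20176002e09c302f409ae02e500af03f3032602a80f9a0e3602fd027a084e09ba0f890e7907090d760f3007e3074e009e09ce09a70ecd0b2a0c7a0dd4008b078e048401020906039e03c909480fcf0ea80184097d02380d900efe0e7f0f0d07a201fd038b09cd00c105d307320b280423036d0b5f09400b650b4c097802c109f2025c0d0d0cc004270bc200ee077d06b001ac0ba903a60c0808580bb30d8c0ec0064506f80e5906d60a250b1100dd0a7b0f230d540de50ef40163068301920cc505cb095d0ea9079e006303c7021d0409089100d604f202bf05ab06ee0f7f049a0a8103a40ed50b550bde0d390c970edb07d00a3e0c0e072e0e0602e008950e5d0325093305f2081f00280d910186056905d806a20bf301ab078f006708990a46038d0090082d080c0bc407c9001d0f9801260b9901550ee00a7206760a80099f0003030809850e9101dc044804880468023e08e2092f0f66078a07150af003dd06af05dd06460eb008f30f1505320b00026207cc02c701d70bb704bd0675072a06640d6209d803920c780e1200f300230e50037e03b1000100700eb804d50129023b002d076f066b0c6e039c06d8005e0134072c01c6021901f1050c07850a8c0a610e8f08c50f140e1b0e1607d809e703ae0aa204d9056f013f0d2b0d8905cd013500540bfc002906b8,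
  0xfff0ffe0ffd0ffc0ffb0ffa0ff90ff80ff70ff60ff50ff40ff30ff20ff10ff00fef0fee0fed0fec0feb0fea0fe90fe80fe70fe60fe50fe40fe30fe20fe10fe00fdf0fde0fdd0fdc0ad404920a130d1d0bbc09430cf6076c0b0806f807240780079b0eef0ca00d7a0417055e04bf00e70e5f04040efd099205ba0adf004402330da4001b09e104c90bcd0d3e0f1b0bed065902ec078c09c901d209a50ba00215061e00de0c5a0f0902d700670d8504f90e5107f6049e000208ab0bb609880a4503d80f120f7206ad0ec406a009260a050072085b03ca018500d305ab0f690e2700e50cb003e005bb0a95030c00990e3e017402bb02ed07f10b2f06af03280b8c0c56033708b9000f046907d7077a065c0fcf09b80f2d01c904b206210b4e0425030a0959058907170cd5040501000b2b07eb0b260cd7064e018a0d910cd303040da600b80e730275040c00910a230d4a0dce0b700b9b003c0b650dc30f2c07d802fc0f9e052a067506b206c904a00bbb0ee1084f073d0c1b02ca01e00d9d087709e505a002e80b890cc10e9b08590ac6008202620de0036304ea089a061a02b604df073705030a710b5302f70c5c0677015501730408029c03610d95086b05e2015f04750efc080b0d1103570691090b0d2e0d47086406a300cf00c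40f4f021404b6012102490cac043607b10c07041409240671055505e6048c059f082508e50d97043d02c9090401ec0801092f0d080e3d005c0fb000e40fad0eb101eb057e05190b7c086104e301ac02f10f010c3e0f4007730e030d6503c00a3d01950e6503d20a5507e00a8b033d06df0870067900ee0440030b0be30c4004070d180bd806c2048b07bf0bab06e5083f09fb0242011c0a280c0c070708480b170b7208ac080f045704dd07860c550c4b070c0775024c09e90ab303a802a107c10e5d0dbd0b6105a80b590e710ae000660298058b0c390ed80c800e8a0d660eed0d6d0b360203005a092c08ef03b2039f0d150bca0a92081208c2033400940c9b0c150f3d00130cad08c307b80aec0cf009f2076b08510c61047f01df060a04b30d0c0c710ad80d130ae4032d064908f900430ab106fb081d0d27096805770394080907200b430fbc05e10a34045b0efa0a750306034a03510e5b0aba0c290a000f770cd10c820b0906f2045c0c770cff07040e8008740288062b0970050a0dc40514003e060e0a640a2a02860e7d0fb3084a0b6b00a501ab036704d006100c2f0a96018f003f0cc70e770d0f02ea0deb0f670d4d0366084e0b2507530ae8080708f80bda080a02790ccf054f0b63082c01e80f190a030ad009cc00f901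610d5f04ef0332030904230ab60fc103d4097d00df093c077d03de07e108fd01d306530a7f081e014507d4099f0e3c0672066305e30e230bfe012c00a70f92049006570fce014703e805ce0150053809ff0d1401e50a6d059901170cef07d6018804650e9701c20fcb0cdc09f300a40ce5009a0c6903f2022303e4051c09470eb9046304de0fd3005803d00c5909df056905c608af0f980ee40e1c00970f26081f0e7e0faa0f91075805b40389021a078203c505da06d10f1c094800b30c7900f60a6903680fc6077f062f063a0c6a0ca306520a5e0d3602dc01ca0d8e076f032308d50e2804c107e508ca0462006e07da09220b0c06370ec50c3001f60e010dea0ae50acc0df60fda0edf09070841045e0a1409e00f7008380a9e0a5101840abb02520d9303ff0ede05540c200e040aea03e3000e088101ed07850eee095e01ff08cb0e1e07cb00d2065a0dbf0c7d0d1a082807ac04c408a501990e4c0c1d0f050fa80e5e0cba0fb10cc40348068001870ec303c707ea0622086d02b008b60aa7048e01760e460da702ab0af101e70b1c077b030d075108840e250eb80df4015a0be10e6204d70bf401930d7f03ea0ecc058e0b1b0d7c0b4b01d502630a530872086702f9091e098c089700f30951010e08c5007f06d90fd108ba03750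8800c8b0b9907a709ac028d0a010b0d054c028202280d72036d0534048d02c20a790fa608ce08bf01d706b10c0a0bd200c0024f0d4e07af0d0b0d0500d802300d9908fa0ba30bbd0ce80c410cf5028f05930cc30192028409100cf809ae06da03380d64095505610c3b01b603e907d10917088d09720f6a02a30b190e4e01080631068505180db50d460bdb06f10d49010a03170b620d6a02d008f106410ac50d8403f803f00ab80ce409280aa10ef20d1709a2037906740474044702c807830da507c607ed02fd020d002a00fc0dd00f2f0aed05e0081606ab0e7506ae05d70f24092309000612015702700fc206070a330eaa0a39017e016904210261022c0477072a057c0d1f0e8407df010105a9093006480f1107280b540019096c06bf0f5e0c32008306a60f530b1204da04e008e308ad00a200e0066a0e4308a40f9b028a09d005e903250118083107b30ce20ac20a76084d0687026f080c07b501ce0200090f0e36001e00ec08da05c00563064d0f800ca403f10d1003a9085d008b0e6f062d0a1d09d10ed7017c05e702a404c80b490106035800780ab403bb01ba044f0f2a0d310dc805a60f38029203ba0e91077e07c90b050eb500e107dc006f02650bf205560f500c09087b04e80cfc0bb007d50060040e04850db10ed6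071d0520017f0c870665021b01910a7c08c00bfa09290481043c09640529026c0ef4063302d20a4b0225005d06680dbb0f860bef0f780bb309f103a5047905d00c7b0a06037e02ae0e2007b40f5607e40b4a090809380839096609310574094c0c8604a404d9089309e6041907ef007a05d3081504320e3a06aa03590d6e0b6d00cb0e9d050707030cdd02670ec90224043f07fc08d7089b02c10ce70cde0ec80bd900a90ce901cd0da80d5d08e907e80732073301ee07dd08f6059e02640ef904fc0934082d076801cb05d2049d07bd0f8b09d500560526036c016a0149033c046e0356095a031e0a5b0fd00e6e0f1802aa0181093f0aa90a480bd608be0b680a10026a0ad2009606a2029301430d280fa30cf40b480e560c9a08b0064606f7022602a009840d4c05320eb70500000a0c380be00d5501790bc30edb0bc70cab07700eea0ac9073603550af700790ddb045000080e860ea80e1d04e10b32034e091604f305db0eb0040a05680bc50cb40aee093b047e05420d9009c50092065b0c6c031f081401a70d0201a30833025908bb08df016b0a990bbf00f10535053a0b6a040b0f2109a10de1091208b2010f0f340448091f0fa50f4605940601022e0b4104610739024000b9084909990e3f0a0406950759086a0a7d0029060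00aff06ee01c308e4098608630660012b090201a2045a062702060b79008a049a0311082900e8048f0a09075e054b0e3b09fe0bb80747080d0bd50e40098e0ed90cd20ed500bf03f70d960a5702c30af00960093d01820c2509a305160ada0e1602de065509090f8207f20528040d0b600e09044a08780b550a7b074107fa0d5405ef0d4204ce0dc7034205be0709076e06c103a0037605fd01f304a800f4093e0bb50280025700fd0cc60d26006c022105ac020c05cf064f067f092007fe04640f0e0c47055204b50021070200460d240c450e4b0d6c0c5f05c30aa80cd801d4044202fb0ddc00be0f510ae602b702d10afb0b4f06b30e9304090b44007d07990980098309da09930ba807050bee0e330fbb06e906320f8c0941063e013d0db8068808c10de40c51081707e9093a006d0a8801b302be0b1609f90312001f01c60026032409bb027a0edd0e4d0fa90ab706ed04290b9d03ac0175043e09a6094509ca09dc0d2d0a740b7e089c010406620b7608ae0f2b0ee70424072f0d9f02bc04990ceb07e70f6608620bf608d20e480c8900b10dfc08ed098d0ad108dd03ab09250c95061c05b308350d3505f3060c0b8d0d2a0f83091404ed0dda065d0f8403470f9f06a802cf051b07f50c3d058f080e086004ad076d0a1b0a3e0d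a306eb0506014c0dd80c420e600cce0eba055f0962004f0be902470ad30f0f0bfb019c06960399026d09ab066f00690e9001b00e98071003ae052503330722022f097f0065041a056201a60ee20b180abc054e0e64079c033f04a608c603160bdc0f740cf70b20035f03bf04c60e1209370b2404e9056409490e9c0b64045d05f2059b0e520b800a2f0a9b09bc087a0a24094d06ac0a2209f409a806bb0a1709210f170c440c7f0218039a0b8e02020d9a065107810aca0dc20b3d0bae07160e0b0dd90bc00fd503700cbc0205076903a20a200bb7083b04430ea7023f0a0c0f81000c03c30698052c0fbe09c405c80a580a590020039b05d403bc0819039e0b9a0156052d0ee0074309850d030aad02120ccb0cb80386050e0823049c0ba2037f0f7908710bf903740c4e086609cf0505061f040203d506e702b50a70091b000b0a5003c405a50146013007db03db02e40a8402bd09f70abe0fa70b6e0045071e03cf07ff0d7b09aa0a820a770af40e4707f40886039501d90c11038105b2068b0fae071b02780ccc069703540bf00be500550cbb0b00019d08f405bd0c2704830fd9038a0af20d50009c0a38035e069400ca0a4a05ca06b40b670aa200fb05830b5c0d3205b70683095c0fa20c520f650913022009150e9a085509be0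12800b70a1f0e3804490f7f0268009f041e04b801bb0aa403390c4f0ebd024e052406b008ee0aae078a0546039608ea00eb01ef012e01980933090101230f0003a1072702cc0ebb0c48061304340baf069d0e8e058109560a25032f0a1c0c960cec02cd0658078900d70d6708d80f4a0ed20b340ac003b60d0001770f6808200b980c6d03b9042b0172075703d106e0042204d103c6013707ad0d3401c1057b0bc20c230d760a3001fa01e2058a0692053b0ced0e190bc803880afe07c407480234011b0dd701f000ef009d0f0a0f760f9004730c9303e2012a0723008606f40dfb058c0f1006fa0b2c044608b7029703520cd007190c490b7b031a094004f5082a099009f6007707cd014b0a3c0c8f0caa088a07f7000d0a73024a0d3904ee0ed4025c0d2305730f0b005703000a6101aa038e03dc0c140c72023902e002770a5c0fb70e74047602830c2805de090e01c4014809db07ba023208960285035b08aa030806ef07c5038d0795050f09030d1e0341063f0b1a0e500327038f0df00ead05310eab0906022b07cf04bb04f002310e0e0ab2028e0b510c8d0634031c0b4601a008cf01fb0d5101fc0b31075a06260e87051f07300fc705e502cb0add0813045209b908d0056706440d5b088c037d030504780df908ff06de0fab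0db7004a09910a16010706050e35083402b90c080e2a0b8b00ed06810d0e00f007f808f20654042e0afa09b20acd0d7104be0a2103f90c2e0c730fbd01030d290dd302b1011202360f1e00400dc905f705c20dff08470ef6068e074602dd098f057801bf0b77063b0d6b0c83086c00fe0fb60f6008b80a6e046d0ac40b07073f09e70ea908820e4a0df104e60fc9044d0db00427052f05b804860054032e0b860fbf004901090364012009820b100827079f017003af0d2c011601650c0400100e4f0b2904150114053d0fca07e203400bcf047b032c075f0e1a02a80e0d062a01d00da903aa0c430c3503650a6b08210e39035a09cd0e96011f0a54077400ea0115073c04060e020d58089503fb09790d210e6908fe085e07790209088e05f60dbc08050cbd05df0401021606020a6a061d07aa0f3a0b9f05cc0d3d01a50ebf02740a97099b09950166013b030f058409730a62042a07b00aa60eca0a7a03ef0ad706d6000600ac0208008502580dae06e108880f89023e00840dca00d509870adb0e130d6f072e0994078d0b570a4e02e5074d04fe0da207760dfa03a6080007ca09690dd40f940d0d056b0c3f05fe025f0e6b0c9006110a270603084b015d05760d750c990e170144021f018b09c703b10e320d700011051003260c5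00a6f03690842003305aa0e7005cb08100b820d7706f3008702ef003b0978074b01580b4c0f8f01d10cc80f3b0ad50036088301bc01f70b3a0731067c0e7b004d06d704f80d250b3b07ce081b01de04ac0c7a06cc078f0aef056e02fa08e10aaf00300cc204dc018c00250290074c0fc5004709ed0061043a0d5c06c708570711096101e106e200700bc107380726034508080b8501d6033a09cb020e0ce10e830da00fb404390ebc0a9109b005ae011e0b7f02e10e2b06d00c030385016d029e08d40f2e0a3603d9013f01a1029f0d74055106db0fb2073b0a2e01130349074f0e680f7c07cc0ea40f3e0de809de0f3c0d9402560557018000d60c1f006a0cea069f0684045f0f620d450a9d04540cbe06ca03a70db60f73073a0f7a01cc0ab508a300980f6b0aaa0d5e0bfd0b840da100c20ec101970c020e8f07140e890a56046c04c3059502a209b3046008910c0b095f055b0a6c04d601360af9097104cb08d904000b3906170f070afd09fa05c5087d03c208300e540b4002fe031b065e00ba0d2f01cf0670000904aa02950712049308bc065f02370c13029607a601900a8a08cc02bf07490fcd0650067d04e708f50aeb09af0efe0ade0b56053f007b09570c2d0151038c082e0a410000039005ff01620ba409f00a4d075401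1a035c02500a4207000f0c0dc6078802ad08560a4003c90a680c850b1d02810d4807c303fa027c0af50f320d9b0f960ef00dc00c3401c006990e1b02410f7b0f4108dc0d3b08360f8a0ecf01f9073e0e2903cd08de0d5204a10b0f0c18034c03b509c3022a0ae70e1f05c70609056d03eb0e1107d2002706c30fc000dd05330320071c01f4064a03150b7408f70504033605ad0acf09320e530bcc0f5503870f5b02480e6c0f040064025a07a401260b4d03210e8801220e4207ae0f5a00b2074509c808760d590c62008f03fd0c1c055a05600dba08060ef70c19096b023b020a04b70418054500ce03bd06dd0a8e04f20fb90f970d53075b0c060e450a5d047c08f0008c0f020f9505f80189056c0f360071061906cf0041059d04ff01fd068c02f00b6f05ed0dbe098904fb084002f2019a08fb091a0643052b0b450d62050b047a002b03ce0996002209d60398046a02e307fd089f005f074a0b33039d0a8905a3033b053005900af3050104d8013903780c70097c038b054107180a7e03430a8d04280c9f032904b90c94041d03310e6d091d0c600f5f0f4c05f5019f00e30b6606ea01b10d43003d04a3097405120ce00d1c0def0d6302ff0171062c06150131026909ad0846021c0bf10ba500040af60d3f05c9086e06450eff0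b2709a0013e043108790ed106a503b40016078b08a80f7506dc07610bec07e3020f02e60667004e00f20cdb00d003dd03d6043b0e7807a5099d0e6104ae04a500dc0d3a026b0c0e0c5802f30c330ddd0a020656038408e80ef10a0e0ca805a10a0a07e60b3e0f9c05b9075d0e8102ee044b045302c6003404d2010c030106a70d800ece0502077c01ad0cb906200391087509970c000abf0e34049f07c809420d880ef809ef0f29001d0de909390de506c000c103e10d3c0f1408db0e7c03b00f8d0e5a0dcf0c010dec010b029a0cfd0b5f0c2b0bb20b9e05a204ab09e30fa409d2037c01630d600e0c037106ff0b020ee302df03f40b14005b0b71094a0a1209bf070f02600f4e0080012704410c780faf04e5011d03d7002c03c800f80bb90f030511005207930bc40a2d00370a3703cc086f082f069008e006860e080b0e067601a402990c360936083a031906660d780c31009005370c920d4406e805490ecb046801f20abd046705590b3c04b00ce3097b0f22079a0d610e9209ba0e58058d01f1068f03ee060d0b73027d05660cb2072d069304550fba0a8001330ec0007505d6092700cc0822004204ec09b70433041c001a089202eb01020b810c210efb08020a1908240673046b00bd003202c70b8a013400590edc0aa3099c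0f4300030d8206d30f1f021d0f3306b706b507550f58060f09e20ca60dab02f80fd80cae09c004a70a9c079105970a9f0db208a1027f0b220ab90b23070a0d790a1a0a4f0fd2044408a6058506380cd6087e0c7507be0c2a03f50f8706c5024b04cc09d80e790ad9052e0a60094f03ec09b60a3202d6092e01ae0f490daf070e03140e7a05af097a0e440790015200880b5d0c6b0c9d09e408b10858063c09350a2c07a806c403e709a700ad098102f502c004cf01a80e0a051e0d9c0bf70894039200a1089d0ce609440d8f04970a1e0cb502c5091905700c240df305a400170b0307670a110cca0a470d1603b70cbf09eb00b50aac0ea508fc07d306a902b20ea2031809bd07a20b1e0ae908e70d81096a08d30e100a6304cd078707290521002e069c0d690039022205d508b504c20f2703530227019e07940d9e03830bcb063d0f590d0904af0f630a070ea307640f4509fc018602da0614064b0f280d33023c0640009500a8023d062405d8011001b9000701420105028904370e660cc000c6013a00e2032a0a0f05b10cfe09d700ae0c570b960e3101e90be8097508a20d3702100b30079e081c00230f5c0579081103a3010d0e0f083c04960e2e0e21085203fc0bad0c370e5c0cf108cd0c6402e905220d0a04d309b50294049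80ee907130035023a0ab001db07bb07c20e6a017a0cda084503f30ac1090a007304a204e403720e8202a703d305440213068904f7002d0f06048a091c046f0f4d03ed09110e150211001508c80caf0c840d41077705b506e30aa00d120a810c0f00da0c9e084303a40d400089066c0f3f0ca707980d6801b80246020b079206470018027b00d106d20d9209180f5408850410060b02ce02d4094e041300b4081a0d8b0c6e027e085a04c707660cb706be0586053c0bfc0c460f85019b0f390d9806e601f803970daa01960afc008d0f2009760a650cb607f00dcc0124014d060408a9095405cd068205fc0b3f05eb0a830de3024307630e22064c07010132016f0dc509fd072107ee040f00bb0adc0db4055300e600c3029d09500bd30d8604ca0e5506a4003a08d6073405d904fd0dd209d90160067b01be0b910baa0dcb07de00cd0a5f0f4400c70aab034f0a7806c8053e014a054a0fa00fcc08c909a404710344001c052301af04300b830750076008b40c8e0e370cc50dc101b40c760c1204660b0b0844025b0b38067807d901b50eaf059c0f93036207440f52071a048701ea07a903cb0bb408500e140f35056a07b70b060e670c540287042c06ba028c0dfd0e9f00f503be0bf808650e8b045804db0c100451098b0b5805b603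f601350d040f9d0b13014002070e180bb105c101b2033e055d0c05066d0e8d0acb095d0a8600680c1a04a90dfe062806d80ea002ba037a03770f4206cb00050c4c01e3002f0582090c07b2030306f00201036a08730c3c0b0104bd0f8e0f6e0f370fc406bd08ec0a44049b030e07840fd40bf300240e95041100010a0d05800b9400a60c4d0ec20e070bea06fd0a8508c70cc90f6c041f04bc0f5702e70ca10cee0be60c98094b0ec70df20fac0c1706bc07f9066b042d0fb801640eeb016706d402a5039301bd02380dee054d03100b7d05f10dd601530c1e04260f710c3a048807bc05e801dd06390f2500280ec60fc80a260d7d0ef50ddf005e069e028b03b80706027204ba00760c6502760bdd096f0b9504c008d106b90be204590e76079609ea09a9057f09ee0f0d0031092d0c8a0a520a0b0e630a290db9085c0ae20eb4068d0ae10d8d0ad6061605980a98056f092a0d7305360e2408a7066106230508099a08180aa5004c0f080e30012d0f4804b40b420138034609520ba10a9a0b280f4b0cf30f9a0a350de70244096d0b150ccd0f7d051a059203500b9c07b6092b01c709ce0bf502ac0f300b04009b025e0eb20062079d02530a1502510be40bde02540c9c02d300db00d907d0036e0596031d02af09c2067e01c509c60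c810a49034d0f990e2c0e850bd1086805b00d010c4a0b750f130a080de60b1f044e06f6072b08c404d50762049505f00307085407400e990b5a045609dd060806fe0d560b930dd505dd0d4b02db0f5d0946009e00ab05910f1601830ca9075c017b0df80d0701dc0bdf0bc9035d069b0bbe067a0b210a3a0dcd02d8042f029b0dac00510b8806f508eb0547022d05ea03c107780bac089e04f606640bd40d0604eb07a3001409580470007e00af0a900eda032b0dde0a3f0c9706b80c68071500a00d570ea102910f1d06ec057d005002e20b6c09d309ec063002b30eae071f0d8a00b00d1b0ed30e5704120642089007a104350d2006e405fb09b40c660963018d05480ed0062502b80a6607ec00630ef3048000d4096505bc01b705c4015b012f066e04940fc30a5a0e8c0472070b0b350b500c6f04030de2090d0c2c08e607b90998088700b609530c7e05d1026601a90e5904f1084c04d409670e9e096e08a00df7036003fe0b11080407650d870e2605fa08bd03df061b021e06290558083e0e9401e40bc6082604e200c80d8305ec03da0a2b0168037b0ace0cb106060e0008320c53083d016e0c8803b30ac309f507c0076a0fa10bd7085f0335027105bf0d1907080bce00bc0c740f880eac0beb09e80a8f0c5d00aa075203e5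04840e2d054004f40f6d023507f30c9100c90c0d01fe095b01e60db306b605650550027300f7034b00530a3101f50cfb0b5e0f1a0cf90ca200a30b9004b10eec0f6f02d90543072c043804450159082b051d0fd7058706180fdb059a00e909c1007c02c405dc0572008e01190899098a097e099e08f30129017807ab0a3b0a8c0f3107a005f40dd1006b01d803e6024504fa075606fc0e410ba60ba9050d07c70a180cf202f6041b0509036f088b062e0b69089806ce0b0a004801c80420087c0b5b015c0c1604910e2f0df502b40cd90ee50e7f0fb50141048202d50d2b0322015e0f7e024d0bd009770cb308370ba70f230772026e038003130e050b2d00740d2207420a940ca50c670ac8087f0ae30515019405a70d5a08690081068a0b470be703ad0af802040b97038205710d3002a906cd06c6044c0d890a6706a102550d7e009301110125069a0e7205f906d509b10f4705ee05170b920eb6074e050c001207250b8f03300636088f0b3705e406f90b2e018e08530a7208b3057a014e0c5b022907350ac7016c07fb0416025d09f80f15070d0a930ee602170ee806350bba0d38003807710ecd08e205390c6305750ebe00fa0bff0b7a05270302014f08030c5e0f61058800ff051303730eb3036b0cdf00c50ded055c0cd40b520b2a0c8c08890d4f0b8709d402190c260ea60f6402f4047d039c01540a460489078e004b09050fd6066902a60cfa017d0e490a4c01da04c50a870c220d8c0e060c7c0dad0797013c0b780a43,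
  0xfff0ffe0ffd0ffc0ffb0ffa0ff90ff80ff70ff60ff50ff40ff30ff20ff10ff00fef0fee0fed0fec0feb0fea0fe90fe80fe70fe60fe50fe40fe30fe20fe10fe00fdf0fde0fdd0fdc08360833059f0de40c4600e00c190bb6074d00f406b1089b011a080d07010a100b3008fc025a0c1d051103bc067900d8087700d406d20d570a540ec8085f0b8302a900cf0ea505ae0c9909e102d1073d0e5802e103ea06e00b4907220ed504a7025506c30b34023e0e2c05f507240c610c800bd70458052c07ab05c70266072b07640c4709c406ed089d0211091f036504950c5705ce02820c1301e004aa0cd207c90d0e08220ddc08ba086e0c410f850c04095b051b00ca05240176072109d50aa20e0e005b07950f9c0be906a40388012301510ab30b5b07c108610ef103cb00410f8d08f0098f0e320e44010102e501f604b20e41083901dd0e1609c105250953040a031f070b0b5c08f605140f020b6d09da052b030802fe031b06a0023604180f2409e4025f05630da60e7a055c00cc0d860c080b0b0e8e01c10399013508200e5b0a880d0507680fcc001f037008e10f92078c060c0fb80ae20d6b0b8205f90bd40080085d039e0da40b2e082b08620e6f07cf0ae703f007f80387053e00ec0e7e0bc4009808630ada092605700a990da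8088c0881038208be0c100f2808d3011200ed01f206a6015505cb089300740bef06d60f1d0f6206340309026008d000d702b40d98048003ef066201d6016b0f1606b20aee026d06130def066908da0fa5031a0e9d0b840b2708b003960a180999095109a20b010397048a02fa0bc30bd9086f070703c603950bdd0fd909070ed7013b07ca0d170304067c0cba0f230d5c008d0a860a20035700060efd0eac07390dbc0a7807a401af01e10bcb0dd60d2408bf0d7005a603c50b4a03370a0d02a20b4b07b603330c7d0888090904310ba1033f0e670fab0f9b04f70b800ef60be00d7d02b70a1a00670726090603a900e60e1b0b2c023f080705bb0218028b0a340a9e0ede0ab9037507280e0104a600a0004b02930f6609bb047f00a70f7d07c304bb0bc20ad8097c02d0069401ad07c409840f79053303d30ae4001201db028809ff0334007b01aa05f8076908a40aa70d63079b0e610a7f09500d600a090d840ea80a7a0a530571018908670cad05b505830c3b0bfd039d0c310eeb0ca20c290fa40aaf091b09710f2507840d10061f08d507f906a805a3023d0e870f2e0b9e06e4037306890ccb01720576047d0026018b045b0ba6052d021a06980757038c0ebe01da0aab09f10cb9065f00a90de8083c0f4d00880047078806b401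5e0e06040c02960c9502b006d005fe00890147029906530cef00b604ed03170b350463085a08b20e190196070807f100f70bc10cb60dec0b0908c80785080807d40a43077804d40bac017d00850c49088201a9079909cf049d01e308890b630994090006e5021206470afc0b3c0bb4098603d20a2d0a7c0b6606b30f9509c00802093c07130eb20d720df003ee0c78049803000790096601840c8e095c083a05500a280f0602dc06e30ef008c0067008af018e0c8400900d040646088305c80ad90e46063f0457095d0105028f097e09af0f07043c0bde0c680c330a40009b0f7b0c6c01bb0063071205bd0032025c016901c0052805460f5006280b900c650d9e005401280adf074305840db408f9047b07960f8703920d9309a8048f0e1e0a4d05300f820ba40c2302be07b40e340cb501930dd0021b0bab01df036f09ed0e860b390ee405ee0f0a0878074208550d4e0a1400a803e5095e0cbc0f86028408c408b401ae01ed0bb204bc077f071f01cd0ec70bbd0fda0f5d06f9090c07f60329074a03a8036c0ac304280c6a01040f0302300887013600200ca100d3074109790cf60ce00a960d5409b5097f0abc07a00b310ce605050cfe0a250a97063303f5025b0da10516046705910e95097b0e910f3008dd04a40cb10dfa0c770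a3207730168057a0e7f04940501038e0a620d7607d10f810e4e09df0a68030503fe07f7086c075a03e9049e0d3206580c030d1b0d8a06e70a8d092e097203f303d0039f079401a40cc709b20cce05dc0f2b049103ac00e704250643068e037b06360d23059b09f308470158055b014d02ce00d509920fca065201410aae0b5e06860690004d0f140a1f070d0b0806fb0a2c0ef30247073c0d2706de066e0b9901ee0749033a06f8011b0a5008170d2001710d350711059d021305d9007e078f0102049908b705d60eaa0a660f8a088a06ce002f022a0183063e0e4b035b0980087e07e5020e0430081e07040baa0c170d2b091902d606c80df90e470b2100f90b560fc40ca70b6a00970c5d04a30f3a0609099b04e30977003100f80bda033005be060205c3061106300ab20acf0c0e0b4709fd01b606b00a16070f0d4d05eb05d000d003d804470118042e0ebb032a06a90ca402e4058700b205e80b97069102ac0ee10c11030306c00932030d090f04df085b014f0b040f880cdb0a7404d2029a028604b60b2d0ef90bfc020300280156071c09ce03e10100054f0ec50f260fcb03190bdb0e510db60cdc0ed107df0b320a940e14079e0d740f320d2c0fc1060103690c1803bb0b5f041f0a03096303790dda00ea088d0650026a05ca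08a80c7e04510b050f8402140c200d340cb407f20fb30b85037a09210c2f0fa80d580c820c60051f02250af305690b0e02e90a1301f00df70a9d073b093106bb069604e201b202c800ba01910a5c0c2d0b4e0f480758048b0bbe079c054e07c2053a05b601dc09be0c34051807480a3a0d79012c0d260e1d0c27019000100311026f04c6048205e50627047502d70cd60443084208d8068c078a08920c8c08db0a0c07d60e7105b30c3807fa0f540e3702d30b0a0a00086a00f10b720853040703450c9e039a02f50a6402c30c1404a20fad0d16069b08370a690e930ab70b290bfa025d04460c8a0c6b0c3c076d04b108160094044c05480db10b4508040d0f01800a480ad2086003af0177066c0fd50454044006a707b30e5a0301008a08bd01620e0802f306a303cf05e20f5808a300c403fd0316074b0ba900c700550bee02100b7509cd0dbf0cd00db50cc10564002c0e5e0c670e6801e90435010e082504db05320eb90de704fe02270e70038902a50a5609f00a2a0d1f02950da20a17084a0170020c073707ae037107bc01b40c8109400f8b0d3e08180b70010b07f30d9005530328010601480a67015704c50b5d0c4d08950d3705e106650f370b920363077a01e40faf08aa03b0087605310f53006a051e05b7035e0bf6016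d0c3d0e770e810ca807400e6c07ba0e040fc80dcc072a08cd02970b6209480a790b6501150f1807a60dc4019707a504e4023a02b302e00dd402c7043f04ab0a4b08c2059c03a304590a6a010f0c64092c0e4d01d204b306fc09a700b00c010347099c09ee0ce90838046e0e0900680a5f0b0c081d097a0ef7099f060804020cf70b2302090b1f061c07e0042002ef0c7502750639052708f20a4a04cc0ab80c9a0f4b06e808ae05380dae007605f1034109f60bcf0688006106aa06410c5405540ba7052a0289011f086506b608800dfd0dce0537008b028d02440d4506a20598023b077e05130db90e430ac9019b061a05b1000703b701030ef201200d3007250d430f8e0bce05c20edb0879079d0be400e4012409880ea004f1084507e809e00d2f0ab602c501850c02071b07ef095808a100bd04640f7301ab0aa90cee0fa2013804dd0002067e09c604f808fb08350d5205950bb1060f0bc70e8f0e76043a04770361052206770db3017f0bea02940d3b0e520dac0ad1065509b904840ae9000401d300400ece09dc0d010215051c080b03a708000aec06310fc3056c0cf30fbe02c90a8e018701490e65002d062001a005570e2a014e09690c9c06ec059400b809450996076e0f210c970a12058b0e6d04ff0f3503800c5c0eda0c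0b0b78022b077506400ddd0c5603c807700b140bff04cf00010b790a920d390fd6095202dd002b016e007201070744046a092b00130d9701ec06c10bec06970f1905400dbe07350fb107eb055602200ba0087a0b400479079708ed0c9d0a650b4c05e30bf405450a1904880c3e016706fd02b90fba0a0f010a0d6409d709a300e9078d0257050f084805fd09ef05740d6a060409b10626063d0c15028a0e92067808ad00a40a9f072007be01c707670f360de9072f00ee054b037c016c03f104e103c40e18041e0b4102b101250c9b01980bf30bbb0a010e4000be0ad306df00580b7103c3041605960a910864028e006401bf06d80e62076205600a37067101f1063c0f9705a907ea02ad0449005c015b0ce807fc0dab0a5a0d2d090b027803ff0b8a08d101780a9a0f9009d60d000f4709290d5d07870d07091206bd047204c208850c9f08e605da00920fbd0d670fd80060009505f00f0f0d830bae0f13007704f3098a0d7b00b401270bc603930aa3087004690cf4007d04f40759095a07b5020202a8093306db00de07f00a4106ae01750df204130287021701be067f063b062a0c760ae500c9084609650372001504a901fb0961022c0d25088604f502700c45023707dd00160e8405390afa04be0c960ec10b6f0f1a05a805e60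27204e0054907b105df07b90f050bdc0d280a900c8500ce00c503cc08a20cae0e6009430283036d0cfa0f4e0b6c09fb05210b64032f09180ba205dd0d9105de03e805a50c6e0e56007a03f608ac000a0c830a81018800440e8d0c0501c509760e850908066d0944051201d0087f0d6e05f302f203b1024d0a6d076b0f9600790f63069a09f2067206ee067301a108d20c09038a0aca0ecf067503f205730c630df80f3d0e27021e02f401d105ec08910bf10e3d0de504c40da906670841093a01290d77072307e204f003fb01fc08d900a609b40eae02770ade019a0f5207e30ec30b48056e08e703cd05b202e2059a02c4099e044100fd026b0cf905cd0ec6060009eb08f7074f0f27032604ce0f4000f5000e04c3048106800cc40abe0c39057508b30e9c05a0090401c30a6008b807d008a700bf05990a5900a10b580e5409cb047e065904fa06b7089e053c0c7f09d2044d096e02730eb1000c018f0be508a60e22007c0b81041102f80e8a03830b5202c00b93081c0fd40e720c260d990cfd087c0f8c097501130ddf059001340589054d00810c790b860f5b051d05b00ca00987001801f309ec00d209ba070c08eb00490ed9073009e600240239004e0a1109a0078103ae03f40dc0049b0832037d047802c207da0dfc001104ee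07ec0649060a055a09b6037e03740621029e07720755096808ec033e08e20e3002670a9b02bd0a890c5002ed002e06d30c91029b0dbb089f0d750656016a004c0aa001990e3807ad0a21083d0937035f0ecb04170e8009c20a520f0c0c7b085c021d0c72050905920c53006b0ed005ff086d02de0456005d0d440320052f05350c3a08f3080909d1050e0ae109470de10c6f0e4f06640b5a02400af203ab04dc0b3b04d00b160ca603130e5007710d680bf80a230cd80e1509e7003c04960f4a0fb40d0a00620274025305850f7803a00814025607a20985013307e90f0e0be303db01c90a5b00c206420c510f890a49065700840ae607a10f5f017305970a840d400a240b4f06b508c703ca0aaa0cbf0400015d045f0b7e0be20f4c04c1034d059e062901c40d030a2b06100f5c056b0bd001400ee007860a830ae00ccd0e020f490b1d076307bf0f5a079802bb06a10248097400870caf0b8e081f01630aad017c034e0f9402580a360ba5058002410663074c0f330a720de60e9e040e0b8d08540b7b0d8e017e058109550f4506ff06f306f1009101300c2c017404a008ff031007e10eef0c0c040d0d96024f006f0bb7094a07b0092408c60e5c085807600b6806ba0e7400af05170a3e04c70a550f3b01a6014c08f10774008f0c5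20b9a034f0cb80cc301f4014208240250073a0ce4064e05ea03600644048506fe00a2009f062201220ba30ac000e303e70f9d0edd04e906f003d109950056041906850960018c0e8c00fe08e90a390c5903de0f1006b908e306cc01940afd09b30de200660b510b670899040f0b590ea60ac808a507c00f9f03b40c060bb50bb00ed60324056d068106e1095f0af007d3089a000d0fbb015f0f56046504ad0d2a0cbe0427002a032c0925093009a406cd069e0ea10d4f08c1041c02d4082a0b2403a5021600220c880f2c0731020a042d044e0c7c009308d4063505060e9a071e0f770a3808fe094d02220ee803860eea0448045e0e830d7a058206eb02910bd107170a4e07cc07100ac102790efe05ed084305b9024c01090a710bb80e17096b0baf049c0f72009d036a04260c8f080304710b1804870aa10e820f3101b10254017a0fa60207030a003e062f06f502c60c1601d70f6f061d0cc9046c01cb0ec0072c0dc107060c4202a304ea016f0f6102a40d080e3303e205fc03150bad0436074505cf0bb30b2501e800fa04ae092302240c550ab40c0a081a00050a5102510bbc09bd0fac0e2d0f34097802e70b9d041206da0b370fa30b9109ca06be066608bb047c083408120e4900dc0e96066107ce0f6d037f0fb705bf089803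060552012d09810bf70cb709fe0dba075f05cc0d6f04da090a0e2802630d9f0c9301820c6203b503c10d8c081306380a7e003b0fc70daa096f0a870cc600dd0d880bd50f29070a00b50dee0b1309ad03d40bca01520a050c1b0a3b0ee20f710f440021092d0eb702ab0ee309b00186067b08c504740568005a0b4d03230d490844061e00da052002fc0c6905ac031407aa03b603c901ac0e240adb0fa70bd30f1f02690d2e0321008e046606b8085209d4052e0a0601e2035801c8034400cb0e2000f00a3d0e230df5014b0eed03dd066a040409cc0bcd03d70be106ea04330335082e01eb022d02450c2503c00dc70a0e0715084e0034038508a900c108d607e40078035001650e480f460b28007f0e9409f4041b05770dc50e6600960bbf0780068704100da00f080d13080c0cff0d850dd7020b093f0d56013f0e2f0b57004f0d3a02e80ead00a502080c000e1a060b0cf00cca005e0af80d9c0be70394083109f901310d610d0c0a6e083b047606fa0a4702a10989046806ca06af05b4011706d40e1f0dd90efa03fc001e0b1c0ac202db09ea075c04b50d4208b609a90dd502df0ab50f9905d703560cd7054c0801039b084b09590c9202cc06c201a50ab00f7509730fd70aa50b4203ed015007c609140e5309fa030f02a005ef0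c8b0b020e120d3d0f590daf0dd3083f0bdf0bb90d80033b08e5090d0b61026e0f2f078b091c05720b6003b20d3c057f067a0abf04080dc2029009e809c50ed40bf004ca0e1300b7034c00430f200617062407db054a08e402310b7a08e806ad019c0afb05a704fd00b103070057033802610b960da303b80d6c05c50e03058c071d0851039c02f7004a096d02b607890384077608660a4f012b0b9c0cf10f090ed309aa0f390b760d5e0c37093601450d11050c0e4209d00af7001b08f8000307d9093e067d0d470d59073f0d9503ce04220b9505620529038b0eaf05b80b9b0cbd0ee50cd10bf50a770ca9068404520f1202230a8f066b0461089605f40aff01f90f510f0b06370a1b02ba013a0534048605d30aed0b55001a0cf501b702e6041d01110205053d01ce0b74091d0b1e064c07f402fd06d700cd098d064503f90f7003c705440d290a0801ba0f0d0b43080a0515013c0e750a75069304440d46099305a2024305f603ad07ac05610b7703390195011e05fb0252065b058e093d06bf0a6f054704ac062e09f804d50fb90eb405f2046d036b01f7092f039807500039082f091107fb032b08970a3302b2044200c0045003620030051a06c6073208cc05db05f705550ae80e730f43094f08dc0ab100ef08110b0f04210f60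01b308490acd0e070c8d0cd90a6b08ee0ebf0f83005001920401023c09de065c084d0cc50fc909420b54001c0510090e075208590b690b3a0e980eff0ad404e505e7043b0fd3028000b90f6a0f68049306c902cf082d0489096a0db80c6d0b7f0c220b890c2a068a0f0405c60462040b066f004601de0ac60008011402920a0b055809c90dea065a015307820d3804e80fcd03aa0a2703a601100d1c04c80b1b09490bfb045507a9045d038d064b00820221050b060709340381048e02b80990067602cb09ab093503910cdf02590b0002460d1d020d0d4c05bc0cd3027d03670a8c0fae0d9b03460868000f03e4015a089400fc0e3b0d69003a04fc03310b3f01b9031c0efb0ebc08190f6c013909170872065e061b04b90e5703b307bb06cb0d8209050f1b0ae306d50e6a07c702a70eb6019f00270ce20cc805af02d90b9f00710705027a038f0cd402040126056a0d6206e906e201a20cfc0a420322004803640682065405590017094b01b50b060f6e04060bc50460035c0faa06740445006c07190eb0019e0ddb07e60e5d01ef015909f50ee9078e0e3a070208ef0de302f10eba0dff0c8705c407a70c3208b5077703dc0ad60b6b00090b2f0e63065d0ea30a630f9e06510b150a440cdd05d20e4c0823033c0b3303e30fb0066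804530a4c0d330dc6095406cf0cfb04ba05d10af901d406ab077b0aa8048d0d6d00510aac0a7d043e000b044a00df07d201e608ab0ed2043703420afe0473022f053b086907dc0f80032d08150c9001460e5900590840093806a504e609e5061205aa0e0a0541039008290e290536035405fa0d180a980c280aea0fa905d4044f03e6061808f50956014a03a2081b092809150e900d81075b0e1c0a1e0ef800e5050a02ff09db03510f6706ac074607de03760f000ad70a8a0e3c0b3609bc03c204c90fd109c7092204900f3808ea01ca09130d550f740f3f02da09fc02280ea406c7061508df0dd80e6409b70ed808560ebd0414064807d80c4f0b460caa05c90cd50f170765079a099d068f02640c4003ec08fa024900d90e9b0efc0cb0047a008c035d055e04eb090203250fcf027b0fb20ee6031d08ca012a0fb50a07053f015400f2027c0ba80d780bf20434072e0c8904f608750a1c0b8f05510bed0c43016607560d5a0fc60c0f06e604cb0e69026c094e013d024e0d21049704d1048c04bf05ba0ac4045c073309640405092a098e0c5a0d870ce706bc0fdb069c075e0b500036069f0c4401080a950ce10ec40da708b1058f098b0a930b7d0c73070e0c4b042c01320f7f0eec09c300d606320d7300c3089c07fe074706d90b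7c09d80c4a00b309bf033604290a3104e70c1e06050070084c012e0bd201d500f303480ded0d0d057d0b8c0d8900bc08840eab0a820a5e0ecc090100eb033203d60343011d0e8b04230b3e0c940b22060d001d049f04b4009a031e02d50ea20265045a0dcd0c0707c80d7e09a6062d0982011c07030acb00ad09b80c7000ac02ea0c4e0d940e2b0d7101e70dc90fc50ef4075102bc009e024a07cb0dcf0d190de0094101610a020dfb076a02a601a800690e0f055f0eb5064d01b00a15013e0d0b057e050d022e0e2e013707d70bd80e9f00c608bc0b26030208740c58011609d3049204fb084f03400542087d00fb0734021c007304b8086b0c2e024b01810d5308cb0acc094c043207b80b73017b0f9a04c00c2b0a3f0783088f01f5030e0828003703530c1c04240f2a0a9c05e004bd09ae028c023800250ea70b2b01a700a3076f0d120d8d034b055d0cda0827029c05d8091601430d3f0b0d03a4056501fa075401fd009c0c36006509c8081002cd0fd00a260deb07fd0a0a0cc20e3506f20857032e06990dbd00e200830ccf0603062c09910da504830e5508730a3501640aa609a10aba0f150e110716068d02330fd206250cab07930970035908300dde093b07d50c210234074e0fbc0eee0a4503eb0b190d660d090fa001bc0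9570b2a0abd0e890dc801fe083e0378031800290f1c0f3c00380939035a0a3c08c9061905a1026805a407920eb803df09980bcc0ce5052309e30a610db00df401790cf803680ad50f420f93080e0f8f04d9087b09ac0042023202aa01a302d2030b0c7107af094606830af50f2d0e7b0f980c4c044b0c480a7006f7041a0f1e059307bd006d06920a2200bb0b20042a0bc9012f03a101b80d920b07077c07ff0a5d0d8f0a300b880e3102ae01cc0ef5021f00990d3608710826080f0f91056602e3025e09a5069506dc0e2108a0050007ed0d6503bf0beb0a040f7a0d480a730d1a091e0c3f0f41027100d10ace005f00000e0b040904d707ee046f0d5f061406ef031208ce0415070004390053088e08fd0ced0df60f7c00ff00190b1a01c20fce09200c5f0ee70df10fbf060e02350ceb0d2209dd0d1e02eb0ca50997072703be075d05c00c7a04ef064a05d50f6b0ac70fa10be60616097d0db20dd1027e0c1a01cf0709049a0160012108b90d4b0366057c02d809f706060014011905040cea0d9a0b170e0c07f50e8808f40f550c5e0b0309e20ac50aeb0c3501f80e100cc00f4f050307e705190f6403d507b705ab064f0cbb0d41076c02ec029f04cd0abb0e250a7b0dc30c3001440e7d0a2f0d51034a056703ba071409670bc8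028103f80d7f0e3602260d4a0c860f650dad05070cec0718003f085e0be80a460eca0660042b010d0db70bc003f70729085003490f010d8b0cb2018a00e8079f021909030ea90f7605260e000eb3056f043d073e02f00dd200860206072d046b018d0e05063a0add0a5808050a290d060af10355054300db0cb305e90edc03da00aa03770e6b0dca069d0a2e08cf0aa404d8079103bd0df30e26033d0af4057906dd057b0cde06f604b0036e0962020105e4099a020f0b3800350d020f5e0e3f09100b10073800330bd603fa0a8005780b3d00ab0fc202af0c0d098304ec0cac0c98050205ad04d608c30bf904380e0d0e970d9d06f40e6e0b4403520e4a0c1201ea073602fb076101ff0ad008d70075062b0a8b07b20e9909270b1200f60aef04d3098c08900dcb068b0a1d0bfe01d908060f2207c5091a022902b50edf0ec90d5b09d90e5f005206c50bba05880f3e07660d7c0f570c7401bd07cd029d0e450b8b01e50262058d02ee07790ca3027f0fb60e7809e90adc04f9006e00230af60b870dfe042f0d140b6e02ca0753003d027602000d31019d0b1100c8082c01d8032708de0045015c0c5b030c01c60cf204a50e7c03e0088b04f2058605c10a7602f9058a010c0b530c240e3e028500ae06c407a30ce3024204a10b980403082102f6077d0ec20ecd0fc00a6c04af0a8503d905080b940f7e08e006230e79047003b9071a07a80f1102bf02c10f6904b704de096c0a570d1504a800e10c660ccc0d50029806d10c1f0e39,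
  0xfff0ffe0ffd0ffc0ffb0ffa0ff90ff80ff70ff60ff50ff40ff30ff20ff10ff00fef0fee0fed0fec0feb0fea0fe90fe80fe70fe60fe50fe40fe30fe20fe10fe00fdf0fde0fdd0fdc0c9509850c1309dd09cf032509260efc05e90a81040909e200ad098409c40f41076208ce0efe026c015b095c07e8076b083b093b0a0e038d015e0f220d0c098c03a40920020d08bc096e015f043e0a3b086a011e092203210512058505c5088204c604350ca40b03000f06150534027504fb07b603ed0ead06c6015a059c07f809de0cad07010e5a006600aa0e6b061f0d8406e80a6907f6059f06a506a80ad2066d0d170c8109cd02bf0b42054204610ea70541086d0e5302450084064404eb0c2009300c3d0e4601c404b40b70056101740d030eb701ff002b0f3e0ee60f23047d0cb704c40346047c04a20a0b05bf0dca03dc013307ba0dc50df902530f470b2204e4095a0a1a0b530a3e02a70e240943070607e70ee301b308090242047e08f30c6d0de909b00f5c010808270be3058f0cb20fcc049a06510f6e0c7e0d3c0099026a09ab0e7f08da0c080c9f0a01036d0c420dee0f030e7209860045078d09c20a0a08a00ae70cba0bf1055b04a10f6c0fbe0b3d085d01d4072b062c01a20649076704ee047008c80a490c190a21001c016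b0e0c0226004b0b540ca905980e7502d309b800a60cf70125060303fc0f30066103f4007809540fc905e60fd40bc604ad069a0e7103fd042504f905790da8069703470a3900b7093d059e015207680aed045b06a20d0b0f6d0a950d4c0f50095d0e25055a08dc01940948065e08b701a50cae0bc1013d0842058101dc083708f4065c0e760d0e0ebf0682039e03cb00260188007b06c809ef09750b1c0672055f0b1e0a850ece010304a608a30c150a1301be04370f7101ed0e690dd407430d380d340bd7064e0a3c0fa00936042b0ae30401034e0f8307fc04650ae906e203a20a0c0503070b0a1f0ae8009a073002400d9605bd098d0d42048e03c0060e04f30db70a73053103ec0af40a2c01e1070e038202b20db80528096c04a5040404a0081c0c5d0f380a11038b040c0bb5024b080d0cb406bc0ed00f0b03b20c120f2f0ef806810a8607a20dac05fc0f9500e30eb500e807d9030202190dcb0b130495055e0b9205e1019c037f0cc90c470f9803420bea08560df205fe0b670f8004230c2e0ca00ad109890d4704520c7a0365029c0d5d04aa0f780d8f0bde023704f2081e07e5052e03800a2e012400410d5c09e7031a090d098a06cf0367099806ba06600dd20b1d004d0d6a045a07760d1c0b3801fa060d00370ee10f540a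54035f069403e50836062202670c3107b505dc020200c3033e0cb80c1a05cd07830d58058d023a0b2a0746069d0f11044f070705650adc0d3e0863043a0a04021404420cec094e0b1b061e05fd08de04a704880f5e0c4609740958043d0d1108dd0e5608b102be07fa0f3103f300590ae207410f490482096909f308a4016907610cb3088404a4020707c801950ba308780a14015807d0038e0a1b03bc0eb406710e30029f0540034f0a650be8018d0e640f63071a051e03bb07ee0f5f0d75057d0795077404b00999046a0aae05270cd101410cd00e870e910c7209ee0a8f01910b04085c08b302b80b2c08740e6d09c0010909bb0ef30a18030c022b092100db06cc027f0d180a0d00d9051c012d0b160d8b0c070bf305a70e9905b20577058c02f9089606260e45021205d504140d9a079405f402170c0f00f806fa0f93091d03770abc0445033204980bf503f20c430300055302960d6e03400dc40519078006f9077a03c501c60d770283060b00420e2d03f907dd01a708b401b5028202970249037e008107440a4f0e480e3a060c01a007f00e12047a09fa043f03d20641022e042a0cd8048d033102fb0ee40af0062e039c0a630e4d090e037100c403300e96084f033502380e0709c90f3c0c68007409940eb2008204e809120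eb10c4d037a06070d05072a0a8b01840b3601540a76065604f5076c0af10c090c2c070907a608760cfd00b208ea00680e2a06f5025005020da00f8a09a40b3c07b7017501930df40160044d0ecf01470fbd0ee70593000803ef0cfa07250d300c510f7207b806b300df07900b2e0d200a9d01710d07027300400f07028f0aa9070f084a09f105740067087d066405ad0e01054607cb0c6209b30350057c034107020c670c7f023101bc0a460030014d00d508d90b140a4a0d500937069f09ea02d90bc00bc30dbb0db90227092e01ce088f0a6b09730e5c052f014f00930952036303730bfa041c06e40ac907a706ca027e01860f270a200e160f6a024301420e780de20f4204780af70bc20ed90f9a005e068d010e0f0d006a01df056e03f50fa900a503bd05c20e500f350af2096207ae06c705e508cf0c63068609c30fdb096f009d05c004ae01ab0390053a089702700b3406230675049e049b036202cc001307880ba70f8902800ce20f3d01f40ab50bc90e4b0c6c078709cb07190923091c06200db6056d03b5075b0b8b0f4a0c7902f5062906c10d3b0ce305df0c3808a50c980ce90b0e04b603da02690e80027b01e20ab006ea01ba0b0508c2072f0545044302090d040324052608aa0d3309950720045900430c220e5b0df8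07ef03990d7b0f32027d07d40aa20b4b0f7900cd0aa00a8701680c650198053804630055085904540e1c066b0a000e5101ea0d240b2607b902ce0264098b01480abd00c200650c4804200f7b0a8e0bcc03280aa30b8f0e150f150b1505f002b90ebb09f40fd90e730af605490d8700be0529005106b60a3f0d250f360d990b6f007302550a7c01b60955004a028d02630369039507fd0cc20b7c001e0acc05b30d7d0a9f0d9808db0f26064706b40ade011204ca05690e5802c70dcd067401d1026b08650f44071c00b4039b05960e4407c606db0b24090705ce0b570eb009f6020e023500d6041b07fe0aa407e4083400180c1e0bae064b0c7b090a04730efb0050088b0cd20caf0ed80cd30053021e051f0248073a04de06ed08c3029503530e7b03b70262003e02f60902028a0bcb06330480032c03fa08f709910c8205b102410a1d0ddc067f043c06d80559003808c90500074900860aff06c304e3045e08fe079f00bb0e6006730a660c1b07ff014304810c6e026e0738008a02510a310690029200830a270b470a9706ff07de08220bf908440b09093e06a403f8004e007f00a80b4e02c006bb0f750c0604150968077300fa08900a5302a80e540a7a087e01ae05660a750a030873075a0ab9087f0031009006c206fd033b0bd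8005b06660f0e0f57038f09f908390b410b730ace04940c3e03290945048a0b8108ec06a10990086c0f860b4f074f040a08b20f210d15033700f100d30e2906680d2c02660c8b00ea034904fa09ec006b0cfe07590dae05f10e0f0afe007a06b20c2b0a400bdb045d0f5b050c0658024c0ec10e2f0ec40dff06180497079206a60d9b0c180cda0e63093a00ba075605ec0c6102fd097e0150059d0b7a08400ac204ce0c570db20fa804b304d606fc0b990b2902bb06fe021d0770097902230cb00c1107ec0e8d05430c9e0d260d4b083107750eea065b02d707510ea40e9d0f28098201ca053c0eaa0deb070408d103a70bee0a6f0e0801af081302de037b068e0166075f077106110f8c0e4f00ae083d0b4d05760bf705fb08750cbf067906930a38014502200a510b0706d108a801e308b80c250d8101c201180b5e03b6040d05670c7c0717067a0a6c094b0c5a08a90dbd00c1089c07e903810cf507ca07850a6105560bd00c1c0c3f07a10c3b0bf401000cfc05f8091b040804ba021c0b8008300ee5065207a403fb07ce09e30db40c1f061a01630d2e01d504dc046d0c3a0e6f0ec00a5c03dd04b90fd2008f0286023002810c0306630b6608c6001d08230d2a0b62040e0e9002b309ad09c80add025c020b0ab20ccb00fb0f9100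dc05cc0b900dce09b40d4803830aa606aa0711013701320a84024d05c400c9024e098008ee07c10e230b6902590ac301050d5e02ac057f069c03e10cd90f16003902dc0cdf0258089104e6036102c50b250c0a0f5606840eae0fb409fb0ef00ac603600294060109b701a908cd0b86035e07c20e3d07ea0e8c09d305af0366087b0b82024604b80964008503570f140cb90e9e05f60ba4080a0dd60f58036b0da702eb092a07d60dda0eba023c0e7e019009e40fc10d9f0ea10f650f2a0687004603b8057b00210e040b6101550f340c2f03920216037007980a3a0d560b5101ac08bb0bd609130c140de605d70cf209570ec60db501de0b3002760cd5055006e60e39029d07a80a0f0a900fd00750051101270f9b0fd80914061406e9094c09030432019b034d01ef0a2b07ed080505250fd707f90f8809920c7700140d3d0a7005fa001f00fe0fcd0c960f2b08260dab06f204d9054e02000da9044c03d90f090a34052d04510a640ce808d0050b0f48054c085e0a71018f0f3901d2031f00890299066504f00d16014b0887031e0846039f039d066a0268021b08bf0dbf0e33053607cc0c4c0d3906ae09cc0ba80b44045c06dc0e970fbc0c270e360e4e06a907860f2e0fda0fce082d0ae608e30a5700920b0c0311089901f803090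af907600518063a0ec50df70cca074505f202ad0c940fb702aa0e8500bf086f0de70b6d077f08e106430a2403de0c9d009c02ae00b309420ee20fc603ae0f5906d70df609f009000c010eff02cb0cc5012200f4008d0e00028909d90ab1022d03cc0edd07c902900b4905a20f53095e071d009f07da0b790eee00d80fc20b12018e02b40cd70eac050604fe0915043403050f7a02ed0cce05870855056a0a1605ca030d004f0fd5003a04070c750fb10da40fba00d208f00d830c740a9b07e0067604bc05ab06cb093309dc09f50d3501f2064007970d460e37041904260bc8056807820bda02c60343048f09d80bb0068a0956084b0b9503450181031701bf06ab086b0ba907a502d60ed20f4b05c6001a091e00f20a56082a0b46087c0d1e02af006306f4077705580829098108a10966064208a20dfc0df30edf0bf20f370cdb02360597010f024a03540513033a0ae009b20c990fca0a32006f007d017b0b9d0f1702db0a7905ff061d0bb80c5602ff0106099a04bb02600fb809f7001003e90abe0edb000605070d660db00b3e0df1030b036c01560167046e077d0c4e0aaf0ac0081606c40c640de50ebc08df08e20f2904a303a9076a0aac013907f3097c050e0c8d0d9106d604e505e805e70a440b6a0ccc03b1059901400bc4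052a00ec020509a2011103a80de1080e0fac0110014c0b5d0b650cef08eb0a2806d008410ddb05f70d210aca0dad0b60043b073e05d6096a05c80f810b4308f80fb3064f040506ef05700be405d90e06044a006d07df05f909ae0f200db101bb00610c330222030a0e57092c03d30411051b0120031c0d4106dd072c063e08ff0cf30418031b03ca09a008030b7b03740ed608790b0806da00e60acf00b90fc304f60b50047b0ed30e1f06300bce081f04af0aef0a96048b018b0983051a002808ed08e406d90f4509c1072205a30a770b7d006e01aa08330e41060f0e81055c0233005f055d04e208a7063603030ada000d01760539017f08830e79065900010a1c0f4e019705e000bc09d103c208450091024f07dc0b8e0bd10bfb0ea601780def09ce0f9c01510f9007340563089a052200110d590c450dc609d20af503b30a2d0aab0fc50f5104500e400bcf01150440049d091a08600b7e0d68080006f6093f0e67009607350a1507540c400210014e00350dd800ac0a91060409960cea0aa809470dde00e50bdd0627027407bc0a2f0a550400053d03fe012307c305350f600c2a0d020d140fa20e1b015d000c01b000e200ab01590c9c0183016404e002bc038c09e50cbe0d2208f60a9306f10e6e0aa107550b94063f002d03e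b00f606e300b609fc090f00f90dc20d8a06a70b1803330cff05e307210f2c0688017a02f202b00c830c7809870aa705470e13090804cb0d730967037908ab019a02e70d71044b010a08e60e2b0aee0dc10b6c04830ad40afa00540397062d0d270fc4089d06df0eeb0f1a058a01b104c102ab0fcb0de309780ad5015701ad059a0c6f0b5f0b2d033401eb0b1007a007d5056b06570aea09e10b4004f700d700b800af03560b9b031603e00e0e09720d5f0eb3054b0dea042c043008710680069b035a0bbb02980b890485068f07d707f500fc04dd035b0e9b0c5506ee01fd084d0f1e0d2f04db00c6050904da0d060537012b0825078e0c4b060504bf09410be200020dc90c7606920ab403a6025a005202da04710a5f01c00cf40e8a027c036e0e9f02d50d2300d00e0a0f52050a0ae105b90ce40f9901a60b7f0afc0b590b0000a20d850d72059206a307db0d1b08e7011c09bf07a302f80867072e0bb902c903200c5909da0f9200a309e803070cc0079a0ea3063b065a0769062b084e098e0bdc083f08280ba009590895044704d205aa06350ac1087a0e35026501850da209160cbd029e0ec70c9b0f9f068508a60b980b5a0c6904ac047403b901460e770b710e3204b104b702a60c0b025b0bef0d010b27018900ce02e5099304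d8011d08f90a6009880f8d07930b170f8e0b7806f70ee80b4500290cd600ee0e0d0a4c073c0ef905c104600ef20201032e0e210ac7071805d00b8507360ad70cab0234004909010654078c0a090c9706c50a3d06690ecd0e70073d0ba205a6039a041e03380ab30ac80308025f09190c890be70b910ec30dd300e40208014a0f8b017d0c30099d06830b3700690b5509a60cee0a7b00580f020e3102c10edc02d20ed10aec06e0080c0b2007520d2905a4068902f70a940f3f049f08690eaf033c03640bca016e0f1b00de0bf0018704130f7d096508e00d530910079e084c0516000006e10976052400bd0218081506d204bd0bad01b702e3083505950d4a076d0f1d06de03aa0c6a003f07c50d90053b05b60c8a0e1e01dd0c730f940dfe08c403f105b40a8d04ec0b1a008e05ea0fa609db04ff017c0ad3027a081d0e930e270d5b0d6c052c060203230d3102df071f07cd0f0506090a3503d508c50e550dfd0e6c0acb09c7085f0a9c08770a1e036f0d89057e09710b2b0c17012e041000710b0f031306160fd3089308920efd0c9a007c078f034c0e5f08070c6605ba032d0e1a04df04870864042709f208700d8d02c3044101e802a0069105b70bd90e140a67022a09290422086e045808f20fad0a5a00ca0ca106990c920f640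3a30e980136047205de0703005a05cf062401cb061b0bf60d950ba602b10a2a02880ced029a091706d3001201350d97067e017906550824094404ea03f70f8f0eed0b0a0f9d026d075c088d0f0c08d70bdf062f03e60d0a06f804cc01e50f4305710e110d9300e10766016f0025092d00c80fae035503c402e80ed503590a4d05f30dc30ce60a0604750ef4034a0d940acd00a90cf104280448058e086600770ca60c7104f40753092b0beb09090ab60b630e0901f707f400970f74004c0ec20e610818081b0f250ee00b9f08e501140aa500fd03520d7902d000cb09e9002a09bd01d309af074203a00c10047907840ceb0c54009b0af30f850f820dd001e9042407bf0ae406250c8e08100c360724099707bb0fa5031400f50e8f00340cc80e3f09b6060a0130088a0c0d0e860dbc0c4f09d0063903e807f2023f035c0bbd0dc800230d9d0852082c0d740977016a063d01fe043808d30faf09e002d80277089801d00b2109b107050727038808b5093503ee02e10ea00d19008b0b9c06130934000703e70fa30b310ef5041a074e083a0d28056c0e920e42033609a5005c0f19015306190f7c05a1032a0d3602930a4308940f5a0b970817049607ab05db0bba07320a890729072609be06ad00750b0101c50327001906d404290310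02fe0b060384059107810bec002f02dd03040fab01800f69033f01c70764013b071e000a0634091808be0a990a820a2506b80c6000720f760b0203f606b90dc008320c910efa06c003ab0e47031d02060dfb0ebd0e840de0089f0f660f240e8206500c8807e102c40c870f4000ff0d7e0b1904e10e620b4c00e703ce0170010109040e950d4f03e2082f0b4802a20dfa05da01650737027907720de80b8c0bac000b0f4c0f6b0f6708380d5705480cb101e60393057a06bf0bc705bb07120f18012908ac0a88033904390dbe01070254025701bd0ea503960c3501770f84069803be0b960b23098f0ee90e2c0c4a05c700c0044e015c0c3202f40e4c09b507e60e0b04560d0f09ba077908620239057206d502fa0d8001490c530e0205d307e20d550fb50df50ba108720e05046b05140eb803180faa093202e609d70102073f011703ad013f07400eab0d5104d1057305d8090b0ef6053e0e5205c902ec0c2100f0067c00b50cc10bd204f8090c084901c103780b6e0d8c06450027085305ee00330a740ab70e7c02bd0b3f0fd10a9a092401fc08680e83010401ee0ea907c000f307be0ef70f040a920baa0d690b7705a004b20ca50f010ded0d7c061c03d60d0805050fa10e8e079c037d08b9052304fc05940e2002f001b8048c0a4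b0747018209630a830f62021a0c5f09b90161027203f00600007008540d540116012c0024049202d109490ecb084701210221005603260d70058300b0080400360e940344045f0ca20dd50dc7021f06be0a070bb40ab80c7001e007eb0e74088e0224036a095b042e01c304ab062a089e08850adf071601f50fbb05be0ea200f7054a099f0ecc099e0d490be0067d0c4401a1076e04640bfc0225047609ff017e0c8f0b520dd70fc007a90e7d019601b40508022900dd01a304cd0a620e890aaa0e3e0e5d0d6103ea010d0ad80d32077e04160d82001b035808430cc3033d0d4509fd05f5070c0f3308af0a1903af0bfd02cf0e340a290e4a064c0cc40c860a420a370e220a3002a405200731073b058003750a22074a058408d40bb6055400200ce70dcf0ea809d505e200e005780b3201440ef10f6808fd03bf09050e590ce50d7604c30e170372064d0b5808d2046c067b0b3b04f10d40075807910d7f0d4e0d4302ef069505dd0bab01f104e90b4a0c1d04d403c60fd60c50060801260fb006eb09a909a104a9085008480e3800a4043608fb0748008c053305eb01ec097d04d0022f007e09280da608b00857097a067806e500cc093104c708140e6600a00d7a08c104cf0b0d01cf0d4d04460d9206f006530bb10c6b0453006207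8a02e203e4032f01d7092f04210a17013e00940582077b043306af0017063102f10504000906060ad904c80a4708c707130cd405100aeb08f5070a01a80f0a065d03cd055203680c2901340c850953008806ec01c80be909060a41049c05d40005065f0b720f870df0040b07aa0afd023b0c160daf0131011a00ed09380a720e8805b0078908e9096009700a4e0763096d02440b680f5506b70247035d02520489029105d10dd106c909e60e4900eb05ac09a707390d630d780bb70a3604e70b8402a109460cf6003d0bff020a016d0baf094d05ae01f00a7f0032012f0d6d0d640a7d0c800da10cbc0c41070d0c5c06100484026f050f09eb0fa407c40cf903d701d90c8c02780b8a059b0fc80be50f3a0c5e099c0e1d0b3506ce0c280bfe0bb3004708bd067701f9016c0a6e06b507150a520a45046700570c0404680f5d02a30b870d1a08010a580a5b0b1f0e7a08d50d620bbc02a50a260f7f02a90cb60f4d0ba50e9a0521013a01b20a1202ba0e1004490d3f0e4308d80bd4068c081a00600ce10a7e030f0d52094a020c0da505cb038700c70ccf0f10039403b00af8085803c80ac403ba0bbe0afb0a98099b03db0e6506370d8809fe01e70e0300040d8e00d407d300480bd50fb9022c0a6d028c0c52066f0ddf04a80888011b0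0640e19069609bc0f700515072d0406019f0e28025e097b056400d103a50c7d002c0911032b028709d404020eb6031207570c2d053f05d202150477059001a40abf0c5b0e8b03b40ca709ed06210ed4009500e9027101cd02ee00c50a8a0f1f054d09aa0be6050d02fc0ccd01d8016205b50ae5018c02c804c20d6f04d50f7703ac0abb0417071008fa0eb904660ce0085b0c58018a03e306320c020d6503890f4f023d076507b20adb0b64075d09f80c9008200a3302d40d6707000eda01e403850f1c03980d5a01fb003b00800e5e09d6077c012a0c370808038a0ddd0ede0d12000e0db30a1009ac09390dcc01c9082e01b906b10ec906460cbb06cd0d2d07ad03df08fc04c5080f0391066c061208ca078b05a507fb046208110d130f73001600cf0cfb04910589064a028b025d0f1205170de40c3908ad0ad6048607ac0a8c01cc03d80d100fb60fbf07b404550fc70f9e07af0dd9075e08ae0a020d2b04ed0eec07f70b0b0cc707d20cdd088009a3066e04440c260d0d06bd0ac503480b8d0cb50dba088c042d02ea0ed7009e04c0023e089b01190a5e05bc05a802cd0f610a5d02b7052b028405ef0d9c03d007230199046f005d09df03220f060e3c07bd095103c9085100da0fb206ac06f3020402b601380aba042f03d107e3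0557010b0bed0886088108d60caa037c002e011307780daa0f46046908c00a5004030ebe043104900a9e049909c5055507330a6a0b6b07960d8603a1079b0532095003ff08ef0b3a041f0044069e02b50889029b0b3301da0e680493083e07c706700e6a07b1058b034b0d00064803860a680da3011f0d9e093c074d0bd30cdc02110b39091f01f60708017206b00c3c0306055105c30a5905860228072801d60d440e180c240aad0457096b0c0e063808060b930b11083c074c0eef0799041d0be1095f0d1f006c03c3074b0ad00fcf07cf07b00f9605750b74003c0f080ca3031906e706fb007603010940013c0c93096105440e9c0f3b0015056207d801db02e90cc6097f08020b5b0a800617094f031505010b8809a802ca00790b9a0a230f7e0b830d370d60019d0b75030e08cb05e40ec80b2800870f00056f00a104d70d3a0c0504b505ed03d408cc0821086100b10b2f0ca806670d1d0cf00f970c23020308e802f3085a023208190cac012804ef0b5605b80dec0662025603c70c34076f0bbf07140c0c0bc509270b760e2e05600f0f0c00068b020f02610a080f2d00ef0c490d6b0e3b0cf806280bb2028e00a7019e09250a480b9e0e2603c107d10530040f02850b5c0cde04c9010c079d01f30f6f054f06a0082b04120eca058803cf051d00030a05035109c60bf80a780f13037608f104d30bcd02e40173009809ca0c8405a907f108ba0fa70192081207b3047f04be02e00d0904fd08b602c202130022071b080b063c,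
  0xfff0ffe0ffd0ffc0ffb0ffa0ff90ff80ff70ff60ff50ff40ff30ff20ff10ff00fef0fee0fed0fec0feb0fea0fe90fe80fe70fe60fe50fe40fe30fe20fe10fe00fdf0fde0fdd0fdc04f607dc02a20c6e05ad06cd01dd082d06b506e00d9b03ee07a000e909a80b8f03570c1103cb076d06720a81082b082e029c03bb0e7c0e4300c008df0a640b6c05f505a702e703080cb40c39041e037d05fa0e470dc6005d0c52056c08e00f0a0c5c0ce5049805da05d30c870bbb0cfc058801c50d8b025a06c807960917056f096e0df20e1b0ad90dc10d0405c607a30563062005d9018404a40c970504077d0f83061d0f060a1502220b0e02d8014900fb08d10e8a0f300e3e04ed07d101be0c3f09c8021d012200ed077e0daa0cea035305670dc40bbd0100085005930e6d0e6801440b6e054f02ae0c2a09700068031a0d920ee40ce102fb09990dfc0d0d026c0a740b400e820fcc0b1f0a790bca039102ba066507ea0f4f016007e3040002a30663099d0507014700aa06e9014d06be0c220c1b0a6800a4031c0296085503f1039d0f20093807b20334093e00780bac0a7f0bf30b480f5005d6091b036500b4096400eb047705c502a90f6e03c90dac08a20b0d03c8028209b803b40e3a07030c420e1f0f69076c00ac088300ea0e8903b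a07ab01620ee809fa08a80aa607b70e4c071f00040bd80ba502d90bf1048a05480e5c075f01b70ecb03f30983035905e00f8c01370e600b2d01770b4a01ab02b308e40b2107910e8501510330029509fe02ca0a2a02800d0a0f1e08590a2d02a0074e0e8e046e0b7d0d800ea4051d09370a03062900ec001e08a70eb20a4c0f1b00ae05410d730e500f7e0bdd0a9c04cc057400bf0b6907a209ee0d15075b04e6016b0cba0ca00d7b00fa05ba0d35077102fc09020d7505e2058f0a5c03fa0f0b0c6604f800c6080607150ed60bee01f90484044f0a6a08cf007004e80c710d740ebd0dcf07bc0f1a09d7007f0261020c0bb20d49004a09c007e5055a056604470f2c03030dd00c980d09070503f40eba0ae80130049d0e28030d0d160d2a037c0ca101db02b40b050179041d058907060e30085a0b970f820d140e6f081d0ee30a5e0bba070c0687052c0cfe08f207460f43096f01b90cf003210fbf0b30052503a102ff088c03db0b230d7d095602de0f740d6108560f0d03610b880f030eb7042301f3002e0c06041705540af907c105ff0a590fb2095103ab0df70cd106aa039605030a260ef20d93029800f60d3e0df80e27008c0b8e0bb9059e0c930d7109b507db0dd90d510072084b0acd0299052a090a0c050ef104f7064b0d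c009df0689093d0dd40fc307c2042206a30aef0584009f0aaa067f09050dda05720aed0ea603e80d9e04c20d1704e006770d5d03e103dc043c0ce80196005a089805750c8f0e010de7016501de028c0bed0a500dbf017a06d303b60daf02710cc10ca90ba80ac407090d980e42095409af08ed066a0e0f0b520f54049a0203023600000f2b053c06fc031e05450a9f015a028e0caf0b1b0c7b0c7702190a8408da06f607d505730e950cb6012a096a015e0e380f8b03f90a8b03d20d4d0e510b9c0ee108c00c6b03d802fa00650ceb00df028b042407e1078d0738041b0bcc019105bc01d408fc0a92057c0d55060a09f00ba302420c9009e40fc20da50751032c0be30fc608f30cbe0c0f01ea06ab05f20ca407270aeb0c41003e03390a890f840c2109d6075604ab0a410d0607fa0fa90cbf092b01d1048202c80f0407f406a001cd04b605c303e703ed01e104bc05fe004d0198020b07b10ce40c2e0cc20998025408ca059a0c3600e2043a030b084104b50b5903be088d05f1097e09db00cc0794042f0a5404e40ab400c90e070edd0e9a06510eea0f2e04c00042073d0bd401b2031700e10fb40394089a0c3304370f530e92060101c104080dfa075a01780dab032d04700fc10ba10cc3092c07370908073f0e7506990cdf0ab20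5df069502bf04250ef903a70da601bb03da079202a108c3075e0a3a0aa40e8606b9013808e805120bbc06e40010009e09a70d1b08030ac60f4b08c40abb003801dc0fc50ae101d906410e03078005fd09b40c8003540eef09aa0de10d8d069a0aec0ab6055106610fc00e80006d02480ab304d008840c820bdb0b570d8f05f40c9b059d01bc0c4a0a110bc700fe076b03900aba00b00b260c0e022a0a340c25023a0659080d0c560c5a065e058a06cb07ba0c9f0bcb0b3a058b0a3f0e880e0005b10eb000560d00053e0ccf06f00aae0af20f1601020bf50e7a03d709b101d004010acb03780bc10abc0b580bda00fd01ee02f10fad0e5f0ba2034806680b340061063c0c4803c1029e09be0b610e56067b040700930ac00c080650018204eb0d7e0c890074065c002c0b790d46049c012e0f1d0bc60b5603c003700753083a04c80d0e029a04b301b50cd50cdb009a072102bd08cd04f001330da4035b0b8c07c9020d07a6012500570e790d7808c70b3103f009790d58029409c600e00170079907cd0b89096108b7089204ad0a7b0e1200810df308190485080c0b250fbb0ec60e940c2b02ce00b20b50002d00950a4e0ce90c4b0be802340e6600d5003b04ea0bfd06dd065b0b4904c703e6032e0cf309f1042d07d709850900078b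0e5b033c0e5502860a8208460f7b09750afb091f03a80a4a0d9903a40b1209c407240b430c8801b105c90f5d07e00e52091904b10024087305a60b71091d083f093f040f00b90fda0adc0aa2088b0cbb0afd010b08cc0343080e0bad07290eda09120f290489060f051709870de8068a0a000fd900cd0c1605280758050901890dca03490202044d09f403ef080f013e0c53083200910416017d06930f7d05d80e8b0f7502d7074a02440d030684035005470f760079037e099501990577027c0232050f0cdd0e640cfa0284068b09740018012301f0031209f201a4041a058309f50f4e0d450b4b08af0f950b01065602c901860f590bb303d60c09068d058005160c9503c704d90c6a0bd703aa0f5f035e00540b040b5c085107be0e04003c016f03f60de60fa80040034a06ff095a0c500b660d1c083705150f100d22062b076e095f0bf40c920f1c06230e0a09810c4f081a0617069106960aff068f046d0cde05b2066908c106090b90006f0e360afe00410efa03d90e410197081b0c3b0bec04fb0c4d07d805bf0a330f6508860a02066c04c60eaa0c8e07100ea80c19032f056907e403bf06c2010906b1033500e502300183022f07f10263008a074000f2026b08cb079c0a7701fb0b620a47046b0a10045402ed014b024901e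4058d0c860d560f4107d00d47059206710bcf04a30da00ec506ad0c1804100f64033f0c27000e0db00c610dd30cda07cc01e802fd0b9e080b01ca0f2d088a07790c5f012b040b061000130b6d08fa0d77086105210ce60c7d00d903b8062403ac03cf02e402870d280fc80c69051408a30f1201580b3c096907630b1908b2060e097106330bae09ec05600bb404e90b840c2904c90da80c0b0be90ae303f709b206e7030201360487014a02cb079702010a070edf039204c1097a016c06e606c9016a028f000809c1090e0bd00eb804950e09021601080aa106150d36043201e604330c3a03d0025e054c05b303ce04ce0ce7087c0f6203310b3d0e5e0c70015d09d50a71086d0c5e08ab010c0e810a25089f0ec2064402a4073b033b0c6d0eac0a8d0e34045a045008d00aa90f9a0b08091107da0c600260019a02dc0777094b069804fa0b5e05c8081804f9072008c90c2309320a940790021b0d890d91093005850adb0e6b01130c200dee08850b700b82067a088800320ccc004b0a8a01a90add072b073c0835032606b40e9f0c1e0bc4041800f8030c0b65024a0ae70cd9036e0f270f1907410920065a0f0e0a1f083e07ca0e19099f042c02e502d60670029103eb0a58081402450f3403d108eb0fa003cc055d0a49071a086405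2207180a66024309920a350cfb0fae0efd09ba01a60a5d04ee0dd608f4055907440290015c0e9104b00011046907e60bd3071708440f850eb3018c00f107cf05eb0d5e0edc00da03dd07760ebe0fa7001702b9024c082800bc03ea070a050c061a004405cc01f108720dbe08b60aa00a2905ce058c0520050a038e04ba01ff062f0096072f01ef0cc70d8400990b3305e107670e7700b3009809cb04a00c910a0f0fb3053b0b78003d0ad40d6d0c570e700645040c07a704a602ad0a240c64031d001b078a04d305b8082307d30f00091a0bff0c790387013102d5013b0e4d0cd305cf03c4039b08a00e240e1d0ce000d70e6e0bd20f5c01bf0b74094e0b670fd00c4606ea0fbe0413070b0505037a09090c9d0fb70b8b013d0db1098201f6051c001c028100bb00050dd7011400200e1a0ced099407d60843001f00c50373011607140a5b0e7d0089056b0be10c490957047c0e2f0b9507260f4d09a902000605043b01b40e1c09cc00be07d4053308b50805085e0a010f07085d0e9708f601c600db007e04fe01c20dc80375065f0b070ac805490fb80aac015901520161009d06530fd6084a043005e50374022601920b9b0bde0c0007730d8307ff0b6f04040f3a0870080001da0bdc02e60b1c0946004e0ef30fd106e803f202e00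25d0a2007ef097b0db505aa04310f730311028a02dd0e780e690928003a05b0038f07c700e30ef702da014f0d5a02c4047508fd04cb094a05d10fd209d2074f027e0ab8074d05180c1406320b73050d0465048c05700cec020600d10ef50d3c0c7e0445025506570b1506b8017e022d0bf7061e0faa053a096c0e390dc7004c0ee90bc30c0a084202ec0ca306bf09840da90a700c2802f801a1095e0ac1062506fb0e20094c062105a90cef049107ee0aea0d9701500180002900b60285086b09d80976047806cc04740ed70be00a6c0cd80643007c0a9a03150ec105390d250395061b01ec0a1d002106ee0d9d0578086309770df0003009bf0c340d7a0820012d052901fe0a5f0581064902520d26048f04c5021c04550a4404c304ec08ba03840273062602d00935089e0ec40f0803fd0ec00747020a041c08ac035601b00f350761051a087f0be700c80c0c001604920c40005b0af600060b530b1701d705260d2708b406af0e1e063b03fe0cdc08e1064f0eec0ad304a5067805b7016407e201f200230ba0055e0b2b018105d2099107f8064a0c350e5803280d0505940b9d0cad0a78064c09ef0f4005de03e000a6029b0c4e0e26063f06520a63021e0f9201b60e9c019b06ef0bd10c380fc70a83030f0c9e0b98025807600fdb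0d5207120efe03580b7e05ed09c2097f02d3075d0d70043908ef047306190595011c0dad0f9e02a60faf035a043f019f0b2c0b2803ca02b10275070e08b30c0d09c700660927074203e4027706d009b3025c04560e73064009ae02210f1f065d0f9b049e075003830e57094203ae07890301058e06df05dd0d210952027402be0b0a05020e4b0d570ac20bf20fab0d0c0bf8087405a00875098c04b801ce0e490a8e06f80e4e069c0eb408a60d29016305110e620a6f043e0fd706db0f6807d2089103a90a9109da004309ab078800e401550c750e630a8c0464061605c203e901cb0ef00ebb00b1001d05010dd10f21072c048b063e06fe00920dd200460a4800150d1009e90fd80d7203510d8808db07fd03860cb2098a036c08020c9908bf0d230d3900770ac50d2d008d02df0bbe0de506c60f3f0c470d5405570cf608e9035c0cff002809a60c760ea004d60305025103b008f80c120111045f0f420c7f0435018a002b0af306a40a7309a00ede0d1309410dff06390bef097c032503c308960c0409a10ab50bcd0bdf042604900bd90db7047e02a80bce0fd401010dde02310b6000cb0ed404d506f7068e006a0b4f05a808f70e1705ef0ea104ef0e2d069f0b640f2209070063071106300d3b0a090f310eb60d950b7204bb00c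40c850472095d02b705e405be0e250ac901560b3e0e8d0c5d04d400b80e4a0e7100d8005305f70fb90a36026a0f7a0562044805b409060e330e6a0b850d30052705a3017b0a65042e05520576056501060a7e0bb50f810309067d0f89007609fb018b079e055b0bb70f32054e064800ce04a10a2208d80cb909ad0e5d06e5011a05e70a75023f000c00d0032a01ed0e90092604bf0fa60d320b1406850e9605f30ca60250008e0a7c09e501c701740f5a0baa0368082a0f33036a007a0922099c01480db20442081e0f9405f60543094f0b510d4a04760047019e04d10b830cc50f090adf04e200e70fb60b8a05d506a700820f39074c0cf20a9509800acc0dcb0e8f066d034b0c780ab901a3086202eb05f909dc044c0f8806c70a130804045307c308c80119092e0e48023b03600bf605c40e1007b506880a0b09ff09a3090f0de203fc04680d2c013a0ce206f50d900a690f670c680757054b042901200ecc04be0dcd0ae60c730d2f09e200c70d8105bb056d069d027f0f25060308760e4407bd0aca07ce0c8a0cbc086705bd0d0b06dc06940cf506f306ed0865040a0f440da205550d7f0a53062c0ec7079503640b99092f005f006e0cac096d057904e30b5a077a051b06eb08530c3c0de40a3d0f0201c3047b0c3d04660c9a01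460abf0d9c05e60e8302e108ae0e93068601c0023e05af098b06a102b2074b0f8a074302680ad20b350bf00a7203b101fd0654093607870a5604ca0a1e07b40924040602d40e0602570ef808a509fd0dc206d90ad6008404de0fb105c00b420cfd01760933086e0f4a0de903f8090309a50d9406020c6f0f370cae066f0a190ea70536025308bc0166044b0f5e0362030e09c5039f00ff0479045105350ae90f900ad00f460da10a080438071e0bb806ce04670bf9069b031907dd0f97072804ff0a930262089405b90b5b0f72048d0288003507130a850235096502c007c40b4405ca0e0d01f80a6b061207f0008b0e210f2303240048036306c4033a094300a101e00f050a0608dd00d405960b100887019d0a32083b0c96060406f1048606e1076203bd08490a9602ab04960860049b085c047f04120269007505ea0b630073094808b00634092d06080ef600850ee508990cd40587032b03d506220a4209ed0b2e035d00520910020506b706bc05e8056a0c8c097d01f404db06580e530a3102920b3b07df025b0c65015b0ded0efb020703270fcf014009dd0a400f5600f4083108d60e99087a019302670847072501ba0d8e01540c7408ee04f105d70a1406920eab00a206600fa401420af106420ed20d5b0ed1026605ac0d1d0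878039c053407980a3e0a5a0eeb03360080057d0ca20427046c06de054a0a990da70fc40e160cb1098e0ec80b2f027d0f860cee02650c8304b70239011d0de007f702c705ab0eaf02b60a450a61082c004908d20b4d08d40b360cd008ce03b90e3507fc04610abe09bd037205ec03980ee604f40748038801d3081606ae05420270050009b702f206e203290af004dc055f0e3c0459071b0b6a06cf02f00d6c03df009c05980fd506d100870bfc0460007d0a4b0afa060604a707cb05530a4300f70c1508b90f3e03ec07070506085401af00c20fac0c37095802890e54059708fe01c409d102cf0dcc078602f30097011805a102e9082605100ae0042800bd00260b68012c09a208d9084c0fcd079302f707c8073a010e08e5054000ba024b0246038904bd07aa022e0c2f01fa0546030405dc0ccb0d7608a406070e720a300d69037b0c2d00a003460bfa0c4501e5099001b80c9c00510209056800cf05a40c02000d06c103140a37015f02a50e6104210af80f8d034f0a3806280233000b00a508a10cb000250968046209f806c50c1f01570f0c06d50a6003a509340d1e083603cd08300eb9044908e70a460f510e2b07fe040e0736006c045c0d6a010f0031062e08d50817026e0b1d06bd0f140953005807780c1a0ee708f1030a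04cf00a300220db902c604b40813047d08a9027b0a1c04150716096706b0008f0a5709440f6c063a06110f0f0fba09d403200d1f0e0c0379066e0530085202f509e00b020807082107ec011e0c670d0201120b6b09a40ae408aa07b90121010d0d680f6102240e22092100dc07b60fa10497098f09d00d18059b0e7606c009e3072e0e400a3b0d410fb505ee051301050d9600c3061f06310e7b0b2a0e3b0a7a0c4407c000e8096009890986006200360b9606660ea3005e0cab09fc091404c400f30c1d0f28012604df04460a520a3c06d202a703d40db60537040d044406470ca70a8804f50749008808ff013f0cb5071c05fc008607650e7403520c310719025f0e6c0214031f0dce0a6e019508900e980a9700ca0a2e036900a902120b870d6b067c02b801a20dae038a05db07ae0bb00e8703410fce0f450f130e3703af08ad078f0188036d0ade08fb001a00020d12081007590eca0f710e3100f50e080ebf08110d3f0ed80c3e01ac0b1e0d1900fc03a20d400def05ae01e902b00f800cbd024e0ab100b5045809960b16088f087d05d4004f0a760b7a013402790f4c054408340b920f2603c60ed306fd034e06ac00340f7c0cc904f209180fcb09d301d202230d9a0c630d440646044003400af70ace0eee07f507b0084f01c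907a800ee01a00dea02f90f98083909bc00690a0a0a2b06000e46095b06800aa70f8f0c5b0ed00ecd0f3d05f8047a061807220f38043d075c050803420217059c0ee0076a01df0d3a0e650d2e041902aa037604b208e60edb0cf402af0a8606c3031809ce07ed05e30e9b0af5057b003700710b06038509f7036f0ddb05190f48018d067907c60c1004f3012f0d20064d06730c810c7204af05560b55028d073209ea0dd80bc9023701ae05a50a12052d024706a508010b46000301710e9d099b0697045d0117018701e703b50f8706900ea201d801430a160fbd05fb048304880229089302f40480016e04ae07f9044306d60eed0f700a5507a40ea90731010300ef0127036609c90f2f03930c260993092a0f3b0d1a0316058600a708820deb05cb048e0e0b0b9300ad0ac30d4b0c840cb70829002a06f2089d0a0505610abd070203a60381077206130d62017303220915000101f50f1807b30af404fc022507fb0c8d072d09500e2a013906f404d802bb010a0df5018509450323079f0128000a07a502c10ce307690c7a060d02180db803000c030cca0caa03370d9f04090857078304e703e5093b0f9c0a6200090f490228001409bb0aaf029f00670c2c0e2e096602fe002f0ca507f30b80042001eb0b7c0cf80d6003b206b30b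bf0a8f0734089706ba02640532086a053d0129054d0824082701bd0eb10cc40db406a805640a23019c0f6b0a4f0d66085f0ba6017207a10ed50f1707c5045207f606820df60895067e06d704810b4e0278039e08330c4c0ba4000f035f0c580acf07bb03440858022005c70cd608dc052f01a503fb06e3088002e80cd20f7f052b03a0087704cd03450baf0b7b0f240eb506fa0bfe08c6041109f60d3d049408d306a9091c075403320c5908c50c010cb80da30e0203060a6d0a040a6707e70fa3098807520e45011b017f0c300d110b7f04a80a180bb10e9e0b39020e0e0506140aa80256095c040204b903c202ac04d702e30939065500a80a9d090b0ba70f2a0141078e018e09b9064e062d0060099e079d089c0a2f07230be406bb02ea09f30b270e840b770104031b0ead0169044a0107011f063504d20b320eae08de0b4c055c084500dd0d5f0a1b0ebc0f5206740d8a076f0bd60c5503800d850b3701150397022c0d310f990e2902830cc805230ddd0a0e0dbb0de3080901fc05b5038c08c200e60e13023d0f3c03de022b042b0f8e0110022701cc0aa5043609e809e108250e2c090c0dc5076401d507af0e5a0fb00d590be60c6c0a1a050e04fd02c50636019400590913077b09630949066b084e02080b0007b80fc905cd0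fd30355088e04da051f03e3008302c304a20bc804030d7c0770040508bb02db00f00d50089b02f602c202cd034c0a0d0708067606380d2b0f58045e0fca018f08400c620f01070f049f0f4709c30d3807e90aad0dba0ad10e320297087e0d640f77098d070d081203f50dbd0e4f08b10dc30a870aee081f077f0538066202b5073008bd073309cd01aa01cf0f550ab002d2068c0c1c00ab020f0d0f0b0c09b601b30b3800de0b410d4e0be503070bc00d650b13046a06270599078c0cd709ac08ec0d5c0b9102400f660e3f0871021a0a7d0dbc029d093a0550023c0c54082207040bc50db306810cf7045b086f077509cf0aa308380cf10d4f02e20b3f085b0a0c069e0055080a0afc04dd0997002702ee093c0664099a0ab7082f07e80bb60a280a4d031004ac033d04e50df40848021f059000640c070bea034d0e18005c0d860df106670d53016804570ad70b9a0ec300f9033e0bc2037f046302100b1802d10d43014506b602720175091603c5051e036b0e3d06da0dfd0ef403670f6a0b290c8b016d09780ec907bf08890b470a8007010d480d8c07000fa5006b09590d4c0132079a02bc0bd50b2008f9059f0d3709e603ff03bc09620b94024107390efc0ea50b1a05710d6704aa01e30f910e14014c0414077c016707850931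03d307d9078407de01ad0b5d0cc6021503770e6703ad0ddc0f960259086900d60b090c43090d0a900a270fa2038b0c2409f90dc907ad03a301c809b002cc055803e2009b0a980ae50ece0e8c00af058204710955027a00c10c94026d0fbc0c7c0ed90e0e013508b80a51038d0090024f07f20bab01a70d8709e70d4203710f60081500450b0b08680cce057f0f7900d209ca094d060c0b9f0f6d088104930d630b5f0940003304340be209250901017c06f9068303b70ccd057e03330ee202380d0707810cc005f00e59056e081c075505240ba90c5101240beb0972021306750637072a0cb30f5b0d240dfe0b810ecf057a00940b75061c08f00dfb0f6f0aab046f050b0b760bfb0c320b5404e108660973003f08080d6f026f09eb05d00f9301530d3305c10e23073e02ef029306a60ddf096b05b602760ad5060b0b220a2107820f630f110b860f780f570923044e0c170d6e0f360df9013c0e7e0774083c05e90cf90d0109de07a90a3903380dd508ea0e1107680eff049906d40e7f086c039a062a0a170c13063d09d90f15042a0d7906a20d0801a80dec06b204a90a9b0a2c07350879079b0b2402110b0302040745052e0012031308e303470f9d071d0b1106ca00d3019007660ada0d8208be041f0a9e08d70b45014e053f05910b0f01e20ad803b300190ae2024d0ac708f503820b8d09040e1506ec0d34087b091e01d60947007b0f9f07ac04410050084d0ca8039905a201f700b708e206d8083d000707eb053100390929,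
  0xfff0ffe0ffd0ffc0ffb0ffa0ff90ff80ff70ff60ff50ff40ff30ff20ff10ff00fef0fee0fed0fec0feb0fea0fe90fe80fe70fe60fe50fe40fe30fe20fe10fe00fdf0fde0fdd0fdc00e80d9f099704bf00eb00120a0502ba0de004ad0d370bd00f770e0106c703340def08250844027a089d0dc0076402c101700cbe0e1c0670083a09f3086d0e6e0ace04f20634029608d8085200aa074a0e4a07310d6f0ef5053609a70ef3029c088b0dd10ab00d7209bb0d230b6a054f0bbd0982012803350a750f4e02ef058b0c95022f02000dd806330696062907b703160e040dd00911078902c4055e0acb0bdd068907d0011d04a20c2d03840a770a7c0b2309f80c7b097400a30228072a068e070e09d70c2b0e61091205b30a3707100f9d02840d9800f402c3011002a807090cf90f91093b0e390a930980001c042b07180032085105e10ca401dc03f9065d064f042e04c502a50c1f065f039a0ca003130ae20c510f11053b03c105e0023109420492023a006b0b690427033e04cf02d5068d0ee703a907270e900724078607f003820c5f02c20625030a0b6d04c9069800d4021d0ccc073a0f750f510a9c0c63056b042104370dd4027d0cc4009c05040b73037904cb0866019f0dc70fb900fb0e280bce0a1701d7004b056201f70f9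e0caa09070a590af6025d06a808e509130fac023d06e703c50d73065a052e062a0ee9095a05bf06c00fc50f1d04de0e6a0be6056d0641085f02770c35017b0cdd059206950fce0d850ea200f502940ba403e000460a9b004800ac0dd705460a420f4709e50d9e0d8f0ab204d20ba801ab0b370ea60c700c460b3508e90190094105b901810688057d00400d4b050e07dd0bff0bf6029e027b0da70f9b0d6a02af070204ef07eb003b096b074809560a600de30d550bb000670c580252002d02190ef20b920318019508b9011c08b70cbb08490b9a09fb001d045407280429044f01a102d902ff01550c040a2b0f3a097c01e80a4e0df1080f02b701420adb05010c5c0a5006ff095002e3016e02fa0ea406fd065308a00b9b01fe0cb0074c03cd05880e5800ab0dd20e4b0560077d048e049d05a40e3d02630cc708d70f5d006f0eac07960c740bcf05e4065b07b103d80801072b030604110ee00a3e02570d5105a10a620fc70d710eb103eb0e65055d015a04ff018f0bba035006e006610a260fa708bd082a0cf60ab10d750aed0847000d0a8f09b00d60062f048b0c97065100c90b390b5e0f880ef70e0c0b3f0c0a0812097603260c82088405720acf07a10404023c00b003f1011301ff0741088006850db10f90014b0d5602460e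08036503f00c2106790d810b990dd60690081e091f02eb07a70b2703be030b07c90a310674044503f408b0081c054a0a0804740b1e052002ae000600970d8c0ee508070da40133086102dc03000a8c090907bd088e01d201520da000af0d540462029d084608ba05d2028d0029055a0e3a0da305690726022d01f505670ac4036801670b710f35027601a905970ae40b9e0a790a070a640917028801e007b8086a034900d10ccd055c0f5701c70374034207cd08640c610b1306a703600e520f520a0c032406940d7d06190eb007fa0c2e064302550ac7088a07110cf10359010704b70c470842049107d3000401c304c1037d08190bf10d5f0f5f0cd40fbf0a6807bf0704074b0a9804320f41047206970a100d1403810eff0b320f2207230d91039c0f620b89046a0db5024f0007039001930078056e014c03520fa90ce4013c04cd0448057e0d4d007402780d4809b50fcc04b005160792092707a9073402480d29087307a007c80c070ea10aec08560ce9043d03a609440ea30ee40d0305d1060e0502054b0e2207070bf0075f08930089064a080601a201e20bab0b170632068208a5099400220d1a0e380bb201de0f580ced069d0f160cf00717051105d90b1503b803ac05c30fba07ed0563068b059d08eb004303ff0db80a810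92c042009860c62007d06da0f170aa4082f00a60a7d086b0bbe0e750b0107790aef08e70094080201890cb108c10fd805d301910d7b01220ed10cdc045a0e990dfa0e7e03b30f1b0c780e3c087c07b60e810d1803e5042d0ef801d101b40d1702f009e20b8101fa093d0e5a040905570c4d00fd000f00fa0d070a360fd50d0e0bbc023000c303ea0e8a0df502a2092009490a95071c0bf30d100bf8046c0deb0ce005060c8d074d05d4002b0bf70c010dee05a903d600ad0ae80f6504a80f6b00270f610b360e6009000e2d0a61022909a409df045c02a907870e3e0b0203250d6e0d0b076a0f3b04100458071407f80a03099e0d70057909de038a037604670b8e009f04f601350f8e03ba04be0e8e0f0c0ba608f101d5059003a804c200910c7a0dbb00f902a30fcd05ea03af048502100e920bb907a802a001a7094a0a8505e7090f0512010d07b008f2032708ac00240d33025a0a8e012e0c420c1506a003b908550e5f02030ea50a15015e0d7c00050c2507730dc405370e5b032204a6011e086e08dd0e8005f30169038f09380b8504860dbc0de901a500900185026d03e8003d06490e8605e20aeb003301180f2900540fad0ddd059a04060f7f0ebb0305013109810ac3079c096c09d302b002d20eba01f908fe09550af50385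0aee0a1608170a630d0f0ed307b40ee80a7002c70d0002830ea70bad03ec051b0816069305980ca305150da60e42086f06ba0165055504a40e6308d40999001e0b2b04630928000804df0d8d071e02860d7406460f4402de0640067f029b00b20e9108de06cf032109ab02f703b1059b010b0ec506f40d1e0c5008810f09063002e5082c073f0700055b057400390e07070603860a580c3c09d502fc04710a91021f0d4f02b90c5305c709a10c2c0ad00fb805b0011b02ad0a5c0402008402a109a002130ed402650d520bac01cf0212026b0a380cef0e300bf50ed001270bc80b3a01b503530d1d01fd00a1082201200fbb066004300e9801ce091e0ba701400b8f052a0ba9092907570a060b7901cb0d110fd70f480044052f0b3d09fe0fa20b06030d0c2a055402ea0c4c09520a0a03ed01b90ecc034300c70ad2009d00c805c606b10d1209d902340fb107ef05530aac02240f5509e80d32093900800405026902b201e10068034400f700620a120a7e0f80087f04d50f3c01c10021083b07520705032b079304e00a2507430aa2028a0eee08fd00380b49000108580a9e01f8066804f90ec105410f56061b09ba0c06019a0e480b7500bc0bc6098b05dc0f530a2a0e2b0cea0eaf0b1f055600fc0487098700b401e70ead02f407c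406be0b1b0ca80f2b002608ad016a0add0f710655078a0d470c1d0c6b0bbb008508a9060f0ad90e6f02380b6506df036b058c0a0b05080778078006e9031c005e0ea0016b094005ff0b9708a303fd0f83005b009609050f6800250829023205be0f660e350a2f04b204b401c90a3501f4044b069f0d5b0d4908be0cf70a410ec20abb022a054302ee0c9f014f08340680051f0d2d0da9031f00b90e5e0fd3084c03070c59021c045f054702c6099d0b56091c06e6037b0ade087606ee00820ba005c4069909b105f809950d5d0b2f07700b8d0ccb0e8b06c20d8b044a0e33067a0ae10da20e7d008d025302500eab0fc206bf089a035a07ca0b28049c0e7f07da024e07850fdb0a5a0bc30a890e260663013608740da102e20a0d0ba3008f00510f380ce5084d012c0c8c03d3093f057309bc050b0a400d930e6404b30ce10aaf0e1d070c0c670eb508af0e7803dc076c096609e10455033c07080bca0ae90d6307de023f096e04d1098a0cde03b404b80d96071604bb0a2302330b7a024b07e90e410f8b009200490e97074701ac0119063605ec00d50edc06cb05fd0abe000902e002ab09bf036909b303b204f10e1105ee0b590c3e0b1a07dc0d24033a09b20c8b0e690aa308ed00580f2c09ca079b084f0df806f1081407f30dc206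a10077017e03770e4e044407e108e2049a033f0db9062e08d90bd1016f09ef09f00b3106fc0ede080d0d4402590d9509c704ae07c306af000c0c32098e02020bc9045b00170fa002be000006aa06b606a301a80a690ee208f300d601c80cba099205270739022e0e6c0cbc049600ff09260a24072f0529047f01390e4d02560ec607ae0279094d0a200f590a1d087109ff097704680c72094b0a6a04af04dc00c40a19088702150d9a0fd9053f045d0bc5040b059102b409f90258058e0b4201f6042a0c240f980b5d0e2705960d2e0e620dfb0b3e035f04260ec906e50aba004c09bd08f7012b0a1c0ded0e890c2906b0056c025e07620198045702610eb6011a084a0c110f3f0484055004c30fbd0d990ddc072501e50aa508cf0ad40348049e040806070bdc00200199054e0c710c9309d1022008100e25074f0aa60fb4064c07a302040b8809f2067c020700e504bd053e097a044d0a220ab4050008970f7604e7049703e3018606f70875006c074606c10d0605ca0d300a5309b402600a1b047b0aa80fb203320b2a0cdb0b7205bd0e0d00db05a204d007e802410b5f01620575060907e707c60ad30fc4088808f8085b0b380a8a0d3f02f500dd06180fa107cb0b5209e30bb30ad5083504790ad60a4700dc0e1a05f20505048c0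803078d00a00378040105d607e20cfa06ed0e54026a0154022b0ca6063f044707b90e7401560c1901780c3801840a5e075b0b2e06f30d8402e1098301090bd30f6e01b006bb094e0d02036f015f02350d3c0354049903940a1f0c16029f05400a2c0dc60de401db0aa7046b0fd6056f0aca08fb0bcb0b070b2d0e180b8c0ac005680c1b0a30051a04800be4095d06620c180cac0ef90494025b0e9d022202490c3b0cdf04ec0f990a860f070cc30daa0a180af90b6b0d4005e303c309c906120465039b0cfc0b95097d0a7b097f0b7003bf0d080c8308d2016602ce0f1803d20b240c1c0d9d08b600130efc08c20b4e095c0cc2088d08000e14045306130d130e7a0e3106670be906c3099b00da08790ce7062c0e9c09670a8b02bf01bf09620bef0593044901640f000b530c9c003f076d05220b7c06830a88068c05610c7f06eb09430bfb034d0db2073b04460a900267089608a70d2203e906ca0d820dae033303bb02aa0a3a0d3a01f00e8d0e950ac50c3d0d210bc7014906d20b7d0d360f7d085009030d640439032800570b6f04830bb80dd90a9d0c9b0ec00fa308c9037005b4024504ab0d770c96070b040004b60153060201b8046d0aa10bfa0f3200de00bb0d3e08cc080504700c1204e306f5018c005f07fc0cfb089200be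08f0002307d1016109ae03990d57078308480d880d34008e04a706e300b50c4f0a2105ba0b1c0f40064b05760e5702c80d4309d60ed9052505c10d6608540f210b5a008801fc0d4209d202fb0f150b510a920eed0a6d012607ff0c7602540f96038d0f390482075d06a4097b01ea005903ef0e87030c0f460e360c8a015807ac0e490b600ec3086005c903d5031e03ae07990d9c06160eca0143013003f309fd05190c1a0d97009e068a0a8208830b7f01320c8f06e1052406b70be30e2a00ed08f90b450d7a0833013f0f0104db09db04ea0813093a0dd30e100e7603fb0776039109ea02400ac20cc90c0c0b8308990e9603f707940ebf0a6e0b3b0c870f1c0e2f0e7107530e32064207f9014e003404dd0efa07bb09b60af806030bfc004f0b180299087a08ef0fa60a7109af010e0b220f8403750c0f035d0cd2017d0f670d680ac10bee0a94058d0daf0c1e05af08240e150edd0caf03410bea0c5609c20dab031a0f500f7a0df40c4b0e0e045206730cfd020c08b4077708f507290d8007ba0c5a057000c50cd308c6091b069c03d90eb2012a0ecd04a50bde028103da08ce01630e8c030802230c860c200c8e02cd0f0a07df0d190650092d0d7900d707f1030f047e0d3106cd05a3065701b2044c018b00d3083203fc02170a3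d0fcf05030ad703a70003026208c40433052b03a204ba048a0771001507c50fb505b50965094606a604420ebc0d8602bb0cd50dcb0a0e0fd00dbf0c5b0e17057b0d5a0f7907fe01ba03b707be0eb8080c0ee6009b00410ba50db40b0f0a6b0fd40e8801290a010be2045e038b014d0428036601ee05b10329081f0b41058901d4063108a20b5b0dcf093400cb04c606ae0e3401160d58032a072c006607c10765078c060006c8091a0b3c085d064d031409e400930b1901e9084b06860f4508090730070f0b6307560f2e0ba20052034c0bec0bed077f089e0a9907c704f500f101f10cb304410ca90958075500630fd1090c0a49035e0e70019409b80c45066c09a6031208ff05ef0f6c0a0901a406fe03df06d4075c0a4d053d0490004a0eb9016c04b10b1001210ec402710ad10e590c020af1036306a9054801e302ac00ca0e770906005c0fd20bb601f201c0090a07910e5d0cee02cb08c70b550aae019e0a6705db0acd051009cc03800ecb018803b5075907d209320eda088c063705b207320d050d3802da077b07d9006d029204cc039d0dc80740062200ba007b077202d407130f4a0339075e007a04a1047d06710ecf0b0e05660ca5038902c0029a0a1a0302026601a604c8010604c7098c0adc0f4b0d1f09680f820cc60f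9c0a1e0cc80c0904510a74057f0ca105b8034f0f140bc100760f9a071b02740951043e01cc0070069109f509a30a560b5c099004f409220f19052304fc085e0251061d09a8008603c80ac60c8905210cf3071a0984036d087d0d6c0afa020606c5077e034601ca0ed8031b0f28051e0f4c0cd904da0e0b0f0606d80a52017202e403aa02980c9800110c2f05ac05170c4101b60e0a0a9f02440b5006d106dc0a780f780b860d7e0fb709470e0205950b2508780e120dba0a0f06c60afb0f640c7c03640422066a0e7b0cab03a10bb705c008940611018d0ce6041e08bf0ac9042f048108570dbd027e04a90da80060004508ab0c340acc0cf401970dbe00bd0c7305ce0e55081b014502db0b4b08a10180041a02430d670f72057809cf0faf07f20a8401470f31062300e906e8024d05cd042309540cc107af0e4304c40e4f04fa0a7f03970e83067701e40cbd01340885037107ad07f40b670b5706b307b30b0b036c0187014a006e0628086307fb05df00d20a800a28028901ec0b16006a061a013b036a01bc0c9202800c6e0f04089c005d0e090f200e6d0cca07f708d301df00e20b930dc9034b04190cc504ed043a09ec0c0d0be0015d0c260afc0dfe036e07ee0795098d05c209f106780dda06e401750aea086202e90c7e01230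b11099a01770f8c0fc3058a083f098502f303b60dce0a8309a9040a01fb048d074506640afe0f9207970cad0eae008a0c6009c5046105fc0552058f0f3e0f020be8062003170a2700e70df7024c04b9020a06f90b680d0c022601d805f90a6f0d4a04fe09080ea809230f6d003100ea038804aa07e3098802cf094f02b3025f0ef0019d0cb2092a005603f8085a0e7307aa003c0c1708e600e1007e0464024a076f0676062607b503090ddb0b90089504f701050a2d0c7d0a440d0106440a5f0fca02e6002806f206450509014407210c520f050d8e03580af4073301040e2c0a3f028c0d2c0b400336050f018201be0964063a03ca00f20b8a05f0011206bd03380826038709210b76003e0dfc051302470b770d27066e0bb108b805fa0840049b09e609f406100f4d0c370b2100370bda0a4b0969032e03e604400c44089f047300ec0de50a7202270eef0cf200690b29008c0e51002f05d5052d079e08c309dc00c60065060d0e5300c002420c030a6609d006660f2d057c05f70baf061f07c0034a0be5061700cc0fa8077a03c701b708fa01110b940635015908b20e2108ea0a7a04e801b30f330a2e0c4e06c40845053503cf0eec013e0b980c9d0f2f0de10ebd076902f80c9e0c1305f60d5006f001ef015703e4058209300e44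04760b140443049f06ec03510fbc0c6c038c0a32000a0d7806fa04380db002680fc9087202c502a608b3026f05e80970063c0f0f0af302390e820f7300f60507042c05a00a6c0774055106d602dd0b0904bc0a3b059f0c1405d703d006810f4905710fa50bdf09da02bd0b470a9603e1046903f201ed017106d30fda00b10e030b430d620d260f030ece03c4001602820311083e0c480114099800a80c3a017a0e850b8b001a062d0821060c0c27088f0cb408d60f1e0cd80910016d033101af03c20bd5084e06fb04d906050f7b050d050a03200df20af70de20dad0b6406f607190d9b0a290e5c0e6b0b4c026402f90ebe01e604f307150585089802f60b9d0c6401f30843007905860b1d09750b6c0cd7090400ef04ac09fc0ae605380ed60bfd0aa90efe0c3905a50760074900f004120f0b018a095304e60c0b05bb032c01c5087702970303093607e00aad05eb084102850f700a9a0e1e09310cb700b602a7097105e604e500c10a450c10063b0fcb004e08280f080393018e02b60398035c0c490b200f5b0b740b910ada0f250ed208080f6a0fc6016809ce07f606ea0d900150064703ee0804069b08700ce30b3302f204a3054403d40de80c790ce207db04fb03c0049806750d4c0cfe0dff047c00ce01150de60d8a090e056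40f8d01480e1605a708df09c1013a07380f9f053305a609cd0e1b03cb0edf09330dde09b7060a06840526030e0f9506a205310d69092f0dca09c609f606e201bb0ee30a3302fd063809eb0c660c5d093702720459093e067d05b7012d0e9b07a2055f08300a4c00830aab0a8708180c770eb4071207bc0c2803ad03f60a0009590b0d0e9a09e905fe001909ed0a130a550606037e096309ad0e720290046f057706b408bb08e008c506b805f109960dcd091d065e09dd073e05940431007f09aa009909d80c230891054d013702d70cda05f402d60b0c0d3509d4002e03ce05490a0400bf020b0d280bd9002c02c9079a0dc10e450e37081508370f3403150f2301510a34099101cd06ac08ca08110c080c690f1a0bd40ba109a2043609010e660225033b0b960201067e01010e67072d0d6d0a7602360754033005ed0b1208c008230a3c02e70edb0bd605fb0750096d0d040f7e066501250e940a4a0e2005e50061094c083c0e7c082001aa040c05e90f8108bc079d0c910ab50db300a50654066d0b840bd2020908aa06dd08fc0518044e0ceb0a390669048f00980ab90b46028b07e402bc0d590f8a0ed50f6f0e1f08c801eb0e6808900f6002cc0036058008e305d006de0cd10f4f0ae5076e0d4104c00f2a00c20478001b059906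150eea061c078f05870f850fb604e20e3b03e70f3d02a405ad07c209c00604019b074208db05450b26085c0db701dd042400f301c60fab049500a70395020f0c330adf0ce80a73039609480957089b0f430efd0cd604d60584046600e30b300d250bf9047706c90abc09be0a970f8602d80882017f0ae00f3009cb00ae0196045008690d6502080c2206a5021e0d5e0bcd007c081d03cc001002910c6d0cf806f80eb30bb40735073c03550f2401c40558051c0ea9090206ce06d503e20bc00c5e01a007660d0d08ae0d2f030102730c9404130e5603040e4c08cb0d0908d50d2b069e0b0504b5038e04f8069a039f0ab30e2e09a508da026c0f5c07ea0103027001240cbf0c88009a0a540c36059c0bc405cb09730c00015c0c540be70d450f360cb6053c07b2021a004d08e8031d06580b7e07d40b0407220075021102160d92021406ab0d1b096a00a20eb704a008ec0f0d065c0a5b03a400cd022c03670ec8068f0b6209fa07cf041b041f063e03dd08dc028e06d00867010f09190fc008cd08b10d150a480b6601bd0cb508b5067b00530d2a04350bb50c310bfe0de7043b0aff097e07a5014604ca05c80c400dcc001f0a14004707f50fb00f1003c909e003bd03fe05ae074e0cd00afd03a3063d07fd07d602ec0b4a0a0200810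e9f0a1102ca0c840d83010a061e08a408a609250687037f07810da500fe066b0b0a050c04fd091609600beb0d870efb0ef1031004030e290d5c01080df9014102d10924075a0f420e840775027f01d003db000b09ac00cf0d2007510d460ae70e130fb30788081a06d90c850bf2070d0be10db60f7400b702210ab7020508d10b540df0092b069208590345028f0782096f0c65041703a501760cff031903230abd02e805da0a4f032d0493057a0eeb0e4608e1015b04750b820a4307ec051d0b800b4d073608a805de0434099c0a57038306140d76095e0701037c0ee1008b0d4e0d0a0c3f06cc0e40005a0183076807a40f6306270df30d6b04250f940d9401d60b2c0bcc07200c430cb9000e0c6f01d303d70baa00d8093c0d610aaa0f870f26093505cf08310361012f073d00500b7b0bd80cb80138029307e6082d0295054c06b20e2303470f1f00a407ab00b301740d5300ee078b0cc009e70f2700180287048906b90dfd0035005503720a6508f403370bd708d00e0009c40e0f07a60bbf041500a902ed073705bc0ac8000207e5040e05f50237092e06ef02f104d404f0036205cc09c30173095f023b0e060b4f090d00d909790539065600710373095b06520f0e0836080e074405340ec7091806ad00df0c900df6082e080a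0827072e0868007204180b6e0d3b03f5058105590cec08380cf508860c6a04140aa0086c04e10cae0f69003008530b030cce0989003a0e24053001020dc302fe0b080d3d05aa0b78087b09150ed7087e0c800961080b00e60b440fc803570f8f0ef405dd040d0c570c990e190fae066f059e020e03b0020d0d160945071f07cc01790f930d7f039e05a80f130639034004eb0c05098f010c013d033d040f002a0f120356070305650d1c0b340ae304d8011f035b06db0b610f5e09780160045603920dc5064e0a8d019201ad0407047a07d701d901170bf4041c0e0502b10e470dec00f80c9a046e01a3097201da09140993021b0dea0f89070a0dd50bc2041d0e9300730b870f5a0514064800e0037a062b0c750b4803ab04880790090b07d507ce0ca20f370087053a0d3901ae0ad800e406bc0c0e0b9f0c6808f6026e04ee009503d10f97062407580c550dac0abf0b0000d0071d0a5102df0faa0eaa0a460659017c021807610c4a060102750c300ef605420e9e04d30ddf08e40bdb099f083d0100052c01c2019c0a5d05ab077c023e00140889083900b807630af009b90fc10e7904e9062108650e3f0e5005d80f54078e034e043c00420528078403de0583079804d7025c076b02d0043f03c60532060b0ccf0b58027c06720ab6076702b803fa06080af209ee0ab80c81056a032f0fbe04e40ca703a0046005b603bc01b10e8f0064079f082b0f7c0d8908ee09f709c80bae06d70b9c041607d802d305c504ce0fa402b506b5,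
  0xfff0ffe0ffd0ffc0ffb0ffa0ff90ff80ff70ff60ff50ff40ff30ff20ff10ff00fef0fee0fed0fec0feb0fea0fe90fe80fe70fe60fe50fe40fe30fe20fe10fe00fdf0fde0fdd0fdc03130d680ed409c005ca0a580bbe08bd04ad0219037f0239034a017304870f360c640cf904bd0b4e0693032d02ab0cb30a8900aa0c550020016e0a8609c2020c07510a2e04f70f2f06b0005c0343082a0c3b03480a4403e20b62045e0bdd06c90ea7041203a30c36065f06fa0eea0e5106c00ab7015a0205076003ed07830f770ea6026a05da01cb09e6093b0de507d801de0f3201a509d301dc0ad50f6a08b70b7b0cce08140c780d990d750f840c4104c60d910d2903bd02fd00190e8301780db301960e780824072b00f105cc03760abb0709067e051e06f1041706b2044a015c04aa000e04a9038c0e87010d012e09390eff06e404d0080e00b60d6707f408ac07e605ba0baf006a074f013c0bef0b5d090b053d0da7013209640e2807fd0b06082b07ea0c1c09d0062807c4067d04d801df019008f20375006d092801f807a20cad056c037b0b670a100a6c06c707d00c5706fe0d3a05ae0e4301cd07370d0c025d068b0f0c08f50c650e4d0f4a0ecb007b0a720598065d01c40f0001f9043d097c0a480b44035f0ef2021e0cf109b9054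60011077209bc081c0518085d053c0d7f056f06190dba0dd10973049b0d5b0f5400fa038704b207150ec40353044d05e90c7003920b1b0ea301ac02aa0ceb0ada0f6d0dce07b8020b064702fc0e5407240405072601700347054d0d810678067f0c8307f000760e90078200d60ad20a69089f036a0ed2075b0fad059f056e03c60c5e0854092e0a93002102d60862010400750fbe0d6a08fa0c66030909090022097e06ec04c70e310368044c0c8e03fe0b9301ed067a0437029704f600ee0de008cd040d0551090f060a0ec302d90cd000f20e61025507640fb9037103ef02c307420acb028a07cd0ee808e70354072d008904b3009c06b50d3d06250bd80a190d3b03970aa90f3f094d077802cf08c30200013e0e440d8309490983072106ff0b5408600d300f1a011d003b01cc0f450016005b0b550aa8051307a804d908bc0bf30b8f0f2200990a6e0b5100d2043a03290b9a0ea806200a81036c03f109ed0e67096900720b9c040907ad0f3a0bb903b80fb304430956022508da05c30a9d0c61083508410d280b2e03e70cc7009606b706290cb70dc200650f660ae205640f6109fc00b5002f0920038404550403000008680bee011102330d8c06e10f6701af087b060f028e06c80fa702af0a7c03ab06a0092700c80122066106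4a08c8019e064d05eb0d940c0a03940e9906060e0f0a06070d0f5e082f0c5a059c05bc021d013402990f7a009d0140018a03af0b210bb404cc0e2200e30b4f058007eb0e8c00ef03fd00530aef088d029e0d360cb809290c2a0179064901e400c9099e016f0dde0eed068802e00e080237048d0a0f0e2a0b9207ce091f0fd80400076b084302a208b402120a630f88040b0c4b05ea036d06140ebb05dd0b3b05b800e901550d8902a40aee02c00b4d008100d102ac01ff063603dd06210b42012005a306ea08940ba20a46022e0ec1087006a60ae304a201000c600ba00d9d0aa201560bc901e505b90b02010c0a9c09dd0692091d0f1203080f4602270f2605840b870d41061a069e0da3009b0600045d014208ba0ef80a4d07b5055802b00d9701b7095b0b7501b207c8024f069800f90d1a02dc068d03160f4206150e6209bb043f039605b4011202bd0ea1006b09b507200c0d033c09180d2b086e0c5802f80ddf02ae0eb806a3094203d105820f2d0a200454083309c10207019a0a2b0e69042705fa0e640185056a09ce0eca0074032e055a0c350fc0061103770d4f02720aae011b000407410d7b0c960464014c010f066e0195055b050f0ae9084e0ad605e00128080a02460b7a05bb05a80a9e060c0a5904890b6a01a90cdb0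c3e03de0d1e004a0ad80ac6065b09db0c560cbc074c051b09710ce80c0b098b0eba0d03016a03240cdd0b890168046604820d1b019302a303a70ecf0bdc000900510618025005660e4b0bc60f8a02df05f902920829020606e209cc00dd0f380dc707f700b70a9109d106160d4708b9042303da096508fc01e20b170d52053109ad0a87003d057006040e170ab8017a010a016b01430b2409df03150d4901e90792002a0434030a0d51046a00c203e90c5f0c77024c04ca083005d70bfe0360042b04620f8c054c0ba1022b0d0e07ec00050e3e060306ef04330d10068f04be08ec079802340b9f01330803074b054e0d7601290ecc0e2d079906a80e090d8b0c3d00d800f80d37035207df096a0e5b00a50217036205490b530cb2083701660c8b005e0e530d5608a909c60be40a3a0a790a010b070fb700a40a71097f0e1f02cc069d05d1087203ba07050dd604cb0bf705be0bd20338073803fc010e096f0dc909510c340b7d0fa308d20c440eae0732085c016008ae0ddc0d3509960b0f00690302085901d202b40842095704a10db20bd10d5d06680db70b9b00060da40b30092a069b0fa40c330171013b0caf0a6a00400317077402840f920a6206d20af80856079c08150876036402b10b6c01ca030002f00dfc01c80f9a0fd7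0987030d033106e80f85035901910a320b560bd00e58084a08ea0bf10569023e01360c110db603f90e55011f0c3702750c1e07be0268049d0e5203a50c0908bb063800300d8f049f020f0c3f000102e90fc8025f068101530fd50c520cbd06f30a1b0bdf0f8f00950c820f0d032c0c9d00a807b70a6806d009310f4102bf075e094c0f830d1c0ac20b2806070a5e007e0e570c6f047e0bd5009f083206a90b58054b0a3609ff033b0921059e0f020ba603320a4a01980aa00f76010605ff015908ca0acf081b07fe06400ea205b60db80ed509720c620ca60eda028b0fa200b0068c0f2a065e02e4071c07f20afd0ad4064201ea0ebc068401bb01150aaa09b204150f190edb0e800e0a00ff061e0c190d6906cb09fe006f05b5070e07b20fd4075d0dec06d90d6f0aac075c070b09ba06dd0dff0d870cbe0ba9033d0af60e3707d50d900787095d0eaa0a4004300e4206c40571054f079b0ce500270c8605850555001a08bf0b6606bf0da5033407de07cb02dd006409d7049e01b0005408ad0c3a0ee70fbc0f2c08c60ea404a007ff030302f207c905910a5b0a670507056b0ba40529026c0be809f70b78097d00500f53096303f40cb104b507aa07680de70b4609600df40b4905b005aa0c500cf50b6d0f570f70083f076508db060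e0cb4053304bb003108c10769031008080c1d06700a380eb10eb50faf09080c9c03630bc80098051705c80a040a3e045002cd00ac0ded083a04b40d8200b906c103830e130fa903e40c5c0d4a0fcb03f20f250c710e98025402020bd606270ee6028706d8073c0b1602cb0cb601bd0b14052707e905e604800175020807020141083803eb0a5f06870087004800b304d20c2e02450b1e0f400bec0e070cee01b604180c420c79013a05bd0edf0468053f03c3076d0dee058d098103d706010562005501ce00c60c30083d00dc075500850ef005340a8b013703a40a9704da0f20081009950e75043c0f2e084507ed0da0090d00e1005906600f160dc30e7f038603f501e004b109fa0bc30a9b008f0c9e018d04cd027002b7092f0ae10763015b04940138031e0d5f05e50717078605a508eb02010d4c0123021f0e8f0b080bd70ac505db06d10f710c9f04d505cd0e500cf607db03cf0e2f08040ab903d30e6a022105c900cd09b00f7b0700086a0a150e910c29025c087909d40f1303a60d450d50030b0c5b03040a5a09f3097005440a840d18045f008b038508770f3906900ec8001d080b07ee02d8095000ae0e66069503ce0de801210e600b470ec0054a003505120c76019407cf070f01c704fd05f8093d001f04c90b320bd90d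260b700ccf0a390be103ee0d2c01e608e30b1f02d701b30c1f081809dc08dd00e0000a0b8c07a30fbf0e5f085e06cd0cdf0573071a0d9303df0b370b0a08130bc405f40105020a03ea0e02042209a10db5026707a5064b01f406800c0e0775072a09ea07d602230e9204e80d3402eb01b1011c00cf0de90cec07f60b8a00de0dd2048502380d460809083101bf08660ec70cf00393007f0335053a0e9f0a340ee30b860c9802940d7a0c2c0a7008990fcc0a2d06350eb30bf5049002350e63051a03420653068201970c4e029f09fd0beb0e7106a70c9b0373096205c205fc04f901480afe040606240d0109370e2e0b8b0a220b250d8408a508f805e3005a05a1082e089d03b20f4901e701390fb60ac70d2704c101690a92038e0f52007302f10a2a09d20f7c0655028208d1084705630df80c6a0ba3064308d906be048e023c037e0ab205a00f9902fb085f0f5d0de402ee0c1206ca03820e8608a30a9902b5036b08860d4e0910076c0d0f0a1e06770dbb0259068601d9046d056d05de0d960b2a02bc01a107450a290ee0022008980b1a0900035c0b260cab00bb0ee201eb01650a74077e0df3050e0cfa022804700f68031805210083030509b605f20acc08a80deb081f0e7900a702ba06aa0cc50d4d0dbc01570e7e0d3c0b1c0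d5306c60ca9094a08b607e105cb0d160e4e0215069108cf0579000b070c04a30a7a087f01160dd80992031b0c4d00be098d077a07560d770dbf0dd50f8209a905d20abf0203039d07c503dc0f5b0a570ee10e6504d703270728026f041a07b1047f0b48084401d00a750946096804bc02a10b7c0612055d04ff0de20211091a01f603b508640568046c047409a50c7f0c27074604f10d17067b0b2f0a4f031909cf039900880f15074707af06d4037d0c3801720f950192052805ac0e4f00790cbb095e04480248039805c4037809cb04ec00b40c7d04b805b10d6509da06a10eac09480ed30e9c043e08e500f3034c02d50df207bb0729017b0fca0ab003570d9c056008f70f56039e013d08490b0b079f0f69040104c80a3b087e08a1037a07760590090609c505b205930770087c0f330018036e00430d3904d60bf60eeb09120bfb008e062e0e4907300f0b093209d60efb00ce01810b4b04de0271034501f30e06080607ae06740d7300a00b3607400dcd0eb90f0e0bb6028806bb0f87014d08e20cd205df03f80d7208e80e1003070ee50dcb0b040a17095303c70b6106300c4508e008c907620e6b0bae096b0abe019d086f08d40f9702f60fd00753076706ae04e905410b6b04570f040bf8092200820265017c0c490f110039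0ccd0df50ead0d59098a09c702da0dc50dfb0f100af009430cc4027c08b801da0a3f0ad10d7e0fc30b5f033602850224044701a809af0ed90f8608520d2202760bea03bf045b0e5c05740af209f20f170f230f6e0bc20fbd01070f28085b0c7b0e1104b607ac023103690d7c07ca0be70656057d00fc027f063304bf02e605d30b8504ce0a240d0009930ac9066d07130bfc091b03b605b701fd08650e2905f70dd40f600b230bda0fdb0aaf06b90fda089205fd021304ed063c04a500460f24073d03ac0262024b01a70b96079503e60f8900250f3b07dd0cc00b1d08be039a06cf044b0b790cde0bcd03bb0822069706b804d3023b01a601dd0fce06170a8e051608480e040e96007c00df0bc707040de305d50a8c01b402f5023609de04eb0bf00e480f1e0d230d64013f05250b760c3c0e0c09a20ac00187019b088a0a4309e4081d0ac80130040a0cc3062d090a091607b90b120c5d0389098503be0595088e055e0365028c0bf402100e03075403c90d2a08e10f2106b30067071902a50ed00f8b02be043905c5007a0e7a0e820c160f6f076107e70a1301c20b7f04410b500974026d012c0eb009a80d8d0bba008a097607b001d10b81086705090f9f0665047c001203fa0b430b400ebf002b0820080f0d4b00f50c590ad00c1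80e68035d0df907e50a3c0d9a0f780d12021601ee00cb0dd90cd504040a270f3105ad0bf905770e2509cd07ef0e050e4c0266048a0897061d0d6d0ae5002301b503d40b64005f0e0103f705750a65079e0d33088108340a6002510a730bcf0127093c029d0e6c0f370a11006c035e0f9b07e809ec009107ab06a50311016205e203950d2109aa0c1b0e33032f08800241004e04b702a904ef08f6020d0fd307d10baa0d620ce30c0f02f4038a06db0a510d9f0d7d0d540b52055900eb0fb40ce90c2807930ec200b20b8200930a45027a031c04df0736089e0a0e033900e606eb0f9c0b4c00fd0e8d01640e9d0ad70fa509170fae0f7d0a140d6c072c057e0c6b0ac10013040e0109071b021c063401170de10daf0cda07180c9703010cef08a20f58068a01510e0d0ed806e9042e0cbf02b804020fcd017f07c3078c0a300b2b0ced05f50d660ce101c600c106f5009a07c2023207c10780018309350f980a78071e063f04260b050d19032b0df10e410dcf042507570fb009f90ce700c4019f09a406c202f309ee05230f01043b05ec08730fc100020e1d03db0ccc0744076f044005f004a70cb9037004e00070002c0faa05cf0a4b0c8004fe06bd09ca03140c2607a90771065708d50af108070e240de60ef10fd10c9905ef09a005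8f038b03d50afa0c8c0e470bbb0f0703b40f750bb20ae807e30f4d030e074300d003120bdb0938022f0e340a490c2501a00e7c051101c00c850cf3035b0d06021b0bfa0080049c0e3f0afc061c0cf4077b054801cf041e075808ed09990ab3055c0ecd067505a60fc50a180aa3046f092d04110934093609e90dcc04970ce609470bbf054306450eec03e1091c06bc0b68084007d20ef506b401030e2c044603f004c00501048c08d70d1d0812086d0a9a041d0e180cf803ec0c48012a0791029605260479015e088903660def0dc60520078e0d0708160af90a640dc10cc80a1c09e7099800e20b0d0696053b0d04072f0efe0d4402f90a8a0ca006f604fa02bb0229008c099707f90da60c010a1d021805960017078908830a7f0e4a066c06f00b1304450adf01f2039f05970158036f01840eee03b10ca107f50aab016d02ca0f30060508880cac0b190475014702e80a1f022a0ca30c5408f908530e1c0a2306df050303a80f2b0e6d04dc050b0fa60540094104f50b0009bd05bf0d80071409230c95079000d70c8704af097a0c0200bc0a370bb00b69025b0975095a095c0d0d04dd09c40cd7024905d90cd1015d03a2053503e803d80c9406da0f9108fb06a40f050c4603610dc40f9e049a058103fb0ca20ad30036016106af0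ca40dae04630e95031f071205500b5a0c140e5a05ee0bf209040ade08aa04320fb800a20667012b03b009e5097b058c0eb7095801ef0e46050d01f108e60fd907fa0cd90b350d02090208de0ae7080c09f40aad0a7701c308570d3e08b3030605000061057f0a6f003308b1006e0c89003708250d9e0e59071f07c607d405a7029102de014a00c30d3100c500ad06220e3c08e90a21092b05ab0e5e0f1400ed090707590a8807f304280c2f0672011901a402430b9e0f470554050809eb0298034e024d0f440cfe0887041c048f0a7d0a4204db0af70b7406ac03330dd30c670c1708b005d60a0c059409770bca04fc0da80a35051c00da027d03ae0a4703410f1c052b08d303c00c1509820b030aed03aa084b05370e770b940b5e0d92084c06540e360fa00f510af505530da90b0c00f00f5c0f7f01e80aa40961066a0c320b5b08ab0a8f0f8104e1012f0c1007a60d4005150f550ae409450fc704b90a25084602900565047603900858001b010b072e0d480144013100a30d2e019c0a6d0b91058b0452028008d600580ab10ea50337098909ab09b700380aca0915015f088b0e1500a6034d06e60781048802ea03b304b00b3f0caa0c240a0809780c7c000c0ab5083b0b9506a201db00cc018800a104f80e0000840c7503220839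0a5d08f301240b09032a059d0380048107a40c040b6e091e08ef09c807fc026903200980025a0d6e0e8103d904440277000d0c7205e102c70b2c0f620bce00c0001e06d5074d04fb0b380f8d098f00080fac0e8b003c0d380cae0bde002807bc02c80d1f0df7070a089301500cd30ddb0323082c0f930d2f04a802810d0b037c0d95047203d203210c1a0edd04a40a3307010536078d0a9802260c0308ee0ef70e8508d80e3b06ba0d9b03510a3d08900aa605f60c00067303c209c90703001501860b2204f406ee00e50a5009ae05f10d3f0658074e0abc0e1204990542041408000722047b031d0e3802c10b330fa10dc00850047d0bbd03e005470c4304e403a1073308d00bcb01c903cb09e207230c910bd3041005100bfd04e608ff0bbc0b3903cd00ec0db904ae0aa7017e009e03c506dc0b98033a063e026e0eab0cc100520c8f073402ff010201bc02ec0d5e074a07060d08025e02ce055604d10b110c4f0a05052e073f062301c5077c0f4b086109f501800367099d06c308c5061b076607cc07b60e2104980f5a018905a40be60416031a064400260b1804c3080209d80d240bac05e8091400af051f011300fe09540d4308950d15092c0a090f1f0ef60ddd05c7035802090fb10d200959078403a00d78045903e306e00c6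9003a01ec0773064603f6081a00d5001c0c92064102d2012d06850e760dea077f0d140bb105570905096c0f6c080506630a61051d0ed70eb60a0709f60381069906370199016300ca0fc60c510118001405830adc0664069a075f044205a9093f0b600bc10896050a0d0a083c04860e9b0d610a8d0484073b02440b34039b01b908230d130f270e56057c05d40be30f3d04f00ede0ee40ed605fe09b10d98046b03ad042c0d2d047a0e32055209300b8e0f740f1d07250631057608c20f0f04730a6b06b1088508910a0b0d050c390c4c01fc00d303880e8e08840e4009910b800f340d8500bf09660d6004f307070c5301e10460014b0f94041f0b6504e30aa5078f08630b59034f04130cc601f5021406510ec605d800db03a902600097038d062b079a07d907fb059a024e011a00fb02e10b27045c0be5064f02d103c40aff027e0ea9087d00c703e505b30ce2050605870eb402ed063d0e700eaf02d304510ca5095f023003bc074804ea0c8d0d630b73004408f4034b075a066f0421065a084d0f5902c50346044e0f4e0ee90c6301fb0e140bab06de0666083601820c0607ba05c102630c7e003f01d306f80efd0f50058906ad0d250ece0c8102860bb80dda038f0f4f0524066900920edc003408c4057b00240be209250bb309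4003ff00ea0b10006008750126016702b20c2d060b06c5052f0f640c8a01a309030fb20b3c05dc08510a560dd005e40374043101490bff0cba02c4073e0bed01d40fb50e7d04a60cfc023a05d0046e004f0a850c220b3a06f40ac409010be0088f000f08c000100d8e087802a807e405390a2f04710ea0057800770ef90b3d04e70a030e1e00a901ae09e30c84067901d60fbb09a60438029c0b8d06e306e70eb205f305c0012508820066024a08710c740e1900030b4a0e200b880a9f0e880491071d05a20dbd09f10aeb02580e930a1a0af40e72099c0c73002e0d7409670f90011404ac005d01540461033e0349042d071609d9090e004c0b0e082708ce0979018f09880c0505af0eef032808fd0c47065c01f0087a0f9d02c2035a069f006205860efc0f4801a20bd40dac0d420fc9046907d70a2608210fab06fc0826050206cc079407b40325093e0711027402a6035607e20cea046706390aea050c002907d3083e0e970fa80e4504c20ae60b3e089b025709860f4c016c020e021a01d705920d5a03c1028f063a098c0a660cca007803720b9001100c3106d30545072704770a4101ab0926085a02790d880e3500f40e94099b073a0a900c400cd80df00f960ba500ba0cc204650b83061307350b15060806f900e7052c042a0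c6e09a700bd004b009001fe02400913098e0242053e013504f20f630264079708a60f0809e80c2b04080ce40d700a4c063b00940b9906d702ad03c800630b630df606520ebd0f8e0d8604950f5f0c130e730e30007d004506f20ef402e303d60a950b2d092409440152052a0d6b01ad06ed0379081906500a12003e094b07f808e401740f3e0daa09ef099a006802040db10519044f01b805300c9a04190b7e04cf0c2306fd02950ebe0d710e7b06620aba0e6e0dfa029b025307a105ce0d1101d5042409330a7e0436040c0049058e0ae0090c08690a000b410e0e0505076e0d8a04c40c200c0808cb0dca00e407790e3900f70e5d094f0a8306760ac30dd70cc9069c02730bc50aa107c70dfe07da026b06fb01e309d50bc00f7e099f07bd080d0e3d0cdc0b8406e50a540b570a0a0ef3086c0dab0d320a310330062a022207dc0bb502a0014f07500e230801004109e0045804070cff0b6f0c6c0f060340048b06830f7205c60c7a0a7b0cfd07a00648039c0a820b710e1a03b90567011e024707960cf707f106100293032605140ed1053804490ab6028d0d580f3c08b2081e02fe05fb07bf01ba02e506ab0c0c0572034409190da109b304290a020acd0f730788014e0ad90af3050402d002b90ce00fcf01450c9005ed02830b45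049208b50f0a052d04830b310b97010100320b770a2c0710030c0a520b720dbe0d5c0adb0cd40f650c680177077708fe0456027b06d60cb50ca70e0b008608f10fd202e2033f0be9064c04d40a0d0f090f1b02d40c4a0a2800f60d090e9a03910ace0785022d00070fd603ca09a3068e06b600d9066b03550fc40efa02fa0cfb0fc20d5508a4018e0c930fba096e05220f43064e0f80099400470ba80289096d0bad02f70817062f04e508df09fb0abd02db01be0c2104ab0a76059b0e16068909b402ef0c88058a0b2907a7002d02b602b300ab00d40e2b0d790e84091106090a160252078b08dc0e8a078a02a70708023f0db402c601aa0f180cb0061f09be0bcc073109c307c00dc8079d06590ec903500aec0bb70e1b0e2707e000e80dfd0811022c047808af0f2906260cd609ac08c70e6f0955093a062c09b80b01008d0f0302780a53042f02e707b3005701c1040f08550b5c029a0b200e9e076a023d09f00db008280afb09bf018c0602084f09e10f79067103b709f80588077d0ba70da2017d007103d004c5060d089a0cf2086b0e89057a08a004200e2604960042094e059901d80f6b0a94010806f7004d082d0694045304ee01f70261030f00b8063200b10dad0ca804e20ccb08740a800b9d0a55074901fa0c6d04350e3a0256089c00560739067c0d570f3505e702c904ba05610532017608a7041b0984099001460a4e0e74088c0c07045a08f0075208cc03cc095203f304930add0ec506ce0a96055f0ab40a5c018b]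

private theorem TL_eq : NL.map tabN = TL := by decide +kernel

private noncomputable def evalT (w : List ℕ) (i : ℕ) : ℕ :=
  List.rec (motive := fun _ => ℕ) i
    (fun a _ ih => forceN ih fun c => Nat.mod (Nat.shiftRight (nthT TL a) (Nat.mul 16 c)) 4096) w

private theorem evalT_eq {i : ℕ} (hi : i < 4096) : ∀ w, evalT w i = evalK w i ∧ evalK w i < 4096
  | [] => ⟨rfl, hi⟩
  | a :: w => by
    obtain ⟨h1, h2⟩ := evalT_eq hi w
    have h3 : evalK (a :: w) i = app (nthL NL a) (evalK w i) := (forceN_eq _ _).trans (appK_eq _ _)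
    have h4 : evalT (a :: w) i = Nat.mod (Nat.shiftRight (nthT TL a) (Nat.mul 16 (evalT w i))) 4096 :=
      forceN_eq (evalT w i) fun c => Nat.mod (Nat.shiftRight (nthT TL a) (Nat.mul 16 c)) 4096
    refine ⟨?_, h3 ▸ (in_nthL NL in_NL a).app_lt h2⟩
    rw [h4, h3, h1, ← TL_eq, nthT_map, tabN_eq (in_nthL NL in_NL a) h2]

private noncomputable def evalX (w : List ℕ) (i : ℕ) : ℕ :=
  Bool.rec (motive := fun _ => ℕ) (evalT w i) (evalK w i) (Nat.ble 4096 i)

private theorem evalX_eq : evalK = evalX := funext fun w => funext fun i => by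
  show _ = Bool.rec (motive := fun _ => ℕ) (evalT w i) (evalK w i) (Nat.ble 4096 i)
  cases h : Nat.ble 4096 i
  · exact (evalT_eq (Nat.lt_of_not_le fun e => Bool.false_ne_true (h.symm.trans (Nat.ble_eq_true_of_le e))) w).1.symm
  · rfl

private noncomputable def chkRelF (rels : List (List ℕ)) : Bool :=
  allL (fun r => allL (fun b => Nat.beq (evalX r b) b) [0, 29, 580, 577]) rels

private theorem chkRel_eq : chkRel = chkRelF :=
  congrArg (fun (e : List ℕ → ℕ → ℕ) (rels : List (List ℕ)) =>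
    allL (fun r => allL (fun b => Nat.beq (e r b) b) [0, 29, 580, 577]) rels) evalX_eq

end fast

end Cfsg.Agent.RuFast
end


-- part: OddHalf/D8/Phi/RuEnd
section
-- merged: Cfsg.Agent.OddHalf.D8.Phi.Gen
section

/-!
# ODD half, D8: equivariant families and the generating clique (helper879)

`t` an involution, `C_G(t) = ⟨t⟩ K`, `D ⊆ K` a `K`-invariant set of involutions. A *family* is a `K`-equivariant map
`a : D → G` with `a_v² = 1`, `tᵃᵛ = t v` and `[a_v, C_K(v)] = 1`; `b_v = a_vᵗ = a_v v`. `Good v w` : `[a_v, b_w] = 1`.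

* `mem_comm` (TRICK): `k ∈ K`, `a_w k a_w ∈ K` imply `k w = w k`;
* `F_mem` (N0): if `v w` has order 4, `x = (v w)²` and the lines `(v, x)`, `(w, x)` are exact, then
  `F v w = [a_v, b_w]` is an element of `K` of square 1 commuting with `v`, `w` and with `C_K(v, w)`;
* `norm_comm` (N1): `F v w₂` commutes with `w₁` if `F v w₁`, `F v w₂`, `F v (w₁ w₂)` are in `K` and `(w₁, w₂)` is exact;
* `Good.mul`, `Good.conj` (R1, R2);
* `exists_hom_of_clique`: if `D₀ ⊆ D` is pairwise good and generates `K`, then `G` has a homomorphism onto `{1, -1}` with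
  `t ↦ -1`.
-/

set_option autoImplicit false

namespace Cfsg.Agent.OddHalf.D8.Phi

open Subgroup

variable {G : Type*} [Group G]

/-- an equivariant family -/
structure Fam (t : G) (K : Subgroup G) (D : Set G) (a : G → G) : Prop where
  tt : t * t = 1
  tK : t ∉ K
  comm : ∀ k ∈ K, k * t = t * k
  cen : ∀ g : G, g * t = t * g → g ∈ K ∨ t * g ∈ K
  DK : ∀ v ∈ D, v ∈ K
  sq : ∀ v ∈ D, v * v = 1
  conj : ∀ v ∈ D, ∀ k ∈ K, k * v * k⁻¹ ∈ D
  aa : ∀ v ∈ D, a v * a v = 1
  swap : ∀ v ∈ D, a v * t * a v = t * v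
  fix : ∀ v ∈ D, ∀ k ∈ K, k * v = v * k → k * a v = a v * k
  eqv : ∀ v ∈ D, ∀ k ∈ K, a (k * v * k⁻¹) = k * a v * k⁻¹

/-- `b_v = a_v v` -/
def b (a : G → G) (v : G) : G := a v * v

/-- `[a_v, b_w]` -/
def F (a : G → G) (v w : G) : G := a v * b a w * (a v * b a w)

/-- `[a_v, b_w] = 1` -/
def Good (a : G → G) (v w : G) : Prop := a v * b a w = b a w * a v

namespace Fam

variable {t : G} {K : Subgroup G} {D : Set G} {a : G → G}

theorem av (h : Fam t K D a) {v : G} (hv : v ∈ D) : v * a v = a v * v :=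
  h.fix v hv v (h.DK v hv) rfl

theorem bb (h : Fam t K D a) {v : G} (hv : v ∈ D) : b a v * b a v = 1 := by
  unfold b
  calc a v * v * (a v * v) = a v * (v * a v) * v := by group
    _ = a v * a v * (v * v) := by rw [h.av hv]; group
    _ = 1 := by rw [h.aa v hv, h.sq v hv, one_mul]

/-- `b_v = t a_v t` -/
theorem conj_t (h : Fam t K D a) {v : G} (hv : v ∈ D) : t * a v * t = b a v := by
  unfold b
  calc t * a v * t = a v * a v * t * a v * t := by rw [h.aa v hv, one_mul]
    _ = a v * (a v * t * a v) * t := by group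
    _ = a v * (t * v) * t := by rw [h.swap v hv]
    _ = a v * (v * t) * t := by rw [h.comm v (h.DK v hv)]
    _ = a v * v * (t * t) := by group
    _ = a v * v := by rw [h.tt, mul_one]

theorem conj_t' (h : Fam t K D a) {v : G} (hv : v ∈ D) : t * b a v * t = a v := by
  rw [← h.conj_t hv]
  calc t * (t * a v * t) * t = t * t * a v * (t * t) := by group
    _ = a v := by rw [h.tt, one_mul, mul_one]

theorem mul_b (h : Fam t K D a) {v : G} (hv : v ∈ D) : a v * b a v = v := by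
  unfold b
  rw [← mul_assoc, h.aa v hv, one_mul]

theorem b_mul (h : Fam t K D a) {v : G} (hv : v ∈ D) : b a v * a v = v := by
  unfold b
  rw [mul_assoc, h.av hv, ← mul_assoc, h.aa v hv, one_mul]

/-- `b` is a family, too -/
theorem dual (h : Fam t K D a) : Fam t K D (b a) where
  tt := h.tt
  tK := h.tK
  comm := h.comm
  cen := h.cen
  DK := h.DK
  sq := h.sq
  conj := h.conj
  aa := fun _ hv => h.bb hv
  swap := by
    intro v hv
    unfold b
    calc a v * v * t * (a v * v) = a v * (v * t) * (a v * v) := by group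
      _ = a v * (t * v) * (v * a v) := by rw [h.comm v (h.DK v hv), h.av hv]
      _ = a v * t * (v * v) * a v := by group
      _ = a v * t * a v := by rw [h.sq v hv, mul_one]
      _ = t * v := h.swap v hv
  fix := by
    intro v hv k hk e
    unfold b
    calc k * (a v * v) = k * a v * v := by group
      _ = a v * (k * v) := by rw [h.fix v hv k hk e]; group
      _ = a v * v * k := by rw [e]; group
  eqv := by
    intro v hv k hk
    unfold b
    rw [h.eqv v hv k hk]
    group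

/-- **TRICK**: an element of `K` stays in `K` under `a_w` only if it commutes with `w` -/
theorem mem_comm (h : Fam t K D a) {w k : G} (hw : w ∈ D) (hk : k ∈ K) (h1 : a w * k * a w ∈ K) :
    k * w = w * k := by
  have h2 := h.comm _ h1
  have h3 : k * (t * w) = t * w * k := by
    rw [← h.swap w hw]
    calc k * (a w * t * a w) = a w * a w * k * (a w * t * a w) := by rw [h.aa w hw, one_mul]
      _ = a w * (a w * k * a w * t) * a w := by group
      _ = a w * (t * (a w * k * a w)) * a w := by rw [h2]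
      _ = a w * t * a w * k * (a w * a w) := by group
      _ = a w * t * a w * k := by rw [h.aa w hw, mul_one]
  have h4 : t * (k * w) = t * (w * k) := by
    calc t * (k * w) = t * k * w := by group
      _ = k * t * w := by rw [h.comm k hk]
      _ = k * (t * w) := by group
      _ = t * w * k := h3
      _ = t * (w * k) := by group
  exact mul_left_cancel h4

theorem mem_comm' (h : Fam t K D a) {w k : G} (hw : w ∈ D) (hk : k ∈ K) (h1 : b a w * k * b a w ∈ K) :
    k * w = w * k := h.dual.mem_comm hw hk h1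

/-- an element of `K` commutes with `a_w` if and only if it commutes with `w` -/
theorem comm_iff (h : Fam t K D a) {w k : G} (hw : w ∈ D) (hk : k ∈ K) :
    k * a w = a w * k ↔ k * w = w * k := by
  refine ⟨fun e => h.mem_comm hw hk ?_, h.fix w hw k hk⟩
  rw [← e, mul_assoc, h.aa w hw, mul_one]
  exact hk

theorem not_comm_t (h : Fam t K D a) {v : G} (hv : v ∈ D) (hv1 : v ≠ 1) : a v * t ≠ t * a v := by
  intro e
  have h1 := h.swap v hv
  rw [e, mul_assoc, h.aa v hv, mul_one] at h1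
  apply hv1
  exact mul_left_cancel (a := t) (by rw [← h1, mul_one])

/-- the elements `c` with `c² = 1`, `tᶜ = t v`, `[c, C_K(v)] = 1` are `a_v` and `b_v`, if `Z(C_K(v)) = ⟨v⟩` -/
theorem eq_or (h : Fam t K D a) {v c : G} (hv : v ∈ D) (hv1 : v ≠ 1) (hc : c * c = 1)
    (hct : c * t * c = t * v) (hcf : ∀ k ∈ K, k * v = v * k → k * c = c * k)
    (hZ : ∀ z ∈ K, z * v = v * z → (∀ k ∈ K, k * v = v * k → z * k = k * z) → z = 1 ∨ z = v) :
    c = a v ∨ c = b a v := by
  have e1 : c * a v * t = t * (c * a v) := by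
    have h1 : a v * t = t * v * a v := by rw [← h.swap v hv, mul_assoc, h.aa v hv, mul_one]
    have h2 : c * t = t * v * c := by rw [← hct, mul_assoc, hc, mul_one]
    have h3 : v * c = c * v := hcf v (h.DK v hv) rfl
    calc c * a v * t = c * (a v * t) := by group
      _ = c * t * (v * a v) := by rw [h1]; group
      _ = t * (v * c * v) * a v := by rw [h2]; group
      _ = t * c * (v * v) * a v := by rw [h3]; group
      _ = t * (c * a v) := by rw [h.sq v hv]; group
  have e2 : ∀ k ∈ K, k * v = v * k → c * a v * k = k * (c * a v) := by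
    intro k hk hkv
    calc c * a v * k = c * (a v * k) := by group
      _ = c * k * a v := by rw [← h.fix v hv k hk hkv]; group
      _ = k * (c * a v) := by rw [← hcf k hk hkv]; group
  have e3 : a v * (c * a v) * a v = (c * a v)⁻¹ := by
    rw [mul_inv_rev, inv_eq_of_mul_eq_one_right hc, inv_eq_of_mul_eq_one_right (h.aa v hv)]
    calc a v * (c * a v) * a v = a v * c * (a v * a v) := by group
      _ = a v * c := by rw [h.aa v hv, mul_one]
  have key : ∀ z : G, z = 1 ∨ z = v → c * a v = z → c = a v ∨ c = b a v := by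
    intro z hz e
    have h1 : c = z * a v := by rw [← e, mul_assoc, h.aa v hv, mul_one]
    rcases hz with rfl | rfl
    · exact Or.inl (by rw [h1, one_mul])
    · refine Or.inr ?_
      unfold b
      rw [h1, h.av hv]
  rcases h.cen _ e1 with h1 | h1
  · exact key _ (hZ _ h1 (e2 v (h.DK v hv) rfl) fun k hk hkv => e2 k hk hkv) rfl
  · exfalso
    have h2 : t * (c * a v) * v = v * (t * (c * a v)) := by
      calc t * (c * a v) * v = t * (c * a v * v) := by group
        _ = t * v * (c * a v) := by rw [e2 v (h.DK v hv) rfl]; group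
        _ = v * (t * (c * a v)) := by rw [← h.comm v (h.DK v hv)]; group
    have h3 : t * (c * a v) = 1 ∨ t * (c * a v) = v := by
      refine hZ _ h1 h2 fun k hk hkv => ?_
      calc t * (c * a v) * k = t * (c * a v * k) := by group
        _ = t * k * (c * a v) := by rw [e2 k hk hkv]; group
        _ = k * (t * (c * a v)) := by rw [← h.comm k hk]; group
    -- `c a_v = t` or `t v`: then `c` inverts it and `a_v` does
    have h4 : c * a v = t ∨ c * a v = t * v := by
      rcases h3 with e | e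
      · left
        calc c * a v = t * t * (c * a v) := by rw [h.tt, one_mul]
          _ = t * (t * (c * a v)) := by group
          _ = t := by rw [e, mul_one]
      · right
        calc c * a v = t * t * (c * a v) := by rw [h.tt, one_mul]
          _ = t * (t * (c * a v)) := by group
          _ = t * v := by rw [e]
    have h5 : (c * a v) * (c * a v) = 1 := by
      rcases h4 with e | e
      · rw [e, h.tt]
      · rw [e]
        calc t * v * (t * v) = t * (v * t) * v := by group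
          _ = t * t * (v * v) := by rw [h.comm v (h.DK v hv)]; group
          _ = 1 := by rw [h.tt, h.sq v hv, one_mul]
    have h6 : a v * (c * a v) = c * a v * a v := by
      have h7 : (c * a v)⁻¹ = c * a v := inv_eq_of_mul_eq_one_right h5
      rw [h7] at e3
      calc a v * (c * a v) = a v * (c * a v) * (a v * a v) := by rw [h.aa v hv, mul_one]
        _ = a v * (c * a v) * a v * a v := by group
        _ = c * a v * a v := by rw [e3]
    rcases h4 with e | e
    · rw [e] at h6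
      exact h.not_comm_t hv hv1 h6
    · rw [e] at h6
      apply h.not_comm_t hv hv1
      have h8 : a v * t * v = t * a v * v := by
        calc a v * t * v = a v * (t * v) := by group
          _ = t * (v * a v) := by rw [h6]; group
          _ = t * a v * v := by rw [h.av hv]; group
      exact mul_right_cancel h8

/-! ### commuting pairs -/

/-- a line: `a_{vw} = a_v a_w` -/
theorem line_comm (h : Fam t K D a) {v w : G} (hv : v ∈ D) (hw : w ∈ D) (hvw : v * w ∈ D)
    (e : a (v * w) = a v * a w) : a v * a w = a w * a v := by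
  have h1 := h.aa _ hvw
  rw [e] at h1
  have h2 := mul_eq_one_iff_eq_inv.1 h1
  rw [mul_inv_rev, inv_eq_of_mul_eq_one_right (h.aa v hv), inv_eq_of_mul_eq_one_right (h.aa w hw)] at h2
  exact h2

theorem b_line (h : Fam t K D a) {v w : G} (hv : v ∈ D) (hw : w ∈ D) (hc : v * w = w * v)
    (e : a (v * w) = a v * a w) : b a (v * w) = b a v * b a w := by
  unfold b
  rw [e]
  calc a v * a w * (v * w) = a v * (a w * v) * w := by group
    _ = a v * (v * a w) * w := by rw [h.fix w hw v (h.DK v hv) hc]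
    _ = a v * v * (a w * w) := by group

theorem good_self (h : Fam t K D a) {v : G} (hv : v ∈ D) : Good a v v := by
  unfold Good
  rw [h.mul_b hv, h.b_mul hv]

theorem good_symm (h : Fam t K D a) {v w : G} (hv : v ∈ D) (hw : w ∈ D) (e : Good a v w) :
    Good a w v := by
  unfold Good at e ⊢
  calc a w * b a v = t * b a w * t * (t * a v * t) := by rw [h.conj_t hv, h.conj_t' hw]
    _ = t * b a w * (t * t) * a v * t := by group
    _ = t * (b a w * a v) * t := by rw [h.tt]; group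
    _ = t * (a v * b a w) * t := by rw [e]
    _ = t * a v * 1 * b a w * t := by group
    _ = t * a v * (t * t) * b a w * t := by rw [h.tt]
    _ = t * a v * t * (t * b a w * t) := by group
    _ = b a v * a w := by rw [h.conj_t hv, h.conj_t' hw]

theorem good_iff (h : Fam t K D a) {v w : G} (hv : v ∈ D) (hw : w ∈ D) :
    Good a v w ↔ F a v w = 1 := by
  unfold Good F
  rw [mul_eq_one_iff_eq_inv, mul_inv_rev, inv_eq_of_mul_eq_one_right (h.aa v hv),
    inv_eq_of_mul_eq_one_right (h.bb hw)]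

theorem good_conj (h : Fam t K D a) {v w k : G} (hv : v ∈ D) (hw : w ∈ D) (hk : k ∈ K)
    (e : Good a v w) : Good a (k * v * k⁻¹) (k * w * k⁻¹) := by
  unfold Good at e ⊢
  rw [h.eqv v hv k hk, h.dual.eqv w hw k hk]
  calc k * a v * k⁻¹ * (k * b a w * k⁻¹) = k * (a v * b a w) * k⁻¹ := by group
    _ = k * b a w * k⁻¹ * (k * a v * k⁻¹) := by rw [e]; group

/-! ### pairs of order 4 -/

/-- the word identity behind (N0) -/
theorem word (v w A B C : G) (vv : v * v = 1) (ww : w * w = 1) (hv : v * A = A * v) (hw : w * B = B * w)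
    (hvC : v * C = C * v) (CC : C * C = 1) (hCA : C * A = A * C) (hCB : C * B = B * C)
    (hwA : w * A = A * C * w) (hvB : v * B = B * C * v) :
    A * v * B * (A * v * B) = A * (B * w) * (A * (B * w)) := by
  have h1 : A * v * B * (A * v * B) = A * B * A * B * C := by
    calc A * v * B * (A * v * B) = A * (v * B) * A * (v * B) := by group
      _ = A * B * C * (v * A) * B * C * v := by rw [hvB]; group
      _ = A * B * C * A * (v * B) * C * v := by rw [hv]; group
      _ = A * B * C * A * B * C * (v * C) * v := by rw [hvB]; group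
      _ = A * B * C * A * B * (C * C) * (v * v) := by rw [hvC]; group
      _ = A * B * (C * A) * B := by rw [CC, vv]; group
      _ = A * B * A * (C * B) := by rw [hCA]; group
      _ = A * B * A * B * C := by rw [hCB]; group
  have h2 : A * (B * w) * (A * (B * w)) = A * B * A * B * C := by
    calc A * (B * w) * (A * (B * w)) = A * B * (w * A) * B * w := by group
      _ = A * B * A * C * (w * B) * w := by rw [hwA]; group
      _ = A * B * A * (C * B) * (w * w) := by rw [hw]; group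
      _ = A * B * A * B * C := by rw [hCB, ww]; group
  rw [h1, h2]

/-- **(N0)**: `v w` of order 4 (`x = (v w)²`), the lines `(v, x)` and `(w, x)` exact. Then `F v w ∈ K`, its square is 1, it
commutes with `v`, `w` and `C_K(v, w)`. -/
theorem F_mem (h : Fam t K D a) {v w x : G} (hv : v ∈ D) (hw : w ∈ D) (hx : x ∈ D)
    (ex : v * w * (v * w) = x) (hx1 : x ≠ 1) (hvx : v * x = x * v) (hwx : w * x = x * w)
    (lv : a (v * x) = a v * a x) (lw : a (w * x) = a w * a x) (mv : v * x ∈ D) (mw : w * x ∈ D) :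
    F a v w ∈ K ∧ F a v w * F a v w = 1 ∧ F a v w * v = v * F a v w ∧ F a v w * w = w * F a v w ∧
      ∀ c ∈ K, c * v = v * c → c * w = w * c → c * F a v w = F a v w * c := by
  have vv := h.sq v hv
  have ww := h.sq w hw
  have vi : v⁻¹ = v := inv_eq_of_mul_eq_one_right vv
  have wi : w⁻¹ = w := inv_eq_of_mul_eq_one_right ww
  -- `w v w = v x`, `v w v = w x`
  have e1 : w * v * w⁻¹ = v * x := by
    rw [wi, ← ex]
    calc w * v * w = v * v * w * v * w := by rw [vv, one_mul]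
      _ = v * (v * w * (v * w)) := by group
  have e2 : v * w * v⁻¹ = w * x := by
    have h1 : v * w = x * (w * v) := by
      rw [← ex]
      calc v * w = v * w * v * (w * w) * v := by rw [ww, mul_one, mul_assoc (v * w), vv, mul_one]
        _ = v * w * (v * w) * (w * v) := by group
    rw [vi, h1]
    calc x * (w * v) * v = x * w * (v * v) := by group
      _ = w * x := by rw [vv, mul_one, hwx]
  have wA : w * a v = a v * a x * w := by
    have h1 := h.eqv v hv w (h.DK w hw)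
    rw [e1, lv] at h1
    rw [h1]; group
  have vB : v * a w = a w * a x * v := by
    have h1 := h.eqv w hw v (h.DK v hv)
    rw [e2, lw] at h1
    rw [h1]; group
  have vC : v * a x = a x * v := h.fix x hx v (h.DK v hv) hvx
  have CA : a x * a v = a v * a x := (h.line_comm hv hx mv lv).symm
  have CB : a x * a w = a w * a x := (h.line_comm hw hx mw lw).symm
  have tF : F a v w * t = t * F a v w := by
    have h1 : t * F a v w * t = F a v w := by
      unfold F
      calc t * (a v * b a w * (a v * b a w)) * t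
          = t * a v * 1 * b a w * 1 * a v * 1 * b a w * t := by group
        _ = t * a v * (t * t) * b a w * (t * t) * a v * (t * t) * b a w * t := by rw [h.tt]
        _ = t * a v * t * (t * b a w * t) * (t * a v * t * (t * b a w * t)) := by group
        _ = b a v * a w * (b a v * a w) := by rw [h.conj_t hv, h.conj_t' hw]
        _ = a v * (a w * w) * (a v * (a w * w)) :=
          word v w (a v) (a w) (a x) vv ww (h.av hv) (h.av hw) vC (h.aa x hx) CA CB wA vB
        _ = _ := rfl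
    calc F a v w * t = t * F a v w * t * t := by rw [h1]
      _ = t * F a v w * (t * t) := by group
      _ = t * F a v w := by rw [h.tt, mul_one]
  have cF : ∀ c ∈ K, c * v = v * c → c * w = w * c → c * F a v w = F a v w * c := by
    intro c hc cv cw
    have h1 : c * a v = a v * c := h.fix v hv c hc cv
    have h2 : c * b a w = b a w * c := h.dual.fix w hw c hc cw
    unfold F
    calc c * (a v * b a w * (a v * b a w)) = c * a v * b a w * (a v * b a w) := by group
      _ = a v * (c * b a w) * (a v * b a w) := by rw [h1]; group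
      _ = a v * b a w * (c * a v) * b a w := by rw [h2]; group
      _ = a v * b a w * a v * (c * b a w) := by rw [h1]; group
      _ = a v * b a w * (a v * b a w) * c := by rw [h2]; group
  -- `a_v` and `b_w` invert `F`
  have i1 : a v * F a v w * a v * F a v w = 1 := by
    unfold F
    calc a v * (a v * b a w * (a v * b a w)) * a v * (a v * b a w * (a v * b a w))
        = a v * a v * b a w * a v * b a w * (a v * a v) * b a w * (a v * b a w) := by group
      _ = b a w * a v * (b a w * b a w) * (a v * b a w) := by rw [h.aa v hv]; group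
      _ = b a w * (a v * a v) * b a w := by rw [h.bb hw]; group
      _ = 1 := by rw [h.aa v hv, mul_one, h.bb hw]
  have i2 : b a w * F a v w * b a w * F a v w = 1 := by
    unfold F
    calc b a w * (a v * b a w * (a v * b a w)) * b a w * (a v * b a w * (a v * b a w))
        = b a w * a v * b a w * a v * (b a w * b a w) * a v * b a w * (a v * b a w) := by group
      _ = b a w * a v * b a w * (a v * a v) * b a w * (a v * b a w) := by rw [h.bb hw]; group
      _ = b a w * a v * (b a w * b a w) * (a v * b a w) := by rw [h.aa v hv]; group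
      _ = b a w * (a v * a v) * b a w := by rw [h.bb hw]; group
      _ = 1 := by rw [h.aa v hv, mul_one, h.bb hw]
  have key : F a v w ∈ K → F a v w * F a v w = 1 ∧ F a v w * v = v * F a v w ∧
      F a v w * w = w * F a v w := by
    intro hF
    have h1 : a v * F a v w * a v = (F a v w)⁻¹ := eq_inv_of_mul_eq_one_left i1
    have h2 : b a w * F a v w * b a w = (F a v w)⁻¹ := eq_inv_of_mul_eq_one_left i2
    have h3 := h.mem_comm hv hF (by rw [h1]; exact inv_mem hF)
    have h4 := h.mem_comm' hw hF (by rw [h2]; exact inv_mem hF)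
    refine ⟨?_, h3, h4⟩
    have h5 := h.fix v hv _ hF h3
    rw [← h5] at h1
    rw [mul_assoc, h.aa v hv, mul_one] at h1
    exact mul_eq_one_iff_eq_inv.2 h1
  rcases h.cen _ tF with hF | hF
  · obtain ⟨h1, h2, h3⟩ := key hF
    exact ⟨hF, h1, h2, h3, cF⟩
  · exfalso
    set k := t * F a v w with hk
    have eF : F a v w = t * k := by
      rw [hk, ← mul_assoc, h.tt, one_mul]
    have tk : k * t = t * k := h.comm k hF
    -- `c k c = u k⁻¹` for `(c, u) = (a_v, v), (b_w, w)`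
    have sub : ∀ (u c : G), u * u = 1 → c * t * c = t * u → c * c = 1 →
        c * F a v w * c * F a v w = 1 → c * k * c = u * k⁻¹ := by
      intro u c hu h1 hcc h2
      have h3 : t * u * (c * k * c) * (t * k) = 1 := by
        rw [← h2, eF]
        calc t * u * (c * k * c) * (t * k) = c * t * c * (c * k * c) * (t * k) := by rw [h1]
          _ = c * t * (c * c) * k * c * (t * k) := by group
          _ = c * (t * k) * c * (t * k) := by rw [hcc]; group
      have h4 : u * (c * k * c) * k = 1 := by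
        have h5 : t * (u * (c * k * c)) * (k * t) = 1 := by
          rw [tk]
          calc t * (u * (c * k * c)) * (t * k) = t * u * (c * k * c) * (t * k) := by group
            _ = 1 := h3
        calc u * (c * k * c) * k = t * t * (u * (c * k * c) * k) * (t * t) := by
              rw [h.tt, one_mul, mul_one]
          _ = t * (t * (u * (c * k * c)) * (k * t)) * t := by group
          _ = 1 := by rw [h5, mul_one, h.tt]
      calc c * k * c = u * u * (c * k * c) * k * k⁻¹ := by rw [hu]; group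
        _ = u * (u * (c * k * c) * k) * k⁻¹ := by group
        _ = u * k⁻¹ := by rw [h4, mul_one]
    have fin : ∀ (u c : G), u ∈ K → (c * k * c ∈ K → k * c = c * k) → c * c = 1 → c * k * c = u * k⁻¹ →
        k * k = u := by
      intro u c hu h1 hcc h2
      have h3 := h1 (by rw [h2]; exact mul_mem hu (inv_mem hF))
      have h4 : c * k * c = k := by rw [← h3, mul_assoc, hcc, mul_one]
      rw [h4] at h2
      calc k * k = u * k⁻¹ * k := by rw [← h2]
        _ = u := by group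
    have k1 : k * k = v := fin v (a v) (h.DK v hv) (fun e => h.fix v hv k hF (h.mem_comm hv hF e)) (h.aa v hv)
      (sub v (a v) vv (h.swap v hv) (h.aa v hv) i1)
    have k2 : k * k = w := fin w (b a w) (h.DK w hw) (fun e => h.dual.fix w hw k hF (h.mem_comm' hw hF e))
      (h.bb hw) (sub w (b a w) ww (h.dual.swap w hw) (h.bb hw) i2)
    apply hx1
    rw [← ex, ← k2, k1, vv, one_mul]

/-- **(N1)**, the norm lemma -/
theorem norm_comm (h : Fam t K D a) {v w₁ w₂ : G} (hv : v ∈ D) (h1 : w₁ ∈ D) (h2 : w₂ ∈ D)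
    (h12 : w₁ * w₂ ∈ D) (hc : w₁ * w₂ = w₂ * w₁) (e : a (w₁ * w₂) = a w₁ * a w₂)
    (f1 : F a v w₁ ∈ K) (f2 : F a v w₂ ∈ K) (f : F a v (w₁ * w₂) ∈ K) :
    F a v w₂ * w₁ = w₁ * F a v w₂ := by
  have hb := h.b_line h1 h2 hc e
  have hbc : b a w₁ * b a w₂ = b a w₂ * b a w₁ := h.dual.line_comm h1 h2 h12 hb
  have key : F a v (w₁ * w₂) = F a v w₁ * (b a w₁ * F a v w₂ * b a w₁) := by
    unfold F
    rw [hb]
    calc a v * (b a w₁ * b a w₂) * (a v * (b a w₁ * b a w₂))
        = a v * b a w₁ * b a w₂ * a v * (b a w₁ * b a w₂) := by group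
      _ = a v * b a w₁ * b a w₂ * a v * (b a w₂ * b a w₁) := by rw [hbc]
      _ = a v * b a w₁ * 1 * b a w₂ * (a v * b a w₂) * b a w₁ := by group
      _ = a v * b a w₁ * (a v * a v) * b a w₂ * (a v * b a w₂) * b a w₁ := by rw [h.aa v hv]
      _ = a v * b a w₁ * a v * 1 * (a v * b a w₂ * (a v * b a w₂)) * b a w₁ := by group
      _ = a v * b a w₁ * a v * (b a w₁ * b a w₁) * (a v * b a w₂ * (a v * b a w₂)) * b a w₁ := by
          rw [h.bb h1]
      _ = _ := by group
  refine h.mem_comm' h1 f2 ?_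
  have h3 : b a w₁ * F a v w₂ * b a w₁ = (F a v w₁)⁻¹ * F a v (w₁ * w₂) := by rw [key]; group
  rw [h3]
  exact mul_mem (inv_mem f1) f

/-! ### the end -/

/-- **the generating clique**: `D₀ ⊆ D` pairwise good, generating `K` -/
theorem wr_of_clique (h : Fam t K D a) {D₀ : Set G} (hD : ∀ v ∈ D₀, v ∈ D)
    (hg : ∀ v ∈ D₀, ∀ w ∈ D₀, Good a v w) (hK : closure D₀ = K)
    (hZ : ∀ z ∈ K, (∀ k ∈ K, z * k = k * z) → z = 1) (nab : ∃ x ∈ K, ∃ y ∈ K, x * y ≠ y * x) :
    Wreath.Wr t K (closure (a '' D₀)) := by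
  refine Wreath.wr_of h.tt hK ?_ ?_ ?_ nab
  · intro v hv
    rw [h.conj_t (hD v hv)]
    exact h.mul_b (hD v hv)
  · intro v hv w hw
    rw [h.conj_t (hD w hw)]
    exact hg v hv w hw
  · intro g hgt hgK
    rcases h.cen g hgt with h1 | h1
    · exact Or.inl (hZ g h1 hgK)
    · right
      have h2 : t * g = 1 := by
        refine hZ _ h1 fun k hk => ?_
        calc t * g * k = t * (g * k) := by group
          _ = t * k * g := by rw [hgK k hk]; group
          _ = k * (t * g) := by rw [← h.comm k hk]; group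
      calc g = t * t * g := by rw [h.tt, one_mul]
        _ = t * (t * g) := by group
        _ = t := by rw [h2, mul_one]

/-- **the end**: a generating clique gives a homomorphism onto `{1, -1}` which is `-1` on `t` -/
theorem exists_hom_of_clique [Finite G] (h : Fam t K D a) {D₀ : Set G} (hD : ∀ v ∈ D₀, v ∈ D)
    (hg : ∀ v ∈ D₀, ∀ w ∈ D₀, Good a v w) (hK : closure D₀ = K)
    (hZ : ∀ z ∈ K, (∀ k ∈ K, z * k = k * z) → z = 1) (nab : ∃ x ∈ K, ∃ y ∈ K, x * y ≠ y * x) :
    ∃ m : G →* ℤˣ, m t = -1 :=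
  (h.wr_of_clique hD hg hK hZ nab).exists_hom h.cen

end Fam

/-! ### existence -/

/-- one element `e` with `e² = 1`, `tᵉ = t z`, `[e, C_K(z)] = 1` gives a family on the class of `z` -/
theorem exists_fam {t z e : G} {K : Subgroup G} (tt : t * t = 1) (tK : t ∉ K)
    (comm : ∀ k ∈ K, k * t = t * k) (cen : ∀ g : G, g * t = t * g → g ∈ K ∨ t * g ∈ K) (hz : z ∈ K)
    (zz : z * z = 1) (ee : e * e = 1) (et : e * t * e = t * z)
    (ez : ∀ k ∈ K, k * z = z * k → k * e = e * k) :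
    ∃ a : G → G, Fam t K {v | ∃ k ∈ K, v = k * z * k⁻¹} a ∧ a z = e := by
  classical
  let a : G → G := fun v => if hv : ∃ k ∈ K, v = k * z * k⁻¹ then hv.choose * e * hv.choose⁻¹ else 1
  have ha : ∀ k ∈ K, a (k * z * k⁻¹) = k * e * k⁻¹ := by
    intro k hk
    have hv : ∃ k' ∈ K, k * z * k⁻¹ = k' * z * k'⁻¹ := ⟨k, hk, rfl⟩
    have h1 : a (k * z * k⁻¹) = hv.choose * e * hv.choose⁻¹ := by
      simp only [a]
      rw [dif_pos hv]
    obtain ⟨h2, h3⟩ := hv.choose_spec
    rw [h1]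
    set l := hv.choose
    have h4 : l⁻¹ * k * z = z * (l⁻¹ * k) := by
      calc l⁻¹ * k * z = l⁻¹ * (k * z * k⁻¹) * k := by group
        _ = z * (l⁻¹ * k) := by rw [h3]; group
    have h5 := ez _ (mul_mem (inv_mem h2) hk) h4
    calc l * e * l⁻¹ = l * (e * (l⁻¹ * k)) * k⁻¹ := by group
      _ = k * e * k⁻¹ := by rw [← h5]; group
  have hz1 : a z = e := by
    have := ha 1 (one_mem _)
    simpa using this
  refine ⟨a, ⟨tt, tK, comm, cen, ?_, ?_, ?_, ?_, ?_, ?_, ?_⟩, hz1⟩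
  · rintro _ ⟨k, hk, rfl⟩
    exact mul_mem (mul_mem hk hz) (inv_mem hk)
  · rintro _ ⟨k, hk, rfl⟩
    calc k * z * k⁻¹ * (k * z * k⁻¹) = k * (z * z) * k⁻¹ := by group
      _ = 1 := by rw [zz]; group
  · rintro _ ⟨k, hk, rfl⟩ l hl
    exact ⟨l * k, mul_mem hl hk, by group⟩
  · rintro _ ⟨k, hk, rfl⟩
    rw [ha k hk]
    calc k * e * k⁻¹ * (k * e * k⁻¹) = k * (e * e) * k⁻¹ := by group
      _ = 1 := by rw [ee]; group
  · rintro _ ⟨k, hk, rfl⟩
    rw [ha k hk]
    have h1 : k⁻¹ * t = t * k⁻¹ := comm _ (inv_mem hk)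
    calc k * e * k⁻¹ * t * (k * e * k⁻¹) = k * e * (k⁻¹ * t) * k * e * k⁻¹ := by group
      _ = k * (e * t * e) * k⁻¹ := by rw [h1]; group
      _ = k * t * z * k⁻¹ := by rw [et]; group
      _ = t * (k * z * k⁻¹) := by rw [comm k hk]; group
  · rintro _ ⟨k, hk, rfl⟩ l hl hc
    rw [ha k hk]
    have h1 : k⁻¹ * l * k * z = z * (k⁻¹ * l * k) := by
      calc k⁻¹ * l * k * z = k⁻¹ * (l * (k * z * k⁻¹)) * k := by group
        _ = z * (k⁻¹ * l * k) := by rw [hc]; group
    have h2 := ez _ (mul_mem (mul_mem (inv_mem hk) hl) hk) h1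
    calc l * (k * e * k⁻¹) = k * (k⁻¹ * l * k * e) * k⁻¹ := by group
      _ = k * e * k⁻¹ * l := by rw [h2]; group
  · rintro _ ⟨k, hk, rfl⟩ l hl
    have h1 : l * (k * z * k⁻¹) * l⁻¹ = l * k * z * (l * k)⁻¹ := by group
    rw [h1, ha _ (mul_mem hl hk), ha k hk]
    group

end Cfsg.Agent.OddHalf.D8.Phi

end

-- merged: Cfsg.Agent.OddHalf.D8.Phi.Lines
section

/-!
# ODD half, D8: exactness of lines up to a bit, twisted pairs of order 4 (helper879)

For an equivariant family (`Phi/Gen.lean`):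

* `dl a p q = a_p a_q a_{pq}`, the defect of a line; it commutes with `t` and with `C_K(p, q)` (`dl_comm_t`, `dl_cen`);
* `dl_assoc`: the cocycle identity of three members `u, w, v` of an elementary abelian group;
* `dl_cases`: if `ρ ∈ K` cycles `p → q → p q` and the centraliser in `K` of `C_K(p, q)` is `⟨p, q, y⟩`, `[ρ, y] = 1`, then
  the defect is `1`, `y`, `t q` or `t q y`;
* `tFt`: if `v w` has order 4, `x = (v w)²` and `a_{vx} = ζ a_v a_x`, `a_{wx} = η a_w a_x` with involutions (or 1) `ζ, η ∈ K`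
  commuting with `v, w, x`, then `Fᵗ = η ζ F` for `F = [a_v, b_w]`;
* `F_mul`: `F v (r s) = F v r · (F v s)^{b_r}` for an exact line `(r, s)`.
-/

set_option autoImplicit false

namespace Cfsg.Agent.OddHalf.D8.Phi

variable {G : Type*} [Group G]

/-- the ordered pairs `(p, q)`, `(p', q')` are conjugate in `K` -/
def PC (K : Subgroup G) (p q p' q' : G) : Prop := ∃ g ∈ K, g * p * g⁻¹ = p' ∧ g * q * g⁻¹ = q'

/-- the triples `(p, q, y)`, `(p', q', y')` are conjugate in `K` -/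
def TC (K : Subgroup G) (p q y p' q' y' : G) : Prop :=
  ∃ g ∈ K, g * p * g⁻¹ = p' ∧ g * q * g⁻¹ = q' ∧ g * y * g⁻¹ = y'

/-- the defect of a line -/
def dl (a : G → G) (p q : G) : G := a p * a q * a (p * q)

namespace Fam

variable {t : G} {K : Subgroup G} {D : Set G} {a : G → G}

theorem D_PC (h : Fam t K D a) {p q p' q' : G} (e : PC K p q p' q') (hp : p ∈ D) : p' ∈ D := by
  obtain ⟨g, hg, rfl, _⟩ := e
  exact h.conj p hp g hg

theorem D_PC' (h : Fam t K D a) {p q p' q' : G} (e : PC K p q p' q') (hq : q ∈ D) : q' ∈ D := by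
  obtain ⟨g, hg, _, rfl⟩ := e
  exact h.conj q hq g hg

theorem D_PCm (h : Fam t K D a) {p q p' q' : G} (e : PC K p q p' q') (hpq : p * q ∈ D) : p' * q' ∈ D := by
  obtain ⟨g, hg, rfl, rfl⟩ := e
  have := h.conj _ hpq g hg
  rwa [show g * (p * q) * g⁻¹ = g * p * g⁻¹ * (g * q * g⁻¹) by group] at this

theorem comm_PC {p q p' q' : G} (e : PC K p q p' q') (hc : p * q = q * p) : p' * q' = q' * p' := by
  obtain ⟨g, -, rfl, rfl⟩ := e
  calc g * p * g⁻¹ * (g * q * g⁻¹) = g * (p * q) * g⁻¹ := by group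
    _ = g * q * g⁻¹ * (g * p * g⁻¹) := by rw [hc]; group

theorem F_conj (h : Fam t K D a) {v w g : G} (hv : v ∈ D) (hw : w ∈ D) (hg : g ∈ K) :
    F a (g * v * g⁻¹) (g * w * g⁻¹) = g * F a v w * g⁻¹ := by
  unfold F
  rw [h.eqv v hv g hg, h.dual.eqv w hw g hg]
  group

theorem dl_conj (h : Fam t K D a) {p q g : G} (hp : p ∈ D) (hq : q ∈ D) (hpq : p * q ∈ D) (hg : g ∈ K) :
    dl a (g * p * g⁻¹) (g * q * g⁻¹) = g * dl a p q * g⁻¹ := by
  unfold dl
  rw [show g * p * g⁻¹ * (g * q * g⁻¹) = g * (p * q) * g⁻¹ by group, h.eqv p hp g hg, h.eqv q hq g hg,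
    h.eqv _ hpq g hg]
  group

theorem a_t (h : Fam t K D a) {v : G} (hv : v ∈ D) : a v * t = t * v * a v := by
  rw [← h.swap v hv, mul_assoc, h.aa v hv, mul_one]

theorem dl_comm_t (h : Fam t K D a) {p q : G} (hp : p ∈ D) (hq : q ∈ D) (hpq : p * q ∈ D)
    (hc : p * q = q * p) : dl a p q * t = t * dl a p q := by
  have pK := h.DK p hp
  have qK := h.DK q hq
  have e1 : a q * p = p * a q := (h.fix q hq p pK hc).symm
  have e2 : a p * q = q * a p := (h.fix p hp q qK hc.symm).symm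
  have e3 : a (p * q) * p = p * a (p * q) := (h.fix _ hpq p pK (by rw [mul_assoc, hc])).symm
  unfold dl
  calc a p * a q * a (p * q) * t = a p * a q * (a (p * q) * t) := by group
    _ = a p * (a q * t) * (p * q) * a (p * q) := by rw [h.a_t hpq]; group
    _ = a p * t * q * (a q * p) * q * a (p * q) := by rw [h.a_t hq]; group
    _ = a p * t * (q * p) * (a q * q) * a (p * q) := by rw [e1]; group
    _ = a p * t * (p * q) * (q * a q) * a (p * q) := by rw [← hc, ← h.av hq]
    _ = a p * t * p * (q * q) * a q * a (p * q) := by group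
    _ = t * p * (a p * p) * a q * a (p * q) := by rw [h.sq q hq, h.a_t hp]; group
    _ = t * (p * p) * a p * a q * a (p * q) := by rw [← h.av hp]; group
    _ = t * (a p * a q * a (p * q)) := by rw [h.sq p hp]; group

theorem dl_cen (h : Fam t K D a) {p q c : G} (hp : p ∈ D) (hq : q ∈ D) (hpq : p * q ∈ D) (hc : c ∈ K)
    (cp : c * p = p * c) (cq : c * q = q * c) : c * dl a p q = dl a p q * c := by
  have h1 := h.fix p hp c hc cp
  have h2 := h.fix q hq c hc cq
  have h3 := h.fix _ hpq c hc (by rw [← mul_assoc, cp, mul_assoc, cq, mul_assoc])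
  unfold dl
  calc c * (a p * a q * a (p * q)) = c * a p * a q * a (p * q) := by group
    _ = a p * (c * a q) * a (p * q) := by rw [h1]; group
    _ = a p * a q * (c * a (p * q)) := by rw [h2]; group
    _ = a p * a q * a (p * q) * c := by rw [h3]; group

/-- `a_p a_q = dl · a_{pq}` -/
theorem dl_mul (h : Fam t K D a) {p q : G} (hpq : p * q ∈ D) : a p * a q = dl a p q * a (p * q) := by
  unfold dl
  rw [mul_assoc (a p * a q), h.aa _ hpq, mul_one]

/-- the cocycle identity -/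
theorem dl_assoc (h : Fam t K D a) {u w v : G} (hu : u ∈ D) (huw : u * w ∈ D) (hwv : w * v ∈ D) :
    dl a u w * dl a (u * w) v = a u * dl a w v * a u * dl a u (w * v) := by
  unfold dl
  calc a u * a w * a (u * w) * (a (u * w) * a v * a (u * w * v))
      = a u * a w * (a (u * w) * a (u * w)) * a v * a (u * w * v) := by group
    _ = a u * a w * a v * a (u * w * v) := by rw [h.aa _ huw, mul_one]
    _ = a u * a w * a v * (a (w * v) * a (w * v)) * a (u * (w * v)) := by
        rw [h.aa _ hwv, mul_one, mul_assoc u w v]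
    _ = a u * (a w * a v * a (w * v)) * 1 * a (w * v) * a (u * (w * v)) := by group
    _ = a u * (a w * a v * a (w * v)) * (a u * a u) * a (w * v) * a (u * (w * v)) := by rw [h.aa _ hu]
    _ = a u * (a w * a v * a (w * v)) * a u * (a u * a (w * v) * a (u * (w * v))) := by group

/-- **the defect of a line**, given the centraliser in `K` of `C_K(p, q)` -/
theorem dl_cases (h : Fam t K D a) {p q y ρ : G} (hp : p ∈ D) (hq : q ∈ D) (hpq : p * q ∈ D)
    (hc : p * q = q * p) (p1 : p ≠ 1) (q1 : q ≠ 1) (npq : p ≠ q) (hρ : ρ ∈ K) (r1 : ρ * p * ρ⁻¹ = q)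
    (r2 : ρ * q * ρ⁻¹ = p * q) (yy : y * y = 1) (yp : y * p = p * y) (yq : y * q = q * y)
    (ry : ρ * y * ρ⁻¹ = y)
    (hK : ∀ k ∈ K, (∀ c ∈ K, c * p = p * c → c * q = q * c → c * k = k * c) →
      ∃ m : G, (m = 1 ∨ m = p ∨ m = q ∨ m = p * q) ∧ (k = m ∨ k = m * y)) :
    dl a p q = 1 ∨ dl a p q = y ∨ dl a p q = t * q ∨ dl a p q = t * (q * y) := by
  have pK := h.DK p hp
  have qK := h.DK q hq
  have pp := h.sq p hp
  have qq := h.sq q hq
  have ap := h.aa p hp
  have aq := h.aa q hq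
  have au := h.aa _ hpq
  have q1' : ρ * a p * ρ⁻¹ = a q := by rw [← h.eqv p hp ρ hρ, r1]
  have q2' : ρ * a q * ρ⁻¹ = a (p * q) := by rw [← h.eqv q hq ρ hρ, r2]
  have r3 : ρ * (p * q) * ρ⁻¹ = p := by
    calc ρ * (p * q) * ρ⁻¹ = ρ * p * ρ⁻¹ * (ρ * q * ρ⁻¹) := by group
      _ = q * p * q := by rw [r1, r2]; group
      _ = p * (q * q) := by rw [← hc]; group
      _ = p := by rw [qq, mul_one]
  have q3' : ρ * a (p * q) * ρ⁻¹ = a p := by rw [← h.eqv _ hpq ρ hρ, r3]
  have tρ : ρ * t * ρ⁻¹ = t := by rw [h.comm ρ hρ]; group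
  set f := dl a p q with hf
  have tf : f * t = t * f := h.dl_comm_t hp hq hpq hc
  have cf : ∀ c ∈ K, c * p = p * c → c * q = q * c → c * f = f * c := fun c hc' cp cq => h.dl_cen hp hq hpq hc' cp cq
  have fm : a p * a q = f * a (p * q) := h.dl_mul hpq
  -- `f` commutes with `a_{pq}`, `a_p`, `a_q` up to `t`-parts; treat `k`
  have fixk : ∀ k ∈ K, k * p = p * k → k * q = q * k →
      k * a p = a p * k ∧ k * a q = a q * k ∧ k * a (p * q) = a (p * q) * k := by
    intro k hk kp kq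
    exact ⟨h.fix p hp k hk kp, h.fix q hq k hk kq,
      h.fix _ hpq k hk (by rw [← mul_assoc, kp, mul_assoc, kq, mul_assoc])⟩
  -- the conjugate of an element of the list
  have conjm : ∀ m : G, (m = 1 ∨ m = p ∨ m = q ∨ m = p * q) →
      (m = 1 ∧ ρ * m * ρ⁻¹ = 1) ∨ (m = p ∧ ρ * m * ρ⁻¹ = q) ∨ (m = q ∧ ρ * m * ρ⁻¹ = p * q) ∨
      (m = p * q ∧ ρ * m * ρ⁻¹ = p) := by
    rintro m (rfl | rfl | rfl | rfl)
    · exact Or.inl ⟨rfl, by group⟩
    · exact Or.inr (Or.inl ⟨rfl, r1⟩)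
    · exact Or.inr (Or.inr (Or.inl ⟨rfl, r2⟩))
    · exact Or.inr (Or.inr (Or.inr ⟨rfl, r3⟩))
  rcases h.cen f tf with hfK | hfK
  · -- `f = k ∈ K`
    obtain ⟨m, hm, hfm⟩ := hK f hfK cf
    have kp : f * p = p * f := (cf p pK rfl hc).symm
    have kq : f * q = q * f := (cf q qK hc.symm rfl).symm
    obtain ⟨c1, c2, c3⟩ := fixk f hfK kp kq
    -- `ρ f ρ⁻¹ = f`
    have key : ρ * f * ρ⁻¹ = f := by
      have e1 : a q = f * (a p * a (p * q)) := by
        calc a q = a p * a p * a q := by rw [ap, one_mul]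
          _ = a p * (a p * a q) := by group
          _ = a p * f * a (p * q) := by rw [fm]; group
          _ = f * (a p * a (p * q)) := by rw [← c1]; group
      have e2 : ρ * (a p * a q) * ρ⁻¹ = a q * a (p * q) := by
        calc ρ * (a p * a q) * ρ⁻¹ = ρ * a p * ρ⁻¹ * (ρ * a q * ρ⁻¹) := by group
          _ = a q * a (p * q) := by rw [q1', q2']
      rw [fm] at e2
      have e3 : ρ * (f * a (p * q)) * ρ⁻¹ = ρ * f * ρ⁻¹ * a p := by
        calc ρ * (f * a (p * q)) * ρ⁻¹ = ρ * f * ρ⁻¹ * (ρ * a (p * q) * ρ⁻¹) := by group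
          _ = _ := by rw [q3']
      rw [e3] at e2
      have e4 : a q * a (p * q) = f * a p := by
        rw [e1]
        calc f * (a p * a (p * q)) * a (p * q) = f * a p * (a (p * q) * a (p * q)) := by group
          _ = f * a p := by rw [au, mul_one]
      rw [e4] at e2
      exact mul_right_cancel e2
    have hmm : ρ * m * ρ⁻¹ = m := by
      rcases hfm with e | e
      · rw [← e]; exact key
      · have h1 : ρ * m * ρ⁻¹ * y = m * y := by
          calc ρ * m * ρ⁻¹ * y = ρ * m * ρ⁻¹ * (ρ * y * ρ⁻¹) := by rw [ry]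
            _ = ρ * (m * y) * ρ⁻¹ := by group
            _ = m * y := by rw [← e]; exact key
        exact mul_right_cancel h1
    have m1 : m = 1 := by
      rcases conjm m hm with ⟨e, _⟩ | ⟨e, e'⟩ | ⟨e, e'⟩ | ⟨e, e'⟩
      · exact e
      · exact absurd (e.symm.trans (hmm.symm.trans e')) npq
      · exfalso
        have h1 : p * q = q := by rw [← e', hmm, e]
        exact p1 (mul_eq_right.1 h1)
      · exfalso
        have h1 : p * q = p := by rw [← e, ← hmm, e']
        exact q1 (mul_eq_left.1 h1)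
    subst m1
    rcases hfm with e | e
    · exact Or.inl e
    · exact Or.inr (Or.inl (by rw [e, one_mul]))
  · -- `t f = k ∈ K`
    have kp : t * f * p = p * (t * f) := by
      calc t * f * p = t * (f * p) := by group
        _ = t * p * f := by rw [← cf p pK rfl hc]; group
        _ = p * (t * f) := by rw [← h.comm p pK]; group
    have kq : t * f * q = q * (t * f) := by
      calc t * f * q = t * (f * q) := by group
        _ = t * q * f := by rw [← cf q qK hc.symm rfl]; group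
        _ = q * (t * f) := by rw [← h.comm q qK]; group
    have ck : ∀ c ∈ K, c * p = p * c → c * q = q * c → c * (t * f) = t * f * c := by
      intro c hcK cp cq
      calc c * (t * f) = c * t * f := by group
        _ = t * (c * f) := by rw [h.comm c hcK]; group
        _ = t * f * c := by rw [cf c hcK cp cq]; group
    obtain ⟨m, hm, hfm⟩ := hK (t * f) hfK ck
    obtain ⟨c1, c2, c3⟩ := fixk (t * f) hfK kp kq
    set k := t * f with hk
    have ft : f = t * k := by rw [hk, ← mul_assoc, h.tt, one_mul]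
    have kt : k * t = t * k := h.comm k hfK
    have ym : y * m = m * y := by
      rcases hm with rfl | rfl | rfl | rfl
      · rw [mul_one, one_mul]
      · exact yp
      · exact yq
      · calc y * (p * q) = y * p * q := by group
          _ = p * (y * q) := by rw [yp]; group
          _ = p * q * y := by rw [yq]; group
    have mm : m * m = 1 := by
      rcases hm with rfl | rfl | rfl | rfl
      · exact one_mul _
      · exact pp
      · exact qq
      · calc p * q * (p * q) = p * (q * p) * q := by group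
          _ = p * p * (q * q) := by rw [← hc]; group
          _ = 1 := by rw [pp, qq, one_mul]
    have kk : k * k = 1 := by
      rcases hfm with e | e
      · rw [e, mm]
      · rw [e]
        calc m * y * (m * y) = m * (y * m) * y := by group
          _ = m * m * (y * y) := by rw [ym]; group
          _ = 1 := by rw [mm, yy, one_mul]
    have kk' : k⁻¹ = k := inv_eq_of_mul_eq_one_right kk
    -- `a_p a_q = t k a_{pq}`, `(a_p a_q)² = p q`
    have fm' : a p * a q = t * k * a (p * q) := by rw [fm, ft]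
    have sqr : a p * a q * (a p * a q) = p * q := by
      rw [fm']
      calc t * k * a (p * q) * (t * k * a (p * q)) = t * k * (a (p * q) * t) * k * a (p * q) := by group
        _ = t * k * t * (p * q) * a (p * q) * k * a (p * q) := by rw [h.a_t hpq]; group
        _ = t * (k * t) * (p * q) * (a (p * q) * k) * a (p * q) := by group
        _ = t * t * k * (p * q) * k * (a (p * q) * a (p * q)) := by rw [kt, ← c3]; group
        _ = k * (p * q) * k := by rw [h.tt, au]; group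
        _ = k * p * (q * k) := by group
        _ = p * (k * k) * q := by rw [kp, ← kq]; group
        _ = p * q := by rw [kk, mul_one]
    have flip : a p * a q = p * q * (a q * a p) := by
      rw [← sqr]
      calc a p * a q = a p * a q * a p * 1 * (a p) := by
            rw [mul_one, mul_assoc (a p * a q), ap, mul_one]
        _ = a p * a q * a p * (a q * a q) * a p := by rw [aq]
        _ = a p * a q * (a p * a q) * (a q * a p) := by group
    -- `ρ k ρ⁻¹ = k p`
    have key : ρ * k * ρ⁻¹ = k * p := by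
      have e2 : ρ * (a p * a q) * ρ⁻¹ = a q * a (p * q) := by
        calc ρ * (a p * a q) * ρ⁻¹ = ρ * a p * ρ⁻¹ * (ρ * a q * ρ⁻¹) := by group
          _ = a q * a (p * q) := by rw [q1', q2']
      rw [fm'] at e2
      have e3 : ρ * (t * k * a (p * q)) * ρ⁻¹ = t * (ρ * k * ρ⁻¹) * a p := by
        calc ρ * (t * k * a (p * q)) * ρ⁻¹ = ρ * t * ρ⁻¹ * (ρ * k * ρ⁻¹) * (ρ * a (p * q) * ρ⁻¹) := by group
          _ = _ := by rw [q3', tρ]
      rw [e3] at e2
      -- `a_{pq} = t k a_p a_q`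
      have e5 : a (p * q) = t * k * (a p * a q) := by
        rw [fm']
        calc a (p * q) = t * t * (k * k) * a (p * q) := by rw [h.tt, kk, one_mul, one_mul]
          _ = t * (t * k) * k * a (p * q) := by group
          _ = t * (k * t) * k * a (p * q) := by rw [kt]
          _ = t * k * (t * k * a (p * q)) := by group
      have e4 : a q * a (p * q) = t * (k * p) * a p := by
        rw [e5]
        calc a q * (t * k * (a p * a q)) = a q * t * k * (a p * a q) := by group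
          _ = t * q * (a q * k) * (a p * a q) := by rw [h.a_t hq]; group
          _ = t * q * k * (a q * (a p * a q)) := by rw [← c2]; group
          _ = t * q * k * (a q * (p * q * (a q * a p))) := by rw [flip]
          _ = t * q * k * (a q * p) * q * (a q * a p) := by group
          _ = t * q * k * p * (a q * q) * (a q * a p) := by rw [← h.fix q hq p pK hc]; group
          _ = t * q * k * p * q * (a q * a q) * a p := by rw [← h.av hq]; group
          _ = t * (q * (k * p) * q) * a p := by rw [aq]; group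
          _ = t * (q * p * (k * q)) * a p := by rw [kp]; group
          _ = t * (q * p * q * k) * a p := by rw [kq]; group
          _ = t * (p * (q * q) * k) * a p := by rw [← hc]; group
          _ = t * (k * p) * a p := by rw [qq, kp]; group
      rw [e4] at e2
      have e6 := mul_right_cancel e2
      exact mul_left_cancel e6
    have hmm : ρ * m * ρ⁻¹ = m * p := by
      rcases hfm with e | e
      · rw [← e]; exact key
      · have h1 : ρ * m * ρ⁻¹ * y = m * p * y := by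
          calc ρ * m * ρ⁻¹ * y = ρ * m * ρ⁻¹ * (ρ * y * ρ⁻¹) := by rw [ry]
            _ = ρ * (m * y) * ρ⁻¹ := by group
            _ = m * y * p := by rw [← e]; exact key
            _ = m * p * y := by rw [mul_assoc, yp, mul_assoc]
        exact mul_right_cancel h1
    have m1 : m = q := by
      rcases conjm m hm with ⟨e, e'⟩ | ⟨e, e'⟩ | ⟨e, e'⟩ | ⟨e, e'⟩
      · exfalso
        rw [e', e, one_mul] at hmm
        exact p1 hmm.symm
      · exfalso
        rw [e', e, pp] at hmm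
        exact q1 hmm
      · exact e
      · exfalso
        rw [e', e] at hmm
        apply npq
        calc p = p * q * p := hmm
          _ = p * (q * p) := by group
          _ = p * p * q := by rw [← hc]; group
          _ = q := by rw [pp, one_mul]
    rcases hfm with e | e
    · exact Or.inr (Or.inr (Or.inl (by rw [ft, e, m1])))
    · exact Or.inr (Or.inr (Or.inr (by rw [ft, e, m1])))

end Fam

end Cfsg.Agent.OddHalf.D8.Phi

end

-- merged: Cfsg.Agent.OddHalf.D8.Phi.RuEnd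
section

/-!
# ODD half, D8, K = Ru: the end (helper879)

`structure Facts K D z q ρ v₁ q' ρ' y y' v₂ w s u₂ u₃ u₄` lists the facts on `K` which are used; all pairs `(p, q)` below are
ordered pairs of elements of `D` (class 2A) up to conjugacy in `K`:

* `(z, q)` of type 640 with `C_K(C_K(z, q)) = ⟨z, q⟩`, cycled by `ρ`, and `v₁` such that `(z q, v₁)`, `(q, v₁)`,
  `(z, q v₁)` are of the same type;
* `(z, q')` of type 480 with `C_K(C_K(z, q')) = ⟨z, q', y⟩`, cycled by `ρ'`, `[ρ', y] = 1`, and `v₂` such that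
  `(z q', v₂)`, `(q', v₂)` are of type 640 and `(z, q', y)` is conjugate to `(z, q' v₂, y')`, `y ≠ y'`, `v₂ ≠ y y'`;
* `(z, w)` with `x = (z w)²`, the pairs `(z, x)`, `(w, x)` of type 640, `{k ∈ C_K(z, w, C_K(z, w)) | k² = 1} = {1, x}`;
* `s` such that `(z, s)` is conjugate to `(z, w)`, `(w, s)` is of type 640 and for `X = (z w s)²` the pairs `(z, X)`,
  `(w s, X)` are of type 480; `(z s)²` does not commute with `w`;
* all pairs of `z, u₂, u₃, u₄` are conjugate to `(z, w)`, and these four involutions generate `K`.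

`Facts.exists_hom`: a finite group `G` with an equivariant family has a homomorphism onto `{1, -1}` with `t ↦ -1`.
-/

set_option autoImplicit false

namespace Cfsg.Agent.OddHalf.D8.Phi.RuEnd

open Subgroup

variable {G : Type*} [Group G]

/-- the facts on `K`; see the header -/
structure Facts (K : Subgroup G) (D : Set G) (z q ρ v₁ q' ρ' y y' v₂ w s u₂ u₃ u₄ : G) : Prop where
  zD : z ∈ D
  qD : q ∈ D
  qD' : q' ∈ D
  wD : w ∈ D
  z1 : z ≠ 1
  -- type 640
  qz : z * q = q * z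
  qnz : z ≠ q
  ρK : ρ ∈ K
  ρ1 : ρ * z * ρ⁻¹ = q
  ρ2 : ρ * q * ρ⁻¹ = z * q
  cenq : ∀ k ∈ K, (∀ c ∈ K, c * z = z * c → c * q = q * c → c * k = k * c) →
    k = 1 ∨ k = z ∨ k = q ∨ k = z * q
  e1 : PC K z q (z * q) v₁
  e2 : PC K z q q v₁
  e3 : PC K z q z (q * v₁)
  v₁z : v₁ ≠ z
  -- type 480
  qz' : z * q' = q' * z
  qnz' : z ≠ q'
  ρK' : ρ' ∈ K
  ρ1' : ρ' * z * ρ'⁻¹ = q'
  ρ2' : ρ' * q' * ρ'⁻¹ = z * q'
  yy : y * y = 1
  yz : y * z = z * y
  yq' : y * q' = q' * y
  ρy : ρ' * y * ρ'⁻¹ = y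
  cenq' : ∀ k ∈ K, (∀ c ∈ K, c * z = z * c → c * q' = q' * c → c * k = k * c) →
    ∃ m : G, (m = 1 ∨ m = z ∨ m = q' ∨ m = z * q') ∧ (k = m ∨ k = m * y)
  f1 : PC K z q (z * q') v₂
  f2 : PC K z q q' v₂
  f3 : TC K z q' y z (q' * v₂) y'
  yy' : y ≠ y'
  v₂y : v₂ ≠ y * y'
  -- the pair `(z, w)` of type 5120
  lz : PC K z q z (z * w * (z * w))
  lw : PC K z q w (z * w * (z * w))
  cenw : ∀ k ∈ K, k * k = 1 → k * z = z * k → k * w = w * k →
    (∀ c ∈ K, c * z = z * c → c * w = w * c → c * k = k * c) → k = 1 ∨ k = z * w * (z * w)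
  -- the kill
  ps : PC K z w z s
  ws : PC K z q w s
  nz : PC K z q' z (z * (w * s) * (z * (w * s)))
  nw : PC K z q' (w * s) (z * (w * s) * (z * (w * s)))
  kill : z * s * (z * s) * w ≠ w * (z * s * (z * s))
  -- the clique
  c12 : PC K z w z u₂
  c13 : PC K z w z u₃
  c14 : PC K z w z u₄
  c23 : PC K z w u₂ u₃
  c24 : PC K z w u₂ u₄
  c34 : PC K z w u₃ u₄
  gen : closure ({z, u₂, u₃, u₄} : Set G) = K
  cen : ∀ k ∈ K, (∀ c ∈ K, k * c = c * k) → k = 1

namespace Facts

variable {t : G} {K : Subgroup G} {D : Set G} {a : G → G} {z q ρ v₁ q' ρ' y y' v₂ w s u₂ u₃ u₄ : G}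

theorem q1 (C : Facts K D z q ρ v₁ q' ρ' y y' v₂ w s u₂ u₃ u₄) : q ≠ 1 := by
  intro e
  have h := C.ρ1
  rw [e] at h
  apply C.z1
  calc z = ρ⁻¹ * (ρ * z * ρ⁻¹) * ρ := by group
    _ = 1 := by rw [h]; group

theorem q1' (C : Facts K D z q ρ v₁ q' ρ' y y' v₂ w s u₂ u₃ u₄) : q' ≠ 1 := by
  intro e
  have h := C.ρ1'
  rw [e] at h
  apply C.z1
  calc z = ρ'⁻¹ * (ρ' * z * ρ'⁻¹) * ρ' := by group
    _ = 1 := by rw [h]; group

theorem zqD (h : Fam t K D a) (C : Facts K D z q ρ v₁ q' ρ' y y' v₂ w s u₂ u₃ u₄) : z * q ∈ D := by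
  rw [← C.ρ2]
  exact h.conj q C.qD ρ C.ρK

theorem zqD' (h : Fam t K D a) (C : Facts K D z q ρ v₁ q' ρ' y y' v₂ w s u₂ u₃ u₄) : z * q' ∈ D := by
  rw [← C.ρ2']
  exact h.conj q' C.qD' ρ' C.ρK'

theorem t1 (h : Fam t K D a) : t ≠ 1 := fun e => h.tK (by rw [e]; exact K.one_mem)

/-- the lines of type 640 are exact -/
theorem dl640 (h : Fam t K D a) (C : Facts K D z q ρ v₁ q' ρ' y y' v₂ w s u₂ u₃ u₄) : dl a z q = 1 := by
  have zqD := C.zqD h
  have key := h.dl_cases (y := 1) C.zD C.qD zqD C.qz C.z1 C.q1 C.qnz C.ρK C.ρ1 C.ρ2 (one_mul _)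
    (by rw [one_mul, mul_one]) (by rw [one_mul, mul_one]) (by group) fun k hk hc => by
      rcases C.cenq k hk hc with e | e | e | e
      · exact ⟨1, Or.inl rfl, Or.inl e⟩
      · exact ⟨z, Or.inr (Or.inl rfl), Or.inl e⟩
      · exact ⟨q, Or.inr (Or.inr (Or.inl rfl)), Or.inl e⟩
      · exact ⟨z * q, Or.inr (Or.inr (Or.inr rfl)), Or.inl e⟩
  rw [mul_one] at key
  rcases key with e | e | e | e
  · exact e
  · exact e
  all_goals
    exfalso
    -- the defect of every line of type 640 is `t` times its second member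
    have all : ∀ {p' r' : G}, PC K z q p' r' → dl a p' r' = t * r' := by
      rintro p' r' ⟨g, hg, rfl, rfl⟩
      rw [h.dl_conj C.zD C.qD zqD hg, e]
      calc g * (t * q) * g⁻¹ = g * t * q * g⁻¹ := by group
        _ = t * (g * q * g⁻¹) := by rw [h.comm g hg]; group
    have hv₁D : v₁ ∈ D := h.D_PC' C.e2 C.qD
    have hqvD : q * v₁ ∈ D := h.D_PC' C.e3 C.qD
    have E := h.dl_assoc (u := z) (w := q) (v := v₁) C.zD zqD hqvD
    rw [e, all C.e1, all C.e2, all C.e3] at E
    have qv : q * v₁ = v₁ * q := Fam.comm_PC C.e2 C.qz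
    have zqv : z * q * v₁ = v₁ * (z * q) := Fam.comm_PC C.e1 C.qz
    have zv : z * v₁ = v₁ * z := by
      have h1 : z * v₁ * q = v₁ * z * q := by
        calc z * v₁ * q = z * (q * v₁) := by rw [qv]; group
          _ = z * q * v₁ := by group
          _ = v₁ * z * q := by rw [zqv]; group
      exact mul_right_cancel h1
    have qt : q * t = t * q := h.comm q (h.DK q C.qD)
    have v₁t : v₁ * t = t * v₁ := h.comm v₁ (h.DK _ hv₁D)
    have av : a z * v₁ = v₁ * a z := (h.fix z C.zD v₁ (h.DK _ hv₁D) zv.symm).symm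
    have L : t * q * (t * v₁) = q * v₁ := by
      calc t * q * (t * v₁) = t * (q * t) * v₁ := by group
        _ = t * t * q * v₁ := by rw [qt]; group
        _ = q * v₁ := by rw [h.tt, one_mul]
    have R : a z * (t * v₁) * a z * (t * (q * v₁)) = z * q := by
      calc a z * (t * v₁) * a z * (t * (q * v₁)) = a z * t * (v₁ * a z) * (t * (q * v₁)) := by group
        _ = (a z * t * a z) * (v₁ * t) * (q * v₁) := by rw [← av]; group
        _ = t * z * t * v₁ * (q * v₁) := by rw [h.swap z C.zD, v₁t]; group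
        _ = t * (z * t) * v₁ * (v₁ * q) := by rw [qv]; group
        _ = t * t * z * (v₁ * v₁) * q := by rw [h.comm z (h.DK z C.zD)]; group
        _ = z * q := by rw [h.tt, h.sq _ hv₁D]; group
    rw [L, R] at E
    apply C.v₁z
    have h1 : v₁ * q = z * q := by rw [← qv, E]
    exact mul_right_cancel h1

theorem dl_of_PC (h : Fam t K D a) (C : Facts K D z q ρ v₁ q' ρ' y y' v₂ w s u₂ u₃ u₄) {p r : G}
    (e : PC K z q p r) : dl a p r = 1 := by
  obtain ⟨g, hg, rfl, rfl⟩ := e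
  rw [h.dl_conj C.zD C.qD (C.zqD h) hg, C.dl640 h]
  group

/-- the lines of type 480 are exact -/
theorem dl480 (h : Fam t K D a) (C : Facts K D z q ρ v₁ q' ρ' y y' v₂ w s u₂ u₃ u₄) : dl a z q' = 1 := by
  have zqD' := C.zqD' h
  have hv₂D : v₂ ∈ D := h.D_PC' C.f2 C.qD
  obtain ⟨g, hg, g1, g2, g3⟩ := C.f3
  have hqvD : q' * v₂ ∈ D := by
    rw [← g2]
    exact h.conj q' C.qD' g hg
  -- the cocycle identity
  have E := h.dl_assoc (u := z) (w := q') (v := v₂) C.zD zqD' hqvD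
  rw [C.dl_of_PC h C.f1, C.dl_of_PC h C.f2, mul_one, mul_one, h.aa z C.zD, one_mul] at E
  have E' : dl a z q' = g * dl a z q' * g⁻¹ := by
    conv_lhs => rw [E]
    rw [← h.dl_conj C.zD C.qD' zqD' hg, g1, g2]
  have key := h.dl_cases C.zD C.qD' zqD' C.qz' C.z1 C.q1' C.qnz' C.ρK' C.ρ1' C.ρ2' C.yy C.yz C.yq' C.ρy C.cenq'
  have gt : g * t * g⁻¹ = t := by rw [h.comm g hg]; group
  have v₂1 : v₂ ≠ 1 := by
    intro e
    obtain ⟨l, hl, -, l2⟩ := C.f2
    apply C.q1
    calc q = l⁻¹ * (l * q * l⁻¹) * l := by group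
      _ = 1 := by rw [l2, e]; group
  rcases key with e | e | e | e
  · exact e
  · exfalso
    rw [e, g3] at E'
    exact C.yy' E'
  · exfalso
    rw [e] at E'
    have h1 : t * q' = t * (q' * v₂) := by
      calc t * q' = g * (t * q') * g⁻¹ := E'
        _ = g * t * g⁻¹ * (g * q' * g⁻¹) := by group
        _ = t * (q' * v₂) := by rw [gt, g2]
    have h2 : q' = q' * v₂ := mul_left_cancel h1
    exact v₂1 (mul_eq_left.1 h2.symm)
  · exfalso
    rw [e] at E'
    have h1 : t * (q' * y) = t * (q' * (v₂ * y')) := by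
      calc t * (q' * y) = g * (t * (q' * y)) * g⁻¹ := E'
        _ = g * t * g⁻¹ * (g * q' * g⁻¹) * (g * y * g⁻¹) := by group
        _ = t * (q' * (v₂ * y')) := by rw [gt, g2, g3]; group
    have h2 : y = v₂ * y' := mul_left_cancel (mul_left_cancel h1)
    apply C.v₂y
    have h3 : y' * y' = 1 := by
      rw [← g3]
      calc g * y * g⁻¹ * (g * y * g⁻¹) = g * (y * y) * g⁻¹ := by group
        _ = 1 := by rw [C.yy]; group
    calc v₂ = v₂ * (y' * y') := by rw [h3, mul_one]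
      _ = v₂ * y' * y' := by group
      _ = y * y' := by rw [← h2]

theorem line640 (h : Fam t K D a) (C : Facts K D z q ρ v₁ q' ρ' y y' v₂ w s u₂ u₃ u₄) {p r : G}
    (e : PC K z q p r) : p ∈ D ∧ r ∈ D ∧ p * r ∈ D ∧ p * r = r * p ∧ a (p * r) = a p * a r := by
  have h1 := h.D_PCm e (C.zqD h)
  refine ⟨h.D_PC e C.zD, h.D_PC' e C.qD, h1, Fam.comm_PC e C.qz, ?_⟩
  rw [h.dl_mul h1, C.dl_of_PC h e, one_mul]

theorem line480 (h : Fam t K D a) (C : Facts K D z q ρ v₁ q' ρ' y y' v₂ w s u₂ u₃ u₄) {p r : G}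
    (e : PC K z q' p r) : p ∈ D ∧ r ∈ D ∧ p * r ∈ D ∧ p * r = r * p ∧ a (p * r) = a p * a r := by
  have h1 := h.D_PCm e (C.zqD' h)
  refine ⟨h.D_PC e C.zD, h.D_PC' e C.qD', h1, Fam.comm_PC e C.qz', ?_⟩
  have h2 : dl a p r = 1 := by
    obtain ⟨g, hg, rfl, rfl⟩ := e
    rw [h.dl_conj C.zD C.qD' (C.zqD' h) hg, C.dl480 h]
    group
  rw [h.dl_mul h1, h2, one_mul]

/-- `(z, w)` is good -/
theorem good_zw (h : Fam t K D a) (C : Facts K D z q ρ v₁ q' ρ' y y' v₂ w s u₂ u₃ u₄) : Good a z w := by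
  obtain ⟨-, xD, mz, hzx, lz⟩ := C.line640 h C.lz
  obtain ⟨-, -, mw, hwx, lw⟩ := C.line640 h C.lw
  have x1 : z * w * (z * w) ≠ 1 := by
    intro e
    obtain ⟨g, -, -, g2⟩ := C.lz
    apply C.q1
    calc q = g⁻¹ * (g * q * g⁻¹) * g := by group
      _ = 1 := by rw [g2, e]; group
  obtain ⟨FK, FF, Fz, Fw, Fc⟩ := h.F_mem C.zD C.wD xD rfl x1 hzx hwx lz lw mz mw
  rw [h.good_iff C.zD C.wD]
  rcases C.cenw _ FK FF Fz Fw Fc with e | e
  · exact e
  · exfalso
    -- the pair `(z, s)`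
    obtain ⟨g, hg, g1, g2⟩ := C.ps
    have sD : s ∈ D := by rw [← g2]; exact h.conj w C.wD g hg
    have Fs : F a z s = z * s * (z * s) := by
      calc F a z s = F a (g * z * g⁻¹) (g * w * g⁻¹) := by rw [g1, g2]
        _ = g * (z * w * (z * w)) * g⁻¹ := by rw [h.F_conj C.zD C.wD hg, e]
        _ = g * z * g⁻¹ * (g * w * g⁻¹) * (g * z * g⁻¹ * (g * w * g⁻¹)) := by group
        _ = z * s * (z * s) := by rw [g1, g2]
    have FsK : F a z s ∈ K := by
      rw [Fs]
      have h1 := mul_mem (h.DK z C.zD) (h.DK s sD)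
      exact mul_mem h1 h1
    -- the pair `(z, w s)`
    obtain ⟨-, -, wsD, hws, lws⟩ := C.line640 h C.ws
    obtain ⟨-, XD, mz', hzX, lz'⟩ := C.line480 h C.nz
    obtain ⟨-, -, mw', hwX, lw'⟩ := C.line480 h C.nw
    have X1 : z * (w * s) * (z * (w * s)) ≠ 1 := by
      intro e'
      obtain ⟨g', -, -, g2'⟩ := C.nz
      apply C.q1'
      calc q' = g'⁻¹ * (g' * q' * g'⁻¹) * g' := by group
        _ = 1 := by rw [g2', e']; group
    have FwsK := (h.F_mem C.zD wsD XD rfl X1 hzX hwX lz' lw' mz' mw').1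
    have key := h.norm_comm C.zD C.wD sD wsD hws lws FK FsK FwsK
    rw [Fs] at key
    exact C.kill key

theorem good_of_PC (h : Fam t K D a) (C : Facts K D z q ρ v₁ q' ρ' y y' v₂ w s u₂ u₃ u₄) {p r : G}
    (e : PC K z w p r) : p ∈ D ∧ r ∈ D ∧ Good a p r ∧ Good a r p := by
  have h1 := h.D_PC e C.zD
  have h2 := h.D_PC' e C.wD
  have h3 : Good a p r := by
    obtain ⟨g, hg, rfl, rfl⟩ := e
    exact h.good_conj C.zD C.wD hg (C.good_zw h)
  exact ⟨h1, h2, h3, h.good_symm h1 h2 h3⟩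

/-- **the end for `K = Ru`** -/
theorem exists_hom [Finite G] (h : Fam t K D a) (C : Facts K D z q ρ v₁ q' ρ' y y' v₂ w s u₂ u₃ u₄) :
    ∃ m : G →* ℤˣ, m t = -1 := by
  obtain ⟨-, u₂D, g12, g21⟩ := C.good_of_PC h C.c12
  obtain ⟨-, u₃D, g13, g31⟩ := C.good_of_PC h C.c13
  obtain ⟨-, u₄D, g14, g41⟩ := C.good_of_PC h C.c14
  obtain ⟨-, -, g23, g32⟩ := C.good_of_PC h C.c23
  obtain ⟨-, -, g24, g42⟩ := C.good_of_PC h C.c24
  obtain ⟨-, -, g34, g43⟩ := C.good_of_PC h C.c34
  have g11 := h.good_self C.zD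
  have g22 := h.good_self u₂D
  have g33 := h.good_self u₃D
  have g44 := h.good_self u₄D
  refine h.exists_hom_of_clique (D₀ := {z, u₂, u₃, u₄}) ?_ ?_ C.gen C.cen ?_
  · rintro v (rfl | rfl | rfl | rfl)
    · exact C.zD
    · exact u₂D
    · exact u₃D
    · exact u₄D
  · rintro v (rfl | rfl | rfl | rfl) r (rfl | rfl | rfl | rfl) <;> assumption
  · refine ⟨z, h.DK z C.zD, w, h.DK w C.wD, ?_⟩
    intro e
    obtain ⟨g, -, -, g2⟩ := C.lz
    apply C.q1
    have ww := h.sq w C.wD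
    calc q = g⁻¹ * (g * q * g⁻¹) * g := by group
      _ = g⁻¹ * (z * w * (z * w)) * g := by rw [g2]
      _ = g⁻¹ * (z * (w * z) * w) * g := by group
      _ = g⁻¹ * (z * z * (w * w)) * g := by rw [← e]; group
      _ = 1 := by rw [h.sq z C.zD, ww]; group

/-- transport along an injective homomorphism -/
theorem map {X : Type*} [Group X] {D : Set X} {z q ρ v₁ q' ρ' y y' v₂ w s u₂ u₃ u₄ : X}
    (C : Facts (⊤ : Subgroup X) D z q ρ v₁ q' ρ' y y' v₂ w s u₂ u₃ u₄) (f : X →* G)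
    (hf : Function.Injective f) :
    Facts f.range (f '' D) (f z) (f q) (f ρ) (f v₁) (f q') (f ρ') (f y) (f y') (f v₂) (f w) (f s) (f u₂)
      (f u₃) (f u₄) := by
  have mp : ∀ {p r p' r' : X}, PC ⊤ p r p' r' → PC f.range (f p) (f r) (f p') (f r') := by
    rintro p r p' r' ⟨g, -, rfl, rfl⟩
    exact ⟨f g, ⟨g, rfl⟩, by simp, by simp⟩
  have mt : ∀ {p r x p' r' x' : X}, TC ⊤ p r x p' r' x' → TC f.range (f p) (f r) (f x) (f p') (f r') (f x') := by
    rintro p r x p' r' x' ⟨g, -, rfl, rfl, rfl⟩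
    exact ⟨f g, ⟨g, rfl⟩, by simp, by simp, by simp⟩
  have mc : ∀ {p r k : X}, (∀ c ∈ f.range, c * f p = f p * c → c * f r = f r * c → c * f k = f k * c) →
      ∀ c ∈ (⊤ : Subgroup X), c * p = p * c → c * r = r * c → c * k = k * c := by
    intro p r k hk c _ c1 c2
    apply hf
    rw [map_mul, map_mul]
    exact hk (f c) ⟨c, rfl⟩ (by rw [← map_mul, c1, map_mul]) (by rw [← map_mul, c2, map_mul])
  refine ⟨⟨z, C.zD, rfl⟩, ⟨q, C.qD, rfl⟩, ⟨q', C.qD', rfl⟩, ⟨w, C.wD, rfl⟩, ?_, ?_, ?_, ⟨ρ, rfl⟩, ?_, ?_, ?_, ?_,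
    mp C.e2, ?_, ?_, ?_, ?_, ⟨ρ', rfl⟩, ?_, ?_, ?_, ?_, ?_, ?_, ?_, ?_, mp C.f2, ?_, ?_, ?_, ?_, ?_, ?_, mp C.ps,
    mp C.ws, ?_, ?_, ?_, mp C.c12, mp C.c13, mp C.c14, mp C.c23, mp C.c24, mp C.c34, ?_, ?_⟩
  · exact fun e => C.z1 (hf (by rw [e, map_one]))
  · rw [← map_mul, C.qz, map_mul]
  · exact fun e => C.qnz (hf e)
  · rw [← map_mul, ← map_inv, ← map_mul, C.ρ1]
  · rw [← map_mul, ← map_inv, ← map_mul, C.ρ2, map_mul]
  · rintro _ ⟨k, rfl⟩ hk
    rcases C.cenq k (mem_top k) (mc hk) with rfl | rfl | rfl | rfl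
    · exact Or.inl (map_one f)
    · exact Or.inr (Or.inl rfl)
    · exact Or.inr (Or.inr (Or.inl rfl))
    · exact Or.inr (Or.inr (Or.inr (map_mul f _ _)))
  · rw [← map_mul]; exact mp C.e1
  · rw [← map_mul]; exact mp C.e3
  · exact fun e => C.v₁z (hf e)
  · rw [← map_mul, C.qz', map_mul]
  · exact fun e => C.qnz' (hf e)
  · rw [← map_mul, ← map_inv, ← map_mul, C.ρ1']
  · rw [← map_mul, ← map_inv, ← map_mul, C.ρ2', map_mul]
  · rw [← map_mul, C.yy, map_one]
  · rw [← map_mul, C.yz, map_mul]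
  · rw [← map_mul, C.yq', map_mul]
  · rw [← map_mul, ← map_inv, ← map_mul, C.ρy]
  · rintro _ ⟨k, rfl⟩ hk
    obtain ⟨m, hm, hk⟩ := C.cenq' k (mem_top k) (mc hk)
    refine ⟨f m, ?_, ?_⟩
    · rcases hm with rfl | rfl | rfl | rfl
      · exact Or.inl (map_one f)
      · exact Or.inr (Or.inl rfl)
      · exact Or.inr (Or.inr (Or.inl rfl))
      · exact Or.inr (Or.inr (Or.inr (map_mul f _ _)))
    · rcases hk with rfl | rfl
      · exact Or.inl rfl
      · exact Or.inr (map_mul f _ _)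
  · rw [← map_mul]; exact mp C.f1
  · rw [← map_mul]; exact mt C.f3
  · exact fun e => C.yy' (hf e)
  · intro e
    rw [← map_mul] at e
    exact C.v₂y (hf e)
  · rw [← map_mul, ← map_mul]; exact mp C.lz
  · rw [← map_mul, ← map_mul]; exact mp C.lw
  · rintro _ ⟨k, rfl⟩ h1 h2 h3 hk
    rw [← map_mul, ← map_one f] at h1
    rw [← map_mul, ← map_mul] at h2 h3
    rcases C.cenw k (mem_top k) (hf h1) (hf h2) (hf h3) (mc hk) with rfl | rfl
    · exact Or.inl (map_one f)
    · right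
      rw [map_mul, map_mul]
  · rw [← map_mul, ← map_mul, ← map_mul]; exact mp C.nz
  · rw [← map_mul, ← map_mul, ← map_mul]; exact mp C.nw
  · intro e
    apply C.kill
    apply hf
    simpa only [map_mul] using e
  · have h1 := congrArg (Subgroup.map f) C.gen
    rw [MonoidHom.map_closure, ← MonoidHom.range_eq_map] at h1
    rw [← h1]
    congr 1
    simp only [Set.image_insert_eq, Set.image_singleton]
  · rintro _ ⟨k, rfl⟩ hk
    rw [← map_one f]
    congr 1
    refine C.cen k (mem_top k) fun c _ => hf ?_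
    rw [map_mul, map_mul]
    exact hk (f c) ⟨c, rfl⟩

end Facts

end Cfsg.Agent.OddHalf.D8.Phi.RuEnd

end
end

-- part: KFacts/Ru/EndWords
section
/-!
# ODD half, D8, K = Ru: the words of `RuEnd.Facts` on the model `RuOrder.H`

All fields of `RuEnd.Facts` except the three centralisers `cenq`, `cenq'`, `cenw`; words by helper879.
-/

set_option autoImplicit false
set_option maxRecDepth 100000
set_option exponentiation.threshold 5000

namespace Cfsg.Agent.KFacts.Ru.EndWords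

open Cfsg.Agent.SporadicB Cfsg.Agent.RuD.Letters Cfsg.Agent.SporRec.TCUpperCert Cfsg.Agent.SporRec.R3.Kernel
open Cfsg.Agent.KFacts.Ru.ConjWord Cfsg.Agent.OddHalf.D8.Phi Cfsg.Agent.OddHalf.D8.Phi.RuEnd

/-- `g W g⁻¹` -/
def byw (g : List ℕ) : List ℕ := g ++ [2] ++ iw g

/-- the value of a word -/
def hw (u : List ℕ) : RuOrder.H := wprod ml u

theorem hw_append (u v : List ℕ) : hw (u ++ v) = hw u * hw v := wprod_append _ _ _

theorem hw_iw (u : List ℕ) : hw (iw u) = (hw u)⁻¹ := wprod_iw u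

/-! ### words -/

/-- `z` -/
def zw : List ℕ := [2]
/-- conjugating word of `q` -/
def qg : List ℕ := [7, 5, 3, 8, 0, 5, 3]
/-- `q` -/
def qw : List ℕ := byw qg
/-- `ρ` -/
def rw_ : List ℕ := [5, 0, 7, 7, 6, 3, 5, 3, 0, 8, 6, 3, 1]
/-- `v₁` -/
def v1w : List ℕ := byw [6, 4, 5, 7, 1]
def e1w : List ℕ := [7, 5, 7, 5, 1, 7, 6, 2, 1, 3, 1, 7, 5]
def e2w : List ℕ := [7, 5, 3, 5, 1, 2, 6, 3, 4, 0, 5, 1, 1, 7]
def e3w : List ℕ := [8, 0, 5, 0, 4, 1, 2, 1, 1]
/-- conjugating word of `q'` -/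
def q2g : List ℕ := [6, 3, 5, 3, 1]
/-- `q'` -/
def q2w : List ℕ := byw q2g
/-- `ρ'` -/
def r2w : List ℕ := [0, 1, 2, 1, 3, 5, 0, 4, 7, 1, 0]
/-- `y` -/
def yw : List ℕ := byw [6, 3, 1]
/-- `y'` -/
def y2w : List ℕ := byw [6, 3, 3, 1]
/-- `v₂` -/
def v2w : List ℕ := byw [6, 7, 5, 7, 1]
def f1w : List ℕ := [3, 6, 6, 5, 3, 5, 4, 7, 0, 5, 3, 1, 1]
def f2w : List ℕ := [6, 3, 5, 3, 5, 7, 2, 1, 7, 2, 1]
def f3w : List ℕ := [6, 2, 8, 5, 0, 3, 1, 7, 4, 5, 2, 1]
/-- conjugating word of `w` -/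
def wg : List ℕ := [3, 5, 3, 5, 7]
/-- `w` -/
def ww : List ℕ := byw wg
def lzw : List ℕ := [6, 2, 7, 1, 2, 7, 5, 0, 8, 1]
def lww : List ℕ := [0, 3, 1, 2, 7, 6, 7, 7, 6, 5, 3, 6, 3, 5, 4]
/-- `s` -/
def sw : List ℕ := byw [4, 3, 6, 5, 7, 5, 3]
def psw : List ℕ := [6, 2, 6, 7, 6, 3, 2, 1]
def wsw : List ℕ := [2, 6, 4, 3, 5, 1, 7, 5, 4, 7, 0]
def nzw : List ℕ := [0, 6, 2, 5, 7, 6, 3, 8, 0, 5, 2, 1]
def nww : List ℕ := [6, 8, 7, 5, 0, 8, 3, 5, 7, 6, 2, 6, 0]
/-- `u₃` -/
def u3w : List ℕ := byw [5, 7, 2, 6, 5, 7, 5, 3]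
/-- `u₄` -/
def u4w : List ℕ := byw [4, 7, 5, 7, 6, 7, 5, 7]
def c13w : List ℕ := [6, 2, 5, 8, 1, 7, 6, 3, 2, 1]
def c14w : List ℕ := [0, 6, 2, 1, 4, 7, 6, 3, 2, 1]
def c23w : List ℕ := [3, 5, 3, 5, 7, 6, 4, 7, 1, 2, 6, 3, 0, 4, 1]
def c24w : List ℕ := [3, 5, 3, 5, 7, 6, 5, 2, 1, 7, 6, 3, 5, 2, 1]
def c34w : List ℕ := [5, 1, 7, 8, 0, 5, 3, 6, 2, 6, 5, 7, 6, 4]

/-- `(z w)²` -/
def xw : List ℕ := zw ++ ww ++ (zw ++ ww)
/-- `(z w s)²` -/
def nw : List ℕ := zw ++ (ww ++ sw) ++ (zw ++ (ww ++ sw))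

/-! ### equalities -/

theorem chk_qz : chkRel [eqr (zw ++ qw) (qw ++ zw)] = true := by
  rw [RuFast.chkRel_eq]
  decide +kernel
theorem chk_r1 : chkRel [cj rw_ zw qw] = true := by
  rw [RuFast.chkRel_eq]
  decide +kernel
theorem chk_r2 : chkRel [cj rw_ qw (zw ++ qw)] = true := by
  rw [RuFast.chkRel_eq]
  decide +kernel
theorem chk_q2z : chkRel [eqr (zw ++ q2w) (q2w ++ zw)] = true := by
  rw [RuFast.chkRel_eq]
  decide +kernel
theorem chk_s1 : chkRel [cj r2w zw q2w] = true := by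
  rw [RuFast.chkRel_eq]
  decide +kernel
theorem chk_s2 : chkRel [cj r2w q2w (zw ++ q2w)] = true := by
  rw [RuFast.chkRel_eq]
  decide +kernel
theorem chk_yy : chkRel [eqr (yw ++ yw) []] = true := by
  rw [RuFast.chkRel_eq]
  decide +kernel
theorem chk_yz : chkRel [eqr (yw ++ zw) (zw ++ yw)] = true := by
  rw [RuFast.chkRel_eq]
  decide +kernel
theorem chk_yq : chkRel [eqr (yw ++ q2w) (q2w ++ yw)] = true := by
  rw [RuFast.chkRel_eq]
  decide +kernel
theorem chk_ry : chkRel [cj r2w yw yw] = true := by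
  rw [RuFast.chkRel_eq]
  decide +kernel
theorem chk_f3y : chkRel [cj f3w yw y2w] = true := by
  rw [RuFast.chkRel_eq]
  decide +kernel

theorem chk_e1 : chkRel [cj e1w zw (zw ++ qw), cj e1w qw v1w] = true := by
  rw [RuFast.chkRel_eq]
  decide +kernel
theorem chk_e2 : chkRel [cj e2w zw qw, cj e2w qw v1w] = true := by
  rw [RuFast.chkRel_eq]
  decide +kernel
theorem chk_e3 : chkRel [cj e3w zw zw, cj e3w qw (qw ++ v1w)] = true := by
  rw [RuFast.chkRel_eq]
  decide +kernel
theorem chk_f1 : chkRel [cj f1w zw (zw ++ q2w), cj f1w qw v2w] = true := by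
  rw [RuFast.chkRel_eq]
  decide +kernel
theorem chk_f2 : chkRel [cj f2w zw q2w, cj f2w qw v2w] = true := by
  rw [RuFast.chkRel_eq]
  decide +kernel
theorem chk_f3 : chkRel [cj f3w zw zw, cj f3w q2w (q2w ++ v2w)] = true := by
  rw [RuFast.chkRel_eq]
  decide +kernel
theorem chk_lz : chkRel [cj lzw zw zw, cj lzw qw xw] = true := by
  rw [RuFast.chkRel_eq]
  decide +kernel
theorem chk_lw : chkRel [cj lww zw ww, cj lww qw xw] = true := by
  rw [RuFast.chkRel_eq]
  decide +kernel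
theorem chk_ps : chkRel [cj psw zw zw, cj psw ww sw] = true := by
  rw [RuFast.chkRel_eq]
  decide +kernel
theorem chk_ws : chkRel [cj wsw zw ww, cj wsw qw sw] = true := by
  rw [RuFast.chkRel_eq]
  decide +kernel
theorem chk_nz : chkRel [cj nzw zw zw, cj nzw q2w nw] = true := by
  rw [RuFast.chkRel_eq]
  decide +kernel
theorem chk_nw : chkRel [cj nww zw (ww ++ sw), cj nww q2w nw] = true := by
  rw [RuFast.chkRel_eq]
  decide +kernel
theorem chk_c13 : chkRel [cj c13w zw zw, cj c13w ww u3w] = true := by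
  rw [RuFast.chkRel_eq]
  decide +kernel
theorem chk_c14 : chkRel [cj c14w zw zw, cj c14w ww u4w] = true := by
  rw [RuFast.chkRel_eq]
  decide +kernel
theorem chk_c23 : chkRel [cj c23w zw ww, cj c23w ww u3w] = true := by
  rw [RuFast.chkRel_eq]
  decide +kernel
theorem chk_c24 : chkRel [cj c24w zw ww, cj c24w ww u4w] = true := by
  rw [RuFast.chkRel_eq]
  decide +kernel
theorem chk_c34 : chkRel [cj c34w zw u3w, cj c34w ww u4w] = true := by
  rw [RuFast.chkRel_eq]
  decide +kernel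

theorem pc {g p q p' q' : List ℕ} (h : chkRel [cj g p p', cj g q q'] = true) :
    PC (⊤ : Subgroup RuOrder.H) (hw p) (hw q) (hw p') (hw q') :=
  ⟨hw g, Subgroup.mem_top _, pc_of h⟩

theorem eqt {p q : List ℕ} (h : chkRel [eqr p q] = true) : hw p = hw q := eq_of (rel_of_chk h _ (by simp))

theorem cjt {g p q : List ℕ} (h : chkRel [cj g p q] = true) : hw g * hw p * (hw g)⁻¹ = hw q :=
  conj_of (rel_of_chk h _ (by simp))

/-! ### inequalities -/

theorem ne_z1 : hw zw ≠ 1 := ne_of (q := []) 0 (by decide +kernel)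
theorem ne_zq : hw zw ≠ hw qw := ne_of 0 (by decide +kernel)
theorem ne_v1z : hw v1w ≠ hw zw := ne_of 0 (by decide +kernel)
theorem ne_zq2 : hw zw ≠ hw q2w := ne_of 0 (by decide +kernel)
theorem ne_yy : hw yw ≠ hw y2w := ne_of 0 (by decide +kernel)
theorem ne_v2y : hw v2w ≠ hw (yw ++ y2w) := ne_of 0 (by decide +kernel)
theorem ne_kill : hw (zw ++ sw ++ (zw ++ sw) ++ ww) ≠ hw (ww ++ (zw ++ sw ++ (zw ++ sw))) :=
  ne_of 0 (by decide +kernel)

/-! ### generation -/

/-- expansion of a word in `z, w, u₃, u₄` -/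
def ex (u : List ℕ) : List ℕ := u.flatMap fun a => [zw, ww, u3w, u4w].getD a []

/-- the letters as words in `z, w, u₃, u₄` -/
def gl : List (List ℕ) := [
  [0, 1, 0, 1, 2, 3, 1, 3, 0, 1, 2, 1, 2, 0, 3, 1, 0, 1, 2, 3, 1, 0, 3, 0, 1, 0, 2],
  [0, 3, 2, 1, 0, 1, 2, 3, 1, 2, 3, 1, 3, 0, 2, 1, 3, 0, 3, 2, 3, 1],
  [0],
  [0, 3, 2, 0, 2, 3, 0, 2, 1, 0, 3, 2, 3, 0, 1, 2, 0, 3, 2, 0, 2, 3],
  [1, 0, 1, 2, 3, 2, 3, 1, 2, 0, 3, 1, 3, 0, 2, 1, 2, 3, 2, 0, 3, 0],
  [0, 2, 0, 3, 2, 3, 1, 2, 0, 2, 3, 1, 2, 1, 0, 3, 2, 0, 1, 3, 0, 1, 3, 1, 0, 1, 2]]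

theorem chk_g0 : chkRel [eqr [0] (ex (gl.getD 0 []))] = true := by
  rw [RuFast.chkRel_eq]
  decide +kernel
theorem chk_g1 : chkRel [eqr [1] (ex (gl.getD 1 []))] = true := by
  rw [RuFast.chkRel_eq]
  decide +kernel
theorem chk_g2 : chkRel [eqr [2] (ex (gl.getD 2 []))] = true := by
  rw [RuFast.chkRel_eq]
  decide +kernel
theorem chk_g3 : chkRel [eqr [3] (ex (gl.getD 3 []))] = true := by
  rw [RuFast.chkRel_eq]
  decide +kernel
theorem chk_g4 : chkRel [eqr [4] (ex (gl.getD 4 []))] = true := by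
  rw [RuFast.chkRel_eq]
  decide +kernel
theorem chk_g5 : chkRel [eqr [5] (ex (gl.getD 5 []))] = true := by
  rw [RuFast.chkRel_eq]
  decide +kernel

/-- the group generated by the four involutions -/
def C : Subgroup RuOrder.H := Subgroup.closure ({hw zw, hw ww, hw u3w, hw u4w} : Set RuOrder.H)

theorem hw_ex (u : List ℕ) : hw (ex u) ∈ C := by
  induction u with
  | nil => exact one_mem _
  | cons a u ih =>
    have e : ex (a :: u) = [zw, ww, u3w, u4w].getD a [] ++ ex u := rfl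
    rw [e, hw_append]
    refine mul_mem ?_ ih
    rcases lt_or_ge a 4 with h | h
    · apply Subgroup.subset_closure
      interval_cases a
      · exact Or.inl rfl
      · exact Or.inr (Or.inl rfl)
      · exact Or.inr (Or.inr (Or.inl rfl))
      · exact Or.inr (Or.inr (Or.inr rfl))
    · rw [List.getD_eq_default _ _ h]
      exact one_mem _

theorem letter_mem {a : ℕ} (h : chkRel [eqr [a] (ex (gl.getD a []))] = true) : lv ml a ∈ C := by
  have h1 : hw [a] = hw (ex (gl.getD a [])) := eqt h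
  have h2 : hw [a] = lv ml a := by
    rw [hw, wprod_cons, wprod_nil, mul_one]
  rw [← h2, h1]
  exact hw_ex _

theorem closure_eq : C = ⊤ := by
  rw [eq_top_iff, ← closure_ml, Subgroup.closure_le]
  have h0 : lv ml 0 ∈ C := letter_mem chk_g0
  have h1 : lv ml 1 ∈ C := letter_mem chk_g1
  have h2 : lv ml 2 ∈ C := letter_mem chk_g2
  have h3 : lv ml 3 ∈ C := letter_mem chk_g3
  have h4 : lv ml 4 ∈ C := letter_mem chk_g4
  have h5 : lv ml 5 ∈ C := letter_mem chk_g5
  intro x hx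
  simp only [ml, List.mem_cons, List.not_mem_nil, or_false, Set.mem_ofPred_eq] at hx
  rcases hx with rfl | rfl | rfl | rfl | rfl | rfl | rfl | rfl | rfl
  · exact h0
  · exact h1
  · exact h2
  · exact h3
  · exact h4
  · exact h5
  · exact inv_mem h1
  · exact inv_mem h3
  · exact inv_mem h4

/-! ### the structure -/

/-- the class of the involution `W` -/
def D : Set RuOrder.H := {v | ∃ k : RuOrder.H, v = k * W * k⁻¹}

theorem hw_two : hw [2] = W := (wprod_cons ml 2 []).trans (by rw [wprod_nil, mul_one]; rfl)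

theorem byw_mem (g : List ℕ) : hw (byw g) ∈ D := by
  refine ⟨hw g, ?_⟩
  rw [byw, hw_append, hw_append, hw_iw, hw_two]

theorem zD : hw zw ∈ D := ⟨1, by
  rw [one_mul, inv_one, mul_one]
  exact hw_two⟩

/-- **the facts on the model, from the three centralisers** -/
theorem facts
    (cenq : ∀ k : RuOrder.H, (∀ c : RuOrder.H, c * hw zw = hw zw * c → c * hw qw = hw qw * c → c * k = k * c) →
      k = 1 ∨ k = hw zw ∨ k = hw qw ∨ k = hw zw * hw qw)
    (cenq' : ∀ k : RuOrder.H, (∀ c : RuOrder.H, c * hw zw = hw zw * c → c * hw q2w = hw q2w * c → c * k = k * c) →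
      ∃ m : RuOrder.H, (m = 1 ∨ m = hw zw ∨ m = hw q2w ∨ m = hw zw * hw q2w) ∧ (k = m ∨ k = m * hw yw))
    (cenw : ∀ k : RuOrder.H, k * k = 1 → k * hw zw = hw zw * k → k * hw ww = hw ww * k →
      (∀ c : RuOrder.H, c * hw zw = hw zw * c → c * hw ww = hw ww * c → c * k = k * c) →
      k = 1 ∨ k = hw zw * hw ww * (hw zw * hw ww))
    (cen : ∀ k : RuOrder.H, (∀ c, k * c = c * k) → k = 1) :
    Facts (⊤ : Subgroup RuOrder.H) D (hw zw) (hw qw) (hw rw_) (hw v1w) (hw q2w) (hw r2w) (hw yw) (hw y2w) (hw v2w)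
      (hw ww) (hw sw) (hw ww) (hw u3w) (hw u4w) where
  zD := zD
  qD := byw_mem _
  qD' := byw_mem _
  wD := byw_mem _
  z1 := ne_z1
  qz := by rw [← hw_append, ← hw_append]; exact eqt chk_qz
  qnz := ne_zq
  ρK := Subgroup.mem_top _
  ρ1 := cjt chk_r1
  ρ2 := (cjt chk_r2).trans (hw_append _ _)
  cenq := fun k _ hk => cenq k fun c => hk c (Subgroup.mem_top _)
  e1 := by rw [← hw_append]; exact pc chk_e1
  e2 := pc chk_e2
  e3 := by rw [← hw_append]; exact pc chk_e3
  v₁z := ne_v1z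
  qz' := by rw [← hw_append, ← hw_append]; exact eqt chk_q2z
  qnz' := ne_zq2
  ρK' := Subgroup.mem_top _
  ρ1' := cjt chk_s1
  ρ2' := (cjt chk_s2).trans (hw_append _ _)
  yy := by rw [← hw_append]; exact eqt (q := []) chk_yy
  yz := by rw [← hw_append, ← hw_append]; exact eqt chk_yz
  yq' := by rw [← hw_append, ← hw_append]; exact eqt chk_yq
  ρy := cjt chk_ry
  cenq' := fun k _ hk => cenq' k fun c => hk c (Subgroup.mem_top _)
  f1 := by rw [← hw_append]; exact pc chk_f1
  f2 := pc chk_f2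
  f3 := by
    rw [← hw_append]
    exact ⟨hw f3w, Subgroup.mem_top _, (pc_of chk_f3).1, (pc_of chk_f3).2, cjt chk_f3y⟩
  yy' := ne_yy
  v₂y := by rw [← hw_append]; exact ne_v2y
  lz := by rw [← hw_append, ← hw_append]; exact pc chk_lz
  lw := by rw [← hw_append, ← hw_append]; exact pc chk_lw
  cenw := fun k _ h1 h2 h3 hk => cenw k h1 h2 h3 fun c => hk c (Subgroup.mem_top _)
  ps := pc chk_ps
  ws := pc chk_ws
  nz := by rw [← hw_append, ← hw_append, ← hw_append]; exact pc chk_nz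
  nw := by rw [← hw_append, ← hw_append, ← hw_append]; exact pc chk_nw
  kill := by
    rw [← hw_append, ← hw_append, ← hw_append, ← hw_append]
    exact ne_kill
  c12 := ⟨1, Subgroup.mem_top _, by group, by group⟩
  c13 := pc chk_c13
  c14 := pc chk_c14
  c23 := pc chk_c23
  c24 := pc chk_c24
  c34 := pc chk_c34
  gen := closure_eq
  cen := fun k _ hk => cen k fun c => hk c (Subgroup.mem_top _)

end Cfsg.Agent.KFacts.Ru.EndWords
end

private theorem dce_c8c65f30d273 : _root_.True := by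
  try have : _root_.True := by simp only [_root_.Cfsg.Agent.KFacts.Ru.EndWords.hw.eq_1]
  try have : _root_.True := by simp only [_root_.Cfsg.Agent.KFacts.Ru.EndWords.byw.eq_1]
  try have : _root_.True := by simp only [_root_.Cfsg.Agent.RuD.Letters.ml.eq_1]
  exact _root_.True.intro
end

-- part: OddHalf/D7TwF4/Growth/KRel_mg
section
set_option linter.all false
open scoped Cfsg.Agent.FastGrp

-- part: OddHalf/D7TwF4/Growth/Defs
section
/-!
# Growth of the doubled root groups of `²F₄(q)`: the input (helper702; text bb ODD 13178)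

`τ` = conjugation by the involution `t`; `X i` (`i : ℤ`, `X (i + 16) = X i`) the root groups of `K = ²F₄(q)`, `Y i = Z(X i)` for `i`
even and `Y i = X i` for `i` odd, `W i` the doubled groups of `Y i`, `T i = C_T(X i)`.

* `Gen` : the facts for all `i`;
* `Base` : the facts in the standard position; `Inp` : the facts in all positions `k ↦ 2 c + ε k`, `ε = ± 1`;
* `Base.conj` : transport of `Base` by an element of `K`.
-/

set_option autoImplicit false
set_option linter.unusedVariables false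

namespace Cfsg.Agent.OddHalf.D7TwF4.Growth.Defs

variable {G : Type*} [Group G]

/-- elementwise commuting subgroups -/
def Cm (A B : Subgroup G) : Prop := ∀ a ∈ A, ∀ b ∈ B, a * b = b * a

/-- all commutators lie in `C` -/
def Cl (A B C : Subgroup G) : Prop := ∀ a ∈ A, ∀ b ∈ B, a * b * a⁻¹ * b⁻¹ ∈ C

/-- `A` normalises `R` -/
def Nz (A R : Subgroup G) : Prop := ∀ a ∈ A, ∀ r ∈ R, a * r * a⁻¹ ∈ R

/-! ### `Cm`, `Cl`, `Nz` -/

theorem Cm.symm {A B : Subgroup G} (h : Cm A B) : Cm B A := fun a ha b hb => (h b hb a ha).symm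

theorem Cm.mono {A A' B B' : Subgroup G} (h : Cm A B) (hA : A' ≤ A) (hB : B' ≤ B) : Cm A' B' :=
  fun a ha b hb => h a (hA ha) b (hB hb)

theorem Cm.le {A B : Subgroup G} (h : Cm A B) : A ≤ Subgroup.centralizer (B : Set G) := fun a ha =>
  Subgroup.mem_centralizer_iff.2 fun b hb => (h a ha b hb).symm

theorem cm_of_le {A B : Subgroup G} (h : A ≤ Subgroup.centralizer (B : Set G)) : Cm A B := fun a ha b hb =>
  (Subgroup.mem_centralizer_iff.1 (h ha) b hb).symm

theorem Cm.sup {A B C : Subgroup G} (h : Cm A C) (h' : Cm B C) : Cm (A ⊔ B) C :=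
  cm_of_le (sup_le h.le h'.le)

theorem Cm.sup' {A B C : Subgroup G} (h : Cm C A) (h' : Cm C B) : Cm C (A ⊔ B) := (h.symm.sup h'.symm).symm

theorem Nz.le {A R : Subgroup G} (h : Nz A R) : A ≤ Subgroup.normalizer (R : Set G) := fun a ha =>
  Subgroup.mem_normalizer_iff.2 fun r => ⟨fun hr => h a ha r hr, fun hr => by
    have := h a⁻¹ (inv_mem ha) _ hr
    have e : a⁻¹ * (a * r * a⁻¹) * a⁻¹⁻¹ = r := by group
    rwa [e] at this⟩

theorem nz_of_le {A R : Subgroup G} (h : A ≤ Subgroup.normalizer (R : Set G)) : Nz A R := fun a ha r hr =>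
  (Subgroup.mem_normalizer_iff.1 (h ha) r).1 hr

theorem Nz.sup {A B R : Subgroup G} (h : Nz A R) (h' : Nz B R) : Nz (A ⊔ B) R := nz_of_le (sup_le h.le h'.le)

theorem Nz.mono {A A' R : Subgroup G} (h : Nz A R) (hA : A' ≤ A) : Nz A' R := fun a ha r hr => h a (hA ha) r hr

theorem Nz.inv {A R : Subgroup G} (h : Nz A R) {a r : G} (ha : a ∈ A) (hr : r ∈ R) : a⁻¹ * r * a ∈ R := by
  have := h a⁻¹ (inv_mem ha) r hr
  rwa [inv_inv] at this

theorem Nz.sup' {A R S : Subgroup G} (h : Nz A R) (h' : Nz A S) : Nz A (R ⊔ S) := by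
  intro a ha r hr
  have : R ⊔ S ≤ (R ⊔ S).comap (MulAut.conj a).toMonoidHom :=
    sup_le (fun x hx => Subgroup.mem_sup_left (h a ha x hx)) (fun x hx => Subgroup.mem_sup_right (h' a ha x hx))
  exact this hr

theorem Cm.nz {A B : Subgroup G} (h : Cm A B) : Nz A B := fun a ha b hb => by
  rw [h a ha b hb, mul_inv_cancel_right]; exact hb

theorem Cl.nz {A B C : Subgroup G} (h : Cl A B C) (hC : C ≤ B) : Nz A B := fun a ha b hb => by
  have e : a * b * a⁻¹ = (a * b * a⁻¹ * b⁻¹) * b := by group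
  rw [e]; exact mul_mem (hC (h a ha b hb)) hb

/-- `A` normalises `B S` if `⁅A, B⁆ ≤ B S` and `A` normalises `S` -/
theorem Cl.nz' {A B S : Subgroup G} (h : Cl A B (B ⊔ S)) (hS : Nz A S) : Nz A (B ⊔ S) := by
  intro a ha r hr
  have : B ⊔ S ≤ (B ⊔ S).comap (MulAut.conj a).toMonoidHom := by
    refine sup_le (fun x hx => ?_) (fun x hx => Subgroup.mem_sup_right (hS a ha x hx))
    have e : a * x * a⁻¹ = (a * x * a⁻¹ * x⁻¹) * x := by group
    show a * x * a⁻¹ ∈ B ⊔ S
    rw [e]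
    exact mul_mem (h a ha x hx) (Subgroup.mem_sup_left hx)
  exact this hr

theorem Cl.symm {A B C : Subgroup G} (h : Cl A B C) : Cl B A C := fun b hb a ha => by
  have := inv_mem (h a ha b hb)
  have e : (a * b * a⁻¹ * b⁻¹)⁻¹ = b * a * b⁻¹ * a⁻¹ := by group
  rwa [e] at this

theorem Cl.mono {A A' B B' C C' : Subgroup G} (h : Cl A B C) (hA : A' ≤ A) (hB : B' ≤ B) (hC : C ≤ C') :
    Cl A' B' C' := fun a ha b hb => hC (h _ (hA ha) _ (hB hb))

theorem Cl.mono3 {A B C C' : Subgroup G} (h : Cl A B C) (hC : C ≤ C') : Cl A B C' := h.mono le_rfl le_rfl hC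

theorem Cm.cl {A B : Subgroup G} (h : Cm A B) (C : Subgroup G) : Cl A B C := fun a ha b hb => by
  rw [h a ha b hb, mul_inv_cancel_right, mul_inv_cancel]; exact one_mem _

theorem cl_mul {C : Subgroup G} {a b c : G} (h1 : b * c * b⁻¹ * c⁻¹ ∈ C) (h2 : a * c * a⁻¹ * c⁻¹ ∈ C)
    (hn : ∀ r ∈ C, a * r * a⁻¹ ∈ C) : (a * b) * c * (a * b)⁻¹ * c⁻¹ ∈ C := by
  have e : (a * b) * c * (a * b)⁻¹ * c⁻¹ = (a * (b * c * b⁻¹ * c⁻¹) * a⁻¹) * (a * c * a⁻¹ * c⁻¹) := by group
  rw [e]; exact mul_mem (hn _ h1) h2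

/-- `⁅A B, D⁆ ≤ C` -/
theorem Cl.sup {A B D C : Subgroup G} (h : Cl A D C) (h' : Cl B D C) (hA : Nz A C) (hB : Nz B C) :
    Cl (A ⊔ B) D C := by
  intro x hx d hd
  let S : Subgroup G :=
    { carrier := {x | (∀ d ∈ D, x * d * x⁻¹ * d⁻¹ ∈ C) ∧ x ∈ Subgroup.normalizer (C : Set G)}
      one_mem' := ⟨fun d _ => by simp, one_mem _⟩
      mul_mem' := by
        rintro a b ⟨ha, ha'⟩ ⟨hb, hb'⟩
        exact ⟨fun d hd => cl_mul (hb d hd) (ha d hd) fun r hr => (Subgroup.mem_normalizer_iff.1 ha' r).1 hr,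
          mul_mem ha' hb'⟩
      inv_mem' := by
        rintro a ⟨ha, ha'⟩
        refine ⟨fun d hd => ?_, inv_mem ha'⟩
        have h1 := inv_mem (ha d hd)
        have h2 := (Subgroup.mem_normalizer_iff.1 (inv_mem ha') _).1 h1
        have e : a⁻¹ * (a * d * a⁻¹ * d⁻¹)⁻¹ * a⁻¹⁻¹ = a⁻¹ * d * a⁻¹⁻¹ * d⁻¹ := by group
        rwa [e] at h2 }
  have hle : A ⊔ B ≤ S := sup_le (fun a ha => ⟨h a ha, hA.le ha⟩) (fun b hb => ⟨h' b hb, hB.le hb⟩)
  exact (hle hx).1 d hd

theorem Cl.sup' {A B D C : Subgroup G} (h : Cl D A C) (h' : Cl D B C) (hA : Nz A C) (hB : Nz B C) :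
    Cl D (A ⊔ B) C := (h.symm.sup h'.symm hA hB).symm

/-- product decomposition -/
theorem mem_sup {A B : Subgroup G} (h : Nz B A) {x : G} (hx : x ∈ A ⊔ B) : ∃ a ∈ A, ∃ b ∈ B, x = a * b := by
  let S : Subgroup G :=
    { carrier := {x | ∃ a ∈ A, ∃ b ∈ B, x = a * b}
      one_mem' := ⟨1, one_mem _, 1, one_mem _, (mul_one 1).symm⟩
      mul_mem' := by
        rintro _ _ ⟨u, hu, v, hv, rfl⟩ ⟨u', hu', v', hv', rfl⟩
        exact ⟨u * (v * u' * v⁻¹), mul_mem hu (h v hv u' hu'), v * v', mul_mem hv hv', by group⟩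
      inv_mem' := by
        rintro _ ⟨u, hu, v, hv, rfl⟩
        exact ⟨v⁻¹ * u⁻¹ * v⁻¹⁻¹, h v⁻¹ (inv_mem hv) _ (inv_mem hu), v⁻¹, inv_mem hv, by group⟩ }
  have hS : A ⊔ B ≤ S := sup_le (fun u hu => ⟨u, hu, 1, one_mem _, (mul_one u).symm⟩)
    (fun v hv => ⟨1, one_mem _, v, hv, (one_mul v).symm⟩)
  exact hS hx

theorem mem_sup' {A B : Subgroup G} (h : Nz B A) {x : G} (hx : x ∈ A ⊔ B) : ∃ a ∈ A, ∃ b ∈ B, x = b * a := by
  obtain ⟨a, ha, b, hb, rfl⟩ := mem_sup h hx
  exact ⟨b⁻¹ * a * b⁻¹⁻¹, h b⁻¹ (inv_mem hb) a ha, b, hb, by group⟩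

/-! ### subgroups of `U = X_{-3} ⋯ X_4` -/

/-- `Z₀ X₁ Z₂` (and `W₀ W₁ W₂`) -/
def EK (Y : ℤ → Subgroup G) : Subgroup G := Y 0 ⊔ Y 1 ⊔ Y 2
/-- `X₋₁ Z₀ X₁ Z₂` -/
def RK (Y : ℤ → Subgroup G) : Subgroup G := EK Y ⊔ Y (-1)
/-- `Z₋₂ X₋₁ Z₀ X₁ Z₂` (and `A₀ = W₋₂ ⋯ W₂`) -/
def Q2 (Y : ℤ → Subgroup G) : Subgroup G := RK Y ⊔ Y (-2)
/-- `Z₋₂ X₋₁ X₀ X₁ Z₂` -/
def Q1 (X Y : ℤ → Subgroup G) : Subgroup G := Q2 Y ⊔ X 0
/-- `Z₋₂ X₋₁ X₀ X₁ X₂` -/
def PK (X Y : ℤ → Subgroup G) : Subgroup G := Q1 X Y ⊔ X 2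
/-- `Z₋₂ X₋₁ X₀ X₁ X₂ X₃` -/
def MK (X Y : ℤ → Subgroup G) : Subgroup G := PK X Y ⊔ Y 3
/-- `Z₋₂ X₋₁ X₀ X₁ X₂ X₃ Z₄` -/
def NK (X Y : ℤ → Subgroup G) : Subgroup G := MK X Y ⊔ Y 4
/-- `X₋₂ X₋₁ X₀ X₁ X₂ X₃` -/
def QpK (X Y : ℤ → Subgroup G) : Subgroup G := MK X Y ⊔ X (-2)
/-- `X₋₃ ⋯ X₃` -/
def Q0 (X Y : ℤ → Subgroup G) : Subgroup G := QpK X Y ⊔ Y (-3)

/-- The facts for all `i`. -/
structure Gen (τ : G →* G) (X Y W T : ℤ → Subgroup G) : Prop where
  tt : ∀ x, τ (τ x) = x
  tX : ∀ i, ∀ x ∈ X i, τ x = x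
  tT : ∀ i, ∀ h ∈ T i, τ h = h
  YX : ∀ i, Y i ≤ X i
  Yo : ∀ c, Y (2 * c + 1) = X (2 * c + 1)
  YW : ∀ i, Y i ≤ W i
  Wab : ∀ i, Cm (W i) (W i)
  Wsq : ∀ i, ∀ w ∈ W i, w * w = 1
  Wt : ∀ i, ∀ w ∈ W i, τ w ∈ W i
  Wf : ∀ i, ∀ w ∈ W i, τ w = w → w ∈ Y i
  Ws : ∀ i, ∀ y ∈ Y i, ∃ w ∈ W i, w⁻¹ * τ w = y
  /-- the torus -/
  TX : ∀ i j, Nz (T i) (X j)
  TY : ∀ i j, Nz (T i) (Y j)
  TW : ∀ i j, Nz (T i) (W j)
  TT : ∀ i j, Cm (T i) (T j)
  TXc : ∀ i, Cm (T i) (X i)
  TWc : ∀ i, Cm (T i) (W i)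
  Todd : ∀ i, Odd (Nat.card (T i))
  /-- some element of `T i` is fixed point free on `X j` for `j ≢ i mod 8` -/
  hf : ∀ i j : ℤ, ¬ (8 : ℤ) ∣ j - i → ∃ h ∈ T i, ∀ x ∈ X j, h * x * h⁻¹ = x → x = 1

/-- The facts in the standard position. `c ∈ C(t)` centralising `W 0` lies in `Q₀ L₀` (`(K2)`), this gives `k1`, …, `k8`. -/
structure Base (τ : G →* G) (X Y W T : ℤ → Subgroup G) : Prop where
  -- doubled groups: `A₀ = W₋₂ ⋯ W₂` abelian, centralised by `X₀`
  w01 : Cm (W 0) (W 1)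
  w02 : Cm (W 0) (W 2)
  w11 : Cm (W (-1)) (W 1)
  w12 : Cm (W (-1)) (W 2)
  w22 : Cm (W (-2)) (W 2)
  x0w0 : Cm (X 0) (W 0)
  x0w1 : Cm (X 0) (W 1)
  x0w2 : Cm (X 0) (W 2)
  x3w0 : Cm (X 3) (W 0)
  x4w0 : Cm (X 4) (W 0)
  -- `[A₀, Q₀] ≤ W₀`, `X₄` normalises `A₀`
  c12 : Cl (W (-1)) (X 2) (W 0)
  c13 : Cl (W (-1)) (X 3) (W 0)
  c23 : Cl (W (-2)) (X 3) (W 0)
  a14 : Cl (W (-1)) (X 4) (Q2 W)
  a24 : Cl (W (-2)) (X 4) (Q2 W)
  /-- 135 degrees -/
  w24 : Cl (W (-2)) (W 4) (EK W)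
  /-- `M = ⟨X₋₃, X₅⟩` on the conjugates of `W₄` -/
  tri : ∀ g ∈ X (-3), g ≠ 1 → ∃ h ∈ X 5, ∀ w, w ∈ W 4 ↔ h⁻¹ * (g * w * g⁻¹) * h ∈ W (-2)
  -- relations in `K`
  x13 : Cm (X (-1)) (X 3)
  x04 : Cm (X 0) (X 4)
  r14 : Cl (X (-1)) (X 4) (EK Y)
  r24z : Cl (Y (-2)) (X 4) (RK Y)
  r24 : Cl (X (-2)) (X 4) (MK X Y)
  r33 : Cl (X 3) (X (-3)) (Y (-1) ⊔ Y 1)
  r34z : Cl (X (-3)) (Y 4) (MK X Y)
  r34 : Cl (X (-3)) (X 4) (QpK X Y)
  /-- `X₅`, `X₄` normalise `N = NK` (and so do `X₋₃`, `X₋₂`, by symmetry) -/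
  nk5 : Nz (X 5) (NK X Y)
  nk4 : Nz (X 4) (NK X Y)
  -- commuting with a root group, inside `U`
  /-- `[X₁, X₋₂] ≠ 1` -/
  ka : ∀ c ∈ EK Y, (∀ x ∈ X (-2), c * x = x * c) → c ∈ Y 0 ⊔ Y 2
  /-- `[Z₋₂, X₃] ≠ 1` -/
  kb : ∀ c ∈ Q2 Y, (∀ x ∈ X 3, c * x = x * c) → c ∈ RK Y
  /-- `[X₋₃, Z₂] ≠ 1` -/
  kc : ∀ c ∈ X (-3), (∀ y ∈ Y 2, c * y = y * c) → c = 1
  /-- `C_{NK}(X₀) = Z₋₂ X₋₁ Z₀ X₁ Z₂ Z₄` -/
  kJ : ∀ c ∈ NK X Y, (∀ x ∈ X 0, c * x = x * c) → c ∈ Q2 Y ⊔ Y 4
  /-- `C_{NK}(T₀) = X₀` -/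
  kT : ∀ c ∈ NK X Y, (∀ h ∈ T 0, c * h = h * c) → c ∈ X 0
  /-- `T₀` (of odd order) is faithful on `X₋₁` -/
  tf : ∀ h ∈ T 0, (∀ y ∈ X (-1), h * y = y * h) → h = 1
  -- generation
  k2 : NK X Y ≤ Subgroup.closure {g | g ∈ Y 4 ∨ ∃ x ∈ X 5, ∃ y ∈ Y (-2), g = x * y * x⁻¹} ⊔ EK Y
  -- centralisers in `C(t)`
  k1 : ∀ c, τ c = c → (∀ w ∈ W 0, c * w = w * c) → (∀ x ∈ X 1, c * x = x * c) → (∀ y ∈ Y 2, c * y = y * c) →
    c ∈ NK X Y
  k4 : ∀ c, τ c = c → (∀ w ∈ W 0, c * w = w * c) → (∀ h ∈ T 0, c * h = h * c) → ∃ x ∈ X 0, ∃ h ∈ T 0, c = x * h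
  k5 : ∀ c, τ c = c → (∀ w ∈ W 0, c * w = w * c) → (∀ x ∈ X (-1), c * x = x * c) → (∀ x ∈ X 1, c * x = x * c) →
    c ∈ Q1 X Y ⊔ Y 3 ⊔ Y (-3)
  k6a : ∀ c, τ c = c → (∀ w ∈ W 0, c * w = w * c) → (∀ x ∈ X 0, c * x = x * c) → (∀ y ∈ Y 2, c * y = y * c) →
    c ∈ Q2 Y ⊔ X 4
  k6b : ∀ c, τ c = c → (∀ w ∈ W 0, c * w = w * c) → (∀ x ∈ X 0, c * x = x * c) → (∀ x ∈ X 4, c * x = x * c) →
    c ∈ Y 0 ⊔ Y 2 ⊔ Y 4
  k7 : ∀ c, τ c = c → (∀ w ∈ W 0, c * w = w * c) → (∀ y ∈ Y 2, c * y = y * c) → c ∈ QpK X Y ⊔ X 4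
  k8 : ∀ c, τ c = c → (∀ w ∈ W 0, c * w = w * c) → (∀ y ∈ Q2 Y, c * y * c⁻¹ * y⁻¹ ∈ Y 0) → c ∈ Q0 X Y
  -- independence of the root groups
  i01 : Y 0 ⊓ Y 1 = ⊥
  i012 : (Y 0 ⊔ Y 1) ⊓ Y 2 = ⊥
  i1 : EK Y ⊓ Y (-1) = ⊥
  i2 : RK Y ⊓ Y (-2) = ⊥
  i3 : Q2 Y ⊓ X 0 ≤ Y 0
  i4 : Q1 X Y ⊓ X 2 ≤ Y 2
  i5 : PK X Y ⊓ Y 3 = ⊥
  i6 : MK X Y ⊓ X (-2) ≤ Y (-2)
  i7 : QpK X Y ⊓ Y (-3) = ⊥
  i8 : Q0 X Y ⊓ Y 4 = ⊥
  i9 : (Q0 X Y ⊔ Y 4) ⊓ X 4 ≤ Y 4
  -- weights
  /-- `T₋₁ : X₃ → Z₂` -/
  nh1 : ∀ f : G → G, (∀ a ∈ X 3, f a ∈ Y 2) → (∀ a ∈ X 3, ∀ b ∈ X 3, f (a * b) = f a * f b) →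
    (∀ h ∈ T (-1), ∀ a ∈ X 3, f (h * a * h⁻¹) = h * f a * h⁻¹) → ∀ a ∈ X 3, f a = 1
  /-- `T₄ : X₀ / Z₀ → Z₋₂ X₋₁ Z₀ X₁ Z₂` -/
  nh2 : ∀ f : G → G, (∀ a ∈ X 0, f a ∈ Q2 Y) → (∀ a ∈ X 0, ∀ b ∈ X 0, f (a * b) = f a * f b) →
    (∀ a ∈ Y 0, f a = 1) →
    (∀ h ∈ T 4, ∀ a ∈ X 0, f (h * a * h⁻¹) = h * f a * h⁻¹) → ∀ a ∈ X 0, f a = 1

/-- The input. -/
structure Inp (τ : G →* G) (X Y W T : ℤ → Subgroup G) : Prop extends Gen τ X Y W T where
  fr : ∀ c e : ℤ, e = 1 ∨ e = -1 → Base τ (fun k => X (2 * c + e * k)) (fun k => Y (2 * c + e * k))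
    (fun k => W (2 * c + e * k)) (fun k => T (2 * c + e * k))

end Cfsg.Agent.OddHalf.D7TwF4.Growth.Defs
end

-- part: OddHalf/D7TwF4/Growth/KDefs
section
/-!
# Growth of the doubled root groups of `²F₄(q)`: the fields of `Base` inside `K` (helper517)

* `KBase X Y T` : the fields of `Growth.Defs.Base` which only speak about the root groups and the torus;
* `KBase.map` : the image under an injective homomorphism.
-/

set_option autoImplicit false

namespace Cfsg.Agent.OddHalf.D7TwF4.Growth.Defs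

variable {G : Type*} [Group G]

/-- The fields of `Base` which only speak about the root groups and the torus of `K`. -/
structure KBase (X Y T : ℤ → Subgroup G) : Prop where
  -- relations in `K`
  x13 : Cm (X (-1)) (X 3)
  x04 : Cm (X 0) (X 4)
  r14 : Cl (X (-1)) (X 4) (EK Y)
  r24z : Cl (Y (-2)) (X 4) (RK Y)
  r24 : Cl (X (-2)) (X 4) (MK X Y)
  r33 : Cl (X 3) (X (-3)) (Y (-1) ⊔ Y 1)
  r34z : Cl (X (-3)) (Y 4) (MK X Y)
  r34 : Cl (X (-3)) (X 4) (QpK X Y)
  nk5 : Nz (X 5) (NK X Y)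
  nk4 : Nz (X 4) (NK X Y)
  ka : ∀ c ∈ EK Y, (∀ x ∈ X (-2), c * x = x * c) → c ∈ Y 0 ⊔ Y 2
  kb : ∀ c ∈ Q2 Y, (∀ x ∈ X 3, c * x = x * c) → c ∈ RK Y
  kc : ∀ c ∈ X (-3), (∀ y ∈ Y 2, c * y = y * c) → c = 1
  kJ : ∀ c ∈ NK X Y, (∀ x ∈ X 0, c * x = x * c) → c ∈ Q2 Y ⊔ Y 4
  kT : ∀ c ∈ NK X Y, (∀ h ∈ T 0, c * h = h * c) → c ∈ X 0
  tf : ∀ h ∈ T 0, (∀ y ∈ X (-1), h * y = y * h) → h = 1
  k2 : NK X Y ≤ Subgroup.closure {g | g ∈ Y 4 ∨ ∃ x ∈ X 5, ∃ y ∈ Y (-2), g = x * y * x⁻¹} ⊔ EK Y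
  -- independence of the root groups
  i01 : Y 0 ⊓ Y 1 = ⊥
  i012 : (Y 0 ⊔ Y 1) ⊓ Y 2 = ⊥
  i1 : EK Y ⊓ Y (-1) = ⊥
  i2 : RK Y ⊓ Y (-2) = ⊥
  i3 : Q2 Y ⊓ X 0 ≤ Y 0
  i4 : Q1 X Y ⊓ X 2 ≤ Y 2
  i5 : PK X Y ⊓ Y 3 = ⊥
  i6 : MK X Y ⊓ X (-2) ≤ Y (-2)
  i7 : QpK X Y ⊓ Y (-3) = ⊥
  i8 : Q0 X Y ⊓ Y 4 = ⊥
  i9 : (Q0 X Y ⊔ Y 4) ⊓ X 4 ≤ Y 4
  -- weights
  nh1 : ∀ f : G → G, (∀ a ∈ X 3, f a ∈ Y 2) → (∀ a ∈ X 3, ∀ b ∈ X 3, f (a * b) = f a * f b) →
    (∀ h ∈ T (-1), ∀ a ∈ X 3, f (h * a * h⁻¹) = h * f a * h⁻¹) → ∀ a ∈ X 3, f a = 1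
  nh2 : ∀ f : G → G, (∀ a ∈ X 0, f a ∈ Q2 Y) → (∀ a ∈ X 0, ∀ b ∈ X 0, f (a * b) = f a * f b) →
    (∀ a ∈ Y 0, f a = 1) →
    (∀ h ∈ T 4, ∀ a ∈ X 0, f (h * a * h⁻¹) = h * f a * h⁻¹) → ∀ a ∈ X 0, f a = 1

section map

variable {G' : Type*} [Group G'] (f : G →* G')

theorem Cm.map {A B : Subgroup G} (h : Cm A B) : Cm (A.map f) (B.map f) := by
  rintro _ ⟨a, ha, rfl⟩ _ ⟨b, hb, rfl⟩
  rw [← map_mul, ← map_mul, h a ha b hb]

theorem Cl.map {A B C : Subgroup G} (h : Cl A B C) : Cl (A.map f) (B.map f) (C.map f) := by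
  rintro _ ⟨a, ha, rfl⟩ _ ⟨b, hb, rfl⟩
  exact ⟨_, h a ha b hb, by rw [map_mul, map_mul, map_mul, map_inv, map_inv]⟩

theorem Nz.map {A R : Subgroup G} (h : Nz A R) : Nz (A.map f) (R.map f) := by
  rintro _ ⟨a, ha, rfl⟩ _ ⟨b, hb, rfl⟩
  exact ⟨_, h a ha b hb, by rw [map_mul, map_mul, map_inv]⟩

variable (X Y : ℤ → Subgroup G)

theorem EK_map : EK (fun k => (Y k).map f) = (EK Y).map f := by
  unfold EK; rw [Subgroup.map_sup, Subgroup.map_sup]

theorem RK_map : RK (fun k => (Y k).map f) = (RK Y).map f := by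
  unfold RK; rw [Subgroup.map_sup, EK_map]

theorem Q2_map : Q2 (fun k => (Y k).map f) = (Q2 Y).map f := by
  unfold Q2; rw [Subgroup.map_sup, RK_map]

theorem Q1_map : Q1 (fun k => (X k).map f) (fun k => (Y k).map f) = (Q1 X Y).map f := by
  unfold Q1; rw [Subgroup.map_sup, Q2_map]

theorem PK_map : PK (fun k => (X k).map f) (fun k => (Y k).map f) = (PK X Y).map f := by
  unfold PK; rw [Subgroup.map_sup, Q1_map]

theorem MK_map : MK (fun k => (X k).map f) (fun k => (Y k).map f) = (MK X Y).map f := by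
  unfold MK; rw [Subgroup.map_sup, PK_map]

theorem NK_map : NK (fun k => (X k).map f) (fun k => (Y k).map f) = (NK X Y).map f := by
  unfold NK; rw [Subgroup.map_sup, MK_map]

theorem QpK_map : QpK (fun k => (X k).map f) (fun k => (Y k).map f) = (QpK X Y).map f := by
  unfold QpK; rw [Subgroup.map_sup, MK_map]

theorem Q0_map : Q0 (fun k => (X k).map f) (fun k => (Y k).map f) = (Q0 X Y).map f := by
  unfold Q0; rw [Subgroup.map_sup, QpK_map]

variable {f}

theorem inf_map_bot (hf : Function.Injective f) {A B : Subgroup G} (h : A ⊓ B = ⊥) : A.map f ⊓ B.map f = ⊥ := by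
  rw [← Subgroup.map_inf_eq _ _ _ hf, h, Subgroup.map_bot]

theorem inf_map_le (hf : Function.Injective f) {A B C : Subgroup G} (h : A ⊓ B ≤ C) : A.map f ⊓ B.map f ≤ C.map f := by
  rw [← Subgroup.map_inf_eq _ _ _ hf]
  exact Subgroup.map_mono h

theorem comm_map_mem (hf : Function.Injective f) {A B C : Subgroup G}
    (h : ∀ c ∈ A, (∀ x ∈ B, c * x = x * c) → c ∈ C) :
    ∀ c ∈ A.map f, (∀ x ∈ B.map f, c * x = x * c) → c ∈ C.map f := by
  rintro _ ⟨c, hc, rfl⟩ h1
  refine ⟨c, h c hc fun x hx => hf ?_, rfl⟩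
  rw [map_mul, map_mul]
  exact h1 (f x) ⟨x, hx, rfl⟩

theorem comm_map_one (hf : Function.Injective f) {A B : Subgroup G}
    (h : ∀ c ∈ A, (∀ x ∈ B, c * x = x * c) → c = 1) :
    ∀ c ∈ A.map f, (∀ x ∈ B.map f, c * x = x * c) → c = 1 := by
  rintro _ ⟨c, hc, rfl⟩ h1
  rw [h c hc fun x hx => hf (by rw [map_mul, map_mul]; exact h1 (f x) ⟨x, hx, rfl⟩), map_one]

/-- equivariant maps -/
theorem weight_map (hf : Function.Injective f) {A B T Z : Subgroup G}
    (h : ∀ g : G → G, (∀ a ∈ A, g a ∈ B) → (∀ a ∈ A, ∀ b ∈ A, g (a * b) = g a * g b) → (∀ a ∈ Z, g a = 1) →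
      (∀ t ∈ T, ∀ a ∈ A, g (t * a * t⁻¹) = t * g a * t⁻¹) → ∀ a ∈ A, g a = 1) :
    ∀ g : G' → G', (∀ a ∈ A.map f, g a ∈ B.map f) → (∀ a ∈ A.map f, ∀ b ∈ A.map f, g (a * b) = g a * g b) →
      (∀ a ∈ Z.map f, g a = 1) → (∀ t ∈ T.map f, ∀ a ∈ A.map f, g (t * a * t⁻¹) = t * g a * t⁻¹) →
      ∀ a ∈ A.map f, g a = 1 := by
  classical
  intro g g1 g2 g3 g4
  let g' : G → G := fun a => if h : ∃ b, f b = g (f a) then h.choose else 1
  have key : ∀ a b, f b = g (f a) → g' a = b := by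
    intro a b hb
    have hex : ∃ b, f b = g (f a) := ⟨b, hb⟩
    apply hf
    show f (if h : ∃ b, f b = g (f a) then h.choose else 1) = f b
    rw [dif_pos hex, hex.choose_spec, hb]
  have key2 : ∀ a ∈ A, f (g' a) = g (f a) := by
    intro a ha
    obtain ⟨b, -, hb⟩ := g1 (f a) ⟨a, ha, rfl⟩
    rw [key a b hb, hb]
  rintro _ ⟨a, ha, rfl⟩
  rw [← key2 a ha]
  have h1 := h g' ?_ ?_ ?_ ?_ a ha
  · rw [h1, map_one]
  · intro a ha
    obtain ⟨b, hb, hb'⟩ := g1 (f a) ⟨a, ha, rfl⟩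
    rw [key a b hb']
    exact hb
  · intro a ha b hb
    apply key
    rw [map_mul, key2 a ha, key2 b hb, map_mul, g2 _ ⟨a, ha, rfl⟩ _ ⟨b, hb, rfl⟩]
  · intro a ha
    apply key
    rw [map_one, g3 _ ⟨a, ha, rfl⟩]
  · intro t ht a ha
    apply key
    rw [map_mul, map_mul, key2 a ha, map_mul, map_mul, map_inv, g4 _ ⟨t, ht, rfl⟩ _ ⟨a, ha, rfl⟩]

/-- **The image of `KBase`.** -/
theorem KBase.map {X Y T : ℤ → Subgroup G} (H : KBase X Y T) (hf : Function.Injective f) :
    KBase (fun k => (X k).map f) (fun k => (Y k).map f) (fun k => (T k).map f) where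
  x13 := H.x13.map f
  x04 := H.x04.map f
  r14 := by rw [EK_map]; exact H.r14.map f
  r24z := by rw [RK_map]; exact H.r24z.map f
  r24 := by rw [MK_map]; exact H.r24.map f
  r33 := by
    show Cl ((X 3).map f) ((X (-3)).map f) ((Y (-1)).map f ⊔ (Y 1).map f)
    rw [← Subgroup.map_sup]; exact H.r33.map f
  r34z := by rw [MK_map]; exact H.r34z.map f
  r34 := by rw [QpK_map]; exact H.r34.map f
  nk5 := by rw [NK_map]; exact H.nk5.map f
  nk4 := by rw [NK_map]; exact H.nk4.map f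
  ka := by
    rw [EK_map]
    show ∀ c ∈ (EK Y).map f, (∀ x ∈ (X (-2)).map f, c * x = x * c) → c ∈ (Y 0).map f ⊔ (Y 2).map f
    rw [← Subgroup.map_sup]
    exact comm_map_mem hf H.ka
  kb := by rw [Q2_map, RK_map]; exact comm_map_mem hf H.kb
  kc := comm_map_one hf H.kc
  kJ := by
    rw [NK_map, Q2_map]
    show ∀ c ∈ (NK X Y).map f, (∀ x ∈ (X 0).map f, c * x = x * c) → c ∈ (Q2 Y).map f ⊔ (Y 4).map f
    rw [← Subgroup.map_sup]
    exact comm_map_mem hf H.kJ
  kT := by rw [NK_map]; exact comm_map_mem hf H.kT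
  tf := comm_map_one hf H.tf
  k2 := by
    rw [NK_map, EK_map]
    refine (Subgroup.map_mono H.k2).trans ?_
    rw [Subgroup.map_sup, MonoidHom.map_closure]
    refine sup_le_sup ((Subgroup.closure_le _).2 ?_) le_rfl
    rintro _ ⟨g, hg, rfl⟩
    refine Subgroup.subset_closure ?_
    rcases hg with hg | ⟨x, hx, y, hy, rfl⟩
    · exact Or.inl ⟨g, hg, rfl⟩
    · exact Or.inr ⟨f x, ⟨x, hx, rfl⟩, f y, ⟨y, hy, rfl⟩, by rw [map_mul, map_mul, map_inv]⟩
  i01 := inf_map_bot hf H.i01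
  i012 := by
    show ((Y 0).map f ⊔ (Y 1).map f) ⊓ (Y 2).map f = ⊥
    rw [← Subgroup.map_sup]; exact inf_map_bot hf H.i012
  i1 := by rw [EK_map]; exact inf_map_bot hf H.i1
  i2 := by rw [RK_map]; exact inf_map_bot hf H.i2
  i3 := by rw [Q2_map]; exact inf_map_le hf H.i3
  i4 := by rw [Q1_map]; exact inf_map_le hf H.i4
  i5 := by rw [PK_map]; exact inf_map_bot hf H.i5
  i6 := by rw [MK_map]; exact inf_map_le hf H.i6
  i7 := by rw [QpK_map]; exact inf_map_bot hf H.i7
  i8 := by rw [Q0_map]; exact inf_map_bot hf H.i8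
  i9 := by
    rw [Q0_map]
    show ((Q0 X Y).map f ⊔ (Y 4).map f) ⊓ (X 4).map f ≤ (Y 4).map f
    rw [← Subgroup.map_sup]
    exact inf_map_le hf H.i9
  nh1 := by
    intro g g1 g2 g3
    refine weight_map hf (A := X 3) (B := Y 2) (T := T (-1)) (Z := ⊥) (fun g' h1 h2 _ h4 => H.nh1 g' h1 h2 h4) g g1 g2
      ?_ g3
    rw [Subgroup.map_bot]
    intro a ha
    rw [Subgroup.mem_bot] at ha
    subst ha
    have h1 := g2 1 (one_mem _) 1 (one_mem _)
    rw [mul_one] at h1
    exact left_eq_mul.1 h1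
  nh2 := by
    intro g g1
    rw [Q2_map] at g1
    exact weight_map hf (A := X 0) (B := Q2 Y) (T := T 4) (Z := Y 0) (fun g' h1 h2 h3 h4 => H.nh2 g' h1 h2 h3 h4) g g1

end map

end Cfsg.Agent.OddHalf.D7TwF4.Growth.Defs
end

-- part: OddHalf/D7TwF4/Growth/KRel
section
/-!
# Growth of the doubled root groups of `²F₄(q)`: the subgroups of `U` and the relations (helper517)

`YZ S k = Z(X_k)` for `k` even and `X_k` for `k` odd, `S.Tk k = C_T(X_k)`. Standard frame `k ↦ 4 + k`:

* `EK = Z_4 X_5 Z_6`, `RK = X_3 EK`, `Q2 = Z_2 RK`, `Q1 = X_4 Q2`, `PK = Q1 X_6`, `MK = PK X_7`, `NK = MK Z_8 = NO`,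
  `QpK = ⟨X_2, …, X_7⟩`, `Q0 = ⟨X_1, …, X_7⟩`;
* the relations and independence.
-/

set_option autoImplicit false
set_option linter.unusedSectionVars false

namespace Cfsg.Agent.OddHalf.D7TwF4.Growth.KInst

open Cfsg.Agent.KFacts.TwF4 Cfsg.Agent.SplitTwo.ZS Cfsg.Agent.OddHalf.D7TwF4.Growth.Defs
open scoped commutatorElement

universe u

variable {F : Type*} [Field F] {σ : F →+* F} {G : Type u} [Group G] (S : Full σ G)

/-- `Z(X_k)` for `k` even, `X_k` for `k` odd -/
noncomputable def YZ (k : ℤ) : Subgroup G := if Even k then S.Zc ((k / 2 : ℤ) : ZMod 8) else S.XZ k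

theorem YZ_even (a : ℤ) : YZ S (2 * a) = S.Zc (a : ZMod 8) := by
  unfold YZ
  rw [if_pos (even_two_mul a), Int.mul_ediv_cancel_left a (by norm_num)]

theorem YZ_odd (a : ℤ) : YZ S (2 * a + 1) = S.XZ (2 * a + 1) := by
  unfold YZ
  rw [if_neg (by rw [Int.not_even_iff_odd]; exact ⟨a, rfl⟩)]

theorem YZ1 : YZ S 1 = S.XZ 1 := YZ_odd S 0
theorem YZ2 : YZ S 2 = S.Zc 1 := by
  have := YZ_even S 1
  push_cast at this
  exact this
theorem YZ3 : YZ S 3 = S.XZ 3 := YZ_odd S 1
theorem YZ4 : YZ S 4 = S.Zc 2 := YZ_even S 2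
theorem YZ5 : YZ S 5 = S.XZ 5 := YZ_odd S 2
theorem YZ6 : YZ S 6 = S.Zc 3 := YZ_even S 3
theorem YZ7 : YZ S 7 = S.XZ 7 := YZ_odd S 3
theorem YZ8 : YZ S 8 = S.Zc 4 := YZ_even S 4

/-! ### the subgroups -/

/-- the root groups in the standard frame -/
abbrev Xf (k : ℤ) : Subgroup G := S.XZ (4 + k)
/-- their centres in the standard frame -/
noncomputable abbrev Yf (k : ℤ) : Subgroup G := YZ S (4 + k)
/-- the torus in the standard frame -/
abbrev Tf (k : ℤ) : Subgroup G := S.Tk (4 + k)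

theorem EK_eq : EK (Yf S) = S.Zc 2 ⊔ S.XZ 5 ⊔ S.Zc 3 := by
  show YZ S 4 ⊔ YZ S 5 ⊔ YZ S 6 = _
  rw [YZ4, YZ5, YZ6]

theorem RK_eq : RK (Yf S) = S.Zc 2 ⊔ S.XZ 5 ⊔ S.Zc 3 ⊔ S.XZ 3 := by
  show EK (Yf S) ⊔ YZ S 3 = _
  rw [EK_eq, YZ3]

theorem Q2_eq : Q2 (Yf S) = S.Q2 := by
  show RK (Yf S) ⊔ YZ S 2 = _
  rw [RK_eq, YZ2]
  show _ = S.Zc 1 ⊔ S.XZ 3 ⊔ S.Zc 2 ⊔ S.XZ 5 ⊔ S.Zc 3
  ac_rfl

theorem Q1_eq : Q1 (Xf S) (Yf S) = S.Q1 := by
  show Q2 (Yf S) ⊔ S.XZ 4 = S.XZ 4 ⊔ S.Q2
  rw [Q2_eq, sup_comm]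

theorem PK_eq : PK (Xf S) (Yf S) = S.Q1 ⊔ S.XZ 6 := by
  show Q1 (Xf S) (Yf S) ⊔ S.XZ 6 = _
  rw [Q1_eq]

theorem Zc_le4 : S.Zc 2 ≤ S.XZ 4 := by
  rintro _ ⟨u, rfl⟩; exact S.mX4 0 u
theorem Zc_le6 : S.Zc 3 ≤ S.XZ 6 := by
  rintro _ ⟨u, rfl⟩; exact S.mX6 0 u
theorem Zc_le2 : S.Zc 1 ≤ S.XZ 2 := by
  rintro _ ⟨u, rfl⟩; exact S.mX2 0 u
theorem Zc_le8 : S.Zc 4 ≤ S.XZ 8 := by
  rintro _ ⟨u, rfl⟩; exact S.mX8 0 u

theorem MK_eq : MK (Xf S) (Yf S) = S.Zc 1 ⊔ J S.XZ 3 7 := by
  show PK (Xf S) (Yf S) ⊔ YZ S 7 = _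
  rw [PK_eq, YZ7]
  have hj : ∀ k : ℤ, 3 ≤ k → k ≤ 7 → S.XZ k ≤ S.Zc 1 ⊔ J S.XZ 3 7 := fun k h1 h2 => (X_le_J h1 h2).trans le_sup_right
  apply le_antisymm
  · refine sup_le (sup_le (sup_le (hj 4 (by norm_num) (by norm_num)) ?_) (hj 6 (by norm_num) (by norm_num)))
      (hj 7 (by norm_num) (by norm_num))
    exact S.Q2_le (fun u => Subgroup.mem_sup_left ⟨u, rfl⟩) (fun t => hj 3 (by norm_num) (by norm_num) (S.mX3 t))
      (fun u => hj 4 (by norm_num) (by norm_num) (S.mX4 0 u)) (fun t => hj 5 (by norm_num) (by norm_num) (S.mX5 t))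
      (fun u => hj 6 (by norm_num) (by norm_num) (S.mX6 0 u))
  · refine sup_le ?_ (J_le fun k h1 h2 x hx => ?_)
    · rintro _ ⟨u, rfl⟩
      exact Subgroup.mem_sup_left (Subgroup.mem_sup_left (Subgroup.mem_sup_right (S.q2_1 u)))
    · interval_cases k
      · obtain ⟨t, rfl⟩ := S.X3 hx
        exact Subgroup.mem_sup_left (Subgroup.mem_sup_left (Subgroup.mem_sup_right (S.q2_2 t)))
      · exact Subgroup.mem_sup_left (Subgroup.mem_sup_left (Subgroup.mem_sup_left hx))
      · obtain ⟨t, rfl⟩ := S.X5 hx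
        exact Subgroup.mem_sup_left (Subgroup.mem_sup_left (Subgroup.mem_sup_right (S.q2_4 t)))
      · exact Subgroup.mem_sup_left (Subgroup.mem_sup_right hx)
      · exact Subgroup.mem_sup_right hx

theorem NK_eq : NK (Xf S) (Yf S) = S.NO := by
  show MK (Xf S) (Yf S) ⊔ YZ S 8 = _
  rw [MK_eq, YZ8]
  apply le_antisymm
  · refine sup_le (sup_le ?_ S.J37_le) ?_
    · rintro _ ⟨u, rfl⟩; exact S.Z2_NO u
    · rintro _ ⟨u, rfl⟩; exact S.Z8_NO u
  · intro q hq
    obtain ⟨u, v, r, hr, rfl⟩ := S.mem_NO_iff.1 hq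
    exact mul_mem (mul_mem (Subgroup.mem_sup_left (Subgroup.mem_sup_left ⟨u, rfl⟩))
      (Subgroup.mem_sup_left (Subgroup.mem_sup_right hr))) (Subgroup.mem_sup_right ⟨v, rfl⟩)

theorem QpK_eq : QpK (Xf S) (Yf S) = J S.XZ 2 7 := by
  show MK (Xf S) (Yf S) ⊔ S.XZ 2 = _
  rw [MK_eq]
  apply le_antisymm
  · exact sup_le (sup_le ((Zc_le2 S).trans (X_le_J (by norm_num) (by norm_num))) (J_mono (by norm_num) (by norm_num)))
      (X_le_J (by norm_num) (by norm_num))
  · refine J_le fun k h1 h2 => ?_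
    rcases eq_or_lt_of_le h1 with h3 | h3
    · rw [← h3]; exact le_sup_right
    · exact (X_le_J (by omega) h2).trans (le_sup_right.trans le_sup_left)

theorem Q0_eq : Q0 (Xf S) (Yf S) = J S.XZ 1 7 := by
  show QpK (Xf S) (Yf S) ⊔ YZ S 1 = _
  rw [QpK_eq, YZ1]
  apply le_antisymm
  · exact sup_le (J_mono (by norm_num) (by norm_num)) (X_le_J (by norm_num) (by norm_num))
  · refine J_le fun k h1 h2 => ?_
    rcases eq_or_lt_of_le h1 with h3 | h3
    · rw [← h3]; exact le_sup_right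
    · exact (X_le_J (by omega) h2).trans le_sup_left

/-! ### membership -/

theorem EK_four (u : F) : S.e 2 0 u ∈ EK (Yf S) := by
  rw [EK_eq]; exact Subgroup.mem_sup_left (Subgroup.mem_sup_left ⟨u, rfl⟩)
theorem EK_five (t : F) : S.o 2 t ∈ EK (Yf S) := by
  rw [EK_eq]; exact Subgroup.mem_sup_left (Subgroup.mem_sup_right (S.mX5 t))
theorem EK_six (u : F) : S.e 3 0 u ∈ EK (Yf S) := by
  rw [EK_eq]; exact Subgroup.mem_sup_right ⟨u, rfl⟩

theorem EK_eq_V5 : EK (Yf S) = S.V5 := by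
  rw [EK_eq]
  apply le_antisymm
  · refine sup_le (sup_le ?_ le_sup_right) ?_
    · rintro _ ⟨u, rfl⟩; exact Subgroup.mem_sup_left (S.Z4_W46 u)
    · rintro _ ⟨u, rfl⟩; exact Subgroup.mem_sup_left (S.Z6_W46 u)
  · refine sup_le ?_ (le_sup_right.trans le_sup_left)
    rintro _ ⟨u, v, rfl⟩
    exact mul_mem (Subgroup.mem_sup_left (Subgroup.mem_sup_left ⟨u, rfl⟩)) (Subgroup.mem_sup_right ⟨v, rfl⟩)

theorem EK_le : EK (Yf S) ≤ J S.XZ 4 6 := by
  rw [EK_eq]
  exact sup_le (sup_le ((Zc_le4 S).trans (X_le_J (by norm_num) (by norm_num))) (X_le_J (by norm_num) (by norm_num)))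
    ((Zc_le6 S).trans (X_le_J (by norm_num) (by norm_num)))

theorem RK_le : RK (Yf S) ≤ J S.XZ 3 6 := by
  show EK (Yf S) ⊔ YZ S 3 ≤ _
  rw [YZ3]
  exact sup_le ((EK_le S).trans (J_mono (by norm_num) (by norm_num))) (X_le_J (by norm_num) (by norm_num))

theorem RK_three (t : F) : S.o 1 t ∈ RK (Yf S) := by
  rw [RK_eq]; exact Subgroup.mem_sup_right (S.mX3 t)

theorem EK_le_RK : EK (Yf S) ≤ RK (Yf S) := le_sup_left
theorem J37_le_MK : J S.XZ 3 7 ≤ MK (Xf S) (Yf S) := by
  rw [MK_eq]; exact le_sup_right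

theorem MK_two (u : F) : S.e 1 0 u ∈ MK (Xf S) (Yf S) := by
  rw [MK_eq]; exact Subgroup.mem_sup_left ⟨u, rfl⟩

/-! ### relations -/

/-- commutators from the relations `x y = y x c` -/
theorem comm_mem {A B : Subgroup G} {C : Subgroup G} (h : ∀ a ∈ A, ∀ b ∈ B, (b * a)⁻¹ * (a * b) ∈ C) : Cl A B C := by
  intro a ha b hb
  have e := h a⁻¹ (inv_mem ha) b⁻¹ (inv_mem hb)
  have e1 : (b⁻¹ * a⁻¹)⁻¹ * (a⁻¹ * b⁻¹) = a * b * a⁻¹ * b⁻¹ := by group
  rwa [e1] at e

theorem base {C : Subgroup G} {y : G} : y⁻¹ * y ∈ C := by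
  rw [inv_mul_cancel]; exact one_mem _

theorem step {C : Subgroup G} {y z c : G} (h : y⁻¹ * z ∈ C) (hc : c ∈ C) : y⁻¹ * (z * c) ∈ C := by
  rw [← mul_assoc]; exact mul_mem h hc

theorem Cl.swap {A B C : Subgroup G} (h : Cl A B C) : Cl B A C := by
  intro b hb a ha
  have h1 := inv_mem (h a ha b hb)
  have e : (a * b * a⁻¹ * b⁻¹)⁻¹ = b * a * b⁻¹ * a⁻¹ := by group
  rwa [e] at h1

theorem x13 : Cm (Xf S (-1)) (Xf S 3) := by
  intro a ha b hb
  obtain ⟨t, rfl⟩ := S.X3 (x := a) ha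
  obtain ⟨s, rfl⟩ := S.X7 (x := b) hb
  exact S.o_o2 1 t s

theorem x04 : Cm (Xf S 0) (Xf S 4) := by
  intro a ha b hb
  obtain ⟨p, u, rfl⟩ := S.X4 (x := a) ha
  obtain ⟨q, v, rfl⟩ := S.X8 (x := b) hb
  exact S.e_e2 2 p u q v

theorem r14 : Cl (Xf S (-1)) (Xf S 4) (EK (Yf S)) := by
  refine comm_mem fun a ha b hb => ?_
  obtain ⟨t, rfl⟩ := S.X3 (x := a) ha
  obtain ⟨q, v, rfl⟩ := S.X8 (x := b) hb
  have e : S.o 1 t * S.e 4 q v = _ := S.o_e3 1 t q v
  rw [e]
  exact step (step (step base (EK_four S _)) (EK_five S _)) (EK_six S _)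

theorem r24z : Cl (Yf S (-2)) (Xf S 4) (RK (Yf S)) := by
  refine comm_mem fun a ha b hb => ?_
  have ha' : a ∈ S.Zc 1 := by rw [← YZ2]; exact ha
  obtain ⟨u, rfl⟩ := ha'
  obtain ⟨q, v, rfl⟩ := S.X8 (x := b) hb
  have e : S.e 1 0 u * S.e 4 q v = _ := S.e_e3 1 0 u q v
  simp only [zero_mul, map_zero, zero_add] at e
  rw [S.o_zero, mul_one] at e
  rw [e]
  exact step (step (step (step base (RK_three S _)) (EK_le_RK S (EK_four S _))) (EK_le_RK S (EK_five S _)))
    (EK_le_RK S (EK_six S _))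

theorem j37 {k : ℤ} (h1 : 3 ≤ k) (h2 : k ≤ 7) {x : G} (hx : x ∈ S.XZ k) : x ∈ MK (Xf S) (Yf S) :=
  J37_le_MK S (mem_J hx h1 h2)

theorem r24 : Cl (Xf S (-2)) (Xf S 4) (MK (Xf S) (Yf S)) := by
  refine comm_mem fun a ha b hb => ?_
  obtain ⟨p, u, rfl⟩ := S.X2 (x := a) ha
  obtain ⟨q, v, rfl⟩ := S.X8 (x := b) hb
  have e : S.e 1 p u * S.e 4 q v = _ := S.e_e3 1 p u q v
  rw [e]
  exact step (step (step (step (step base (j37 S (by norm_num) (by norm_num) (S.mX3 _)))
    (j37 S (by norm_num) (by norm_num) (S.mX4 _ _))) (j37 S (by norm_num) (by norm_num) (S.mX5 _)))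
    (j37 S (by norm_num) (by norm_num) (S.mX6 _ _))) (j37 S (by norm_num) (by norm_num) (S.mX7 _))

theorem r33 : Cl (Xf S 3) (Xf S (-3)) (Yf S (-1) ⊔ Yf S 1) := by
  refine Cl.swap (comm_mem fun a ha b hb => ?_)
  obtain ⟨t, rfl⟩ := S.X1 (x := a) ha
  obtain ⟨s, rfl⟩ := S.X7 (x := b) hb
  have e : S.o 0 t * S.o 3 s = _ := S.o_o3 0 t s
  rw [e]
  refine step (step base (Subgroup.mem_sup_left ?_)) (Subgroup.mem_sup_right ?_)
  · show _ ∈ YZ S 3
    rw [YZ3]; exact S.mX3 _
  · show _ ∈ YZ S 5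
    rw [YZ5]; exact S.mX5 _

theorem r34z : Cl (Xf S (-3)) (Yf S 4) (MK (Xf S) (Yf S)) := by
  refine comm_mem fun a ha b hb => ?_
  obtain ⟨t, rfl⟩ := S.X1 (x := a) ha
  have hb' : b ∈ S.Zc 4 := by rw [← YZ8]; exact hb
  obtain ⟨v, rfl⟩ := hb'
  have e : S.o 0 t * S.e 4 0 v = _ := S.o_e4 0 t 0 v
  rw [e, mul_zero]
  exact step (step (step (step (step (step base (MK_two S _)) (j37 S (by norm_num) (by norm_num) (S.mX3 _)))
    (j37 S (by norm_num) (by norm_num) (S.mX4 _ _))) (j37 S (by norm_num) (by norm_num) (S.mX5 _)))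
    (j37 S (by norm_num) (by norm_num) (S.mX6 _ _))) (j37 S (by norm_num) (by norm_num) (S.mX7 _))

theorem r34 : Cl (Xf S (-3)) (Xf S 4) (QpK (Xf S) (Yf S)) := by
  rw [QpK_eq]
  refine comm_mem fun a ha b hb => ?_
  obtain ⟨t, rfl⟩ := S.X1 (x := a) ha
  obtain ⟨q, v, rfl⟩ := S.X8 (x := b) hb
  have e : S.o 0 t * S.e 4 q v = _ := S.o_e4 0 t q v
  rw [e]
  exact step (step (step (step (step (step base (mem_J (S.mX2 _ _) (by norm_num) (by norm_num)))
    (mem_J (S.mX3 _) (by norm_num) (by norm_num))) (mem_J (S.mX4 _ _) (by norm_num) (by norm_num)))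
    (mem_J (S.mX5 _) (by norm_num) (by norm_num))) (mem_J (S.mX6 _ _) (by norm_num) (by norm_num)))
    (mem_J (S.mX7 _) (by norm_num) (by norm_num))

/-! ### `X₅`, `X₄` normalise `NK` -/

theorem nk5 : Nz (Xf S 5) (NK (Xf S) (Yf S)) := by
  rw [NK_eq]
  intro x hx q hq
  have hx' : x ∈ S.XZ 9 := hx
  refine ⟨S.zsys8.conj_J (a := 2) (b := 8) (c := 9) (d := 9) (by norm_num) (by norm_num) (by norm_num)
    (mem_J hx' le_rfl le_rfl) hq.1, ?_⟩
  have h1 : x ∈ Subgroup.centralizer (S.XZ 5 : Set G) := S.LO_le_cent (Subgroup.mem_sup_right hx')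
  have h2 : x * q * x⁻¹ ∈ Subgroup.centralizer (S.XZ 5 : Set G) := mul_mem (mul_mem h1 hq.2) (inv_mem h1)
  exact h2

theorem nk4 : Nz (Xf S 4) (NK (Xf S) (Yf S)) := by
  intro x hx q hq
  have hN : ∀ k : ℤ, 3 ≤ k → k ≤ 7 → S.XZ k ≤ S.NO := fun k h1 h2 => (X_le_J h1 h2).trans S.J37_le
  have hN' := NK_eq S
  rw [hN'] at hq ⊢
  have hJ : ∀ q ∈ J S.XZ 3 7, x * q * x⁻¹ ∈ S.NO := fun q hq => S.J37_le
    (S.zsys8.conj_J (a := 3) (b := 7) (c := 8) (d := 8) (by norm_num) (by norm_num) (by norm_num)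
      (mem_J (show x ∈ S.XZ 8 from hx) le_rfl le_rfl) hq)
  have hZ : ∀ u, x * S.e 1 0 u * x⁻¹ ∈ S.NO := by
    intro u
    have h1 : S.e 1 0 u ∈ Yf S (-2) := by show _ ∈ YZ S 2; rw [YZ2]; exact ⟨u, rfl⟩
    have h2 := Cl.swap (r24z S) x hx _ h1
    have h3 : x * S.e 1 0 u * x⁻¹ * (S.e 1 0 u)⁻¹ ∈ S.NO :=
      S.J37_le (J_mono (by norm_num) (by norm_num) (RK_le S h2))
    have e : x * S.e 1 0 u * x⁻¹ = x * S.e 1 0 u * x⁻¹ * (S.e 1 0 u)⁻¹ * S.e 1 0 u := by group
    rw [e]
    exact mul_mem h3 (S.Z2_NO u)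
  have h8 : ∀ v, x * S.e 4 0 v * x⁻¹ ∈ S.NO := by
    intro v
    obtain ⟨q, w, rfl⟩ := S.X8 (x := x) hx
    have e : S.e 4 q w * S.e 4 0 v = S.e 4 0 v * S.e 4 q w := by
      rw [S.e_mul, S.e_mul, map_zero, mul_zero, zero_mul, add_zero, zero_add, add_zero, add_zero, add_comm]
    rw [e, mul_inv_cancel_right]
    exact S.Z8_NO v
  obtain ⟨u, v, r, hr, rfl⟩ := S.mem_NO_iff.1 hq
  have e : x * (S.e 1 0 u * r * S.e 4 0 v) * x⁻¹ = (x * S.e 1 0 u * x⁻¹) * (x * r * x⁻¹) * (x * S.e 4 0 v * x⁻¹) := by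
    group
  rw [e]
  exact mul_mem (mul_mem (hZ u) (hJ r hr)) (h8 v)

/-! ### commuting with a root group -/

theorem ka : ∀ c ∈ EK (Yf S), (∀ x ∈ Xf S (-2), c * x = x * c) → c ∈ Yf S 0 ⊔ Yf S 2 := by
  intro c hc h
  rw [EK_eq_V5] at hc
  obtain ⟨u, s, v, rfl⟩ := S.mem_V5.1 hc
  have h1 := h (S.e 1 1 0) (S.mX2 1 0)
  have hz := fun u => S.comm_Z4 (k := 2) (by norm_num) (by norm_num) (S.mX2 1 0) u
  have hz' := fun v => S.comm_Z6 (k := 2) (by norm_num) (by norm_num) (S.mX2 1 0) v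
  have h2 : S.e 1 1 0 * S.o 2 s = S.o 2 s * S.e 1 1 0 * S.e 2 0 (1 * s) := S.e_o1 1 1 0 s
  have h3 : S.e 2 0 u * S.o 2 s * S.e 3 0 v * S.e 1 1 0 = S.e 2 0 u * (S.o 2 s * S.e 1 1 0) * S.e 3 0 v := by
    calc S.e 2 0 u * S.o 2 s * S.e 3 0 v * S.e 1 1 0 = S.e 2 0 u * S.o 2 s * (S.e 3 0 v * S.e 1 1 0) := by group
      _ = _ := by rw [← hz']; group
  have h4 : S.e 1 1 0 * (S.e 2 0 u * S.o 2 s * S.e 3 0 v) =
      S.e 2 0 u * (S.o 2 s * S.e 1 1 0 * S.e 2 0 (1 * s)) * S.e 3 0 v := by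
    calc S.e 1 1 0 * (S.e 2 0 u * S.o 2 s * S.e 3 0 v) = (S.e 1 1 0 * S.e 2 0 u) * S.o 2 s * S.e 3 0 v := by group
      _ = S.e 2 0 u * (S.e 1 1 0 * S.o 2 s) * S.e 3 0 v := by rw [hz]; group
      _ = _ := by rw [h2]
  rw [h3, h4] at h1
  have h5 := mul_left_cancel (mul_right_cancel h1)
  have h6 := (S.e_eq_one (left_eq_mul.1 h5)).2
  rw [one_mul] at h6
  rw [h6, S.o_zero, mul_one]
  refine mul_mem (Subgroup.mem_sup_left ?_) (Subgroup.mem_sup_right ?_)
  · show _ ∈ YZ S 4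
    rw [YZ4]; exact ⟨u, rfl⟩
  · show _ ∈ YZ S 6
    rw [YZ6]; exact ⟨v, rfl⟩

theorem kc : ∀ c ∈ Xf S (-3), (∀ y ∈ Yf S 2, c * y = y * c) → c = 1 := by
  intro c hc h
  obtain ⟨t, rfl⟩ := S.X1 (x := c) hc
  have h1 := h (S.e 3 0 1) (by show _ ∈ YZ S 6; rw [YZ6]; exact ⟨1, rfl⟩)
  have r1 : S.o 0 t * S.e 3 0 1 = S.e 3 0 1 * S.o 0 t * S.e 1 0 (σ t * 0) * S.o 1 (t * σ 0) *
      S.e 2 0 (t * 0 * σ 0 + t * 1) := S.o_e3 0 t 0 1
  rw [map_zero, mul_zero, mul_zero, mul_zero, zero_add, S.o_zero, S.e_zero, mul_one, mul_one, mul_one] at r1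
  rw [r1] at h1
  have h2 := (S.e_eq_one (mul_eq_left.1 h1)).2
  rw [h2, S.o_zero]

/-! ### independence -/

theorem Yf0 : Yf S 0 = S.Zc 2 := YZ4 S
theorem Yf1 : Yf S 1 = S.XZ 5 := YZ5 S
theorem Yf2 : Yf S 2 = S.Zc 3 := YZ6 S
theorem Yf3 : Yf S 3 = S.XZ 7 := YZ7 S
theorem Yf4 : Yf S 4 = S.Zc 4 := YZ8 S
theorem Yfm1 : Yf S (-1) = S.XZ 3 := YZ3 S
theorem Yfm2 : Yf S (-2) = S.Zc 1 := YZ2 S
theorem Yfm3 : Yf S (-3) = S.XZ 1 := YZ1 S

theorem i01 : Yf S 0 ⊓ Yf S 1 = ⊥ := by
  rw [Yf0, Yf1, eq_bot_iff]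
  rintro x ⟨h1, h2⟩
  exact S.X_inf_near (i := 4) (j := 5) (by norm_num) (by norm_num) (Zc_le4 S h1) h2

theorem bot_of {A B : Subgroup G} {a b c d : ℤ} (hA : A ≤ J S.XZ a b) (hB : B ≤ J S.XZ c d) (h1 : 1 ≤ a) (h2 : b < 9)
    (h3 : 1 ≤ c) (h4 : d < 9) (h : b < c ∨ d < a) : A ⊓ B = ⊥ := by
  rw [eq_bot_iff]
  rintro x ⟨h5, h6⟩
  exact S.zsys8.inter_one 1 (hA h5) (hB h6) h1 (by omega) h3 (by omega) h

theorem i012 : (Yf S 0 ⊔ Yf S 1) ⊓ Yf S 2 = ⊥ := by
  rw [Yf0, Yf1, Yf2]
  exact bot_of S (a := 4) (b := 5) (c := 6) (d := 6) (sup_le ((Zc_le4 S).trans (X_le_J (by norm_num) (by norm_num)))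
    (X_le_J (by norm_num) (by norm_num))) ((Zc_le6 S).trans (X_le_J (by norm_num) (by norm_num))) (by norm_num)
    (by norm_num) (by norm_num) (by norm_num) (Or.inl (by norm_num))

theorem i1 : EK (Yf S) ⊓ Yf S (-1) = ⊥ := by
  rw [Yfm1]
  exact bot_of S (EK_le S) (c := 3) (d := 3) (X_le_J (by norm_num) (by norm_num)) (by norm_num) (by norm_num)
    (by norm_num) (by norm_num) (Or.inr (by norm_num))

theorem i2 : RK (Yf S) ⊓ Yf S (-2) = ⊥ := by
  rw [Yfm2]
  exact bot_of S (RK_le S) (c := 2) (d := 2) ((Zc_le2 S).trans (X_le_J (by norm_num) (by norm_num))) (by norm_num)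
    (by norm_num) (by norm_num) (by norm_num) (Or.inr (by norm_num))

theorem PK_le : PK (Xf S) (Yf S) ≤ J S.XZ 2 6 := by
  rw [PK_eq]
  exact sup_le S.Q1_le_J (X_le_J (by norm_num) (by norm_num))

theorem i5 : PK (Xf S) (Yf S) ⊓ Yf S 3 = ⊥ := by
  rw [Yf3]
  exact bot_of S (PK_le S) (c := 7) (d := 7) (X_le_J (by norm_num) (by norm_num)) (by norm_num) (by norm_num)
    (by norm_num) (by norm_num) (Or.inl (by norm_num))

theorem i6 : MK (Xf S) (Yf S) ⊓ Xf S (-2) ≤ Yf S (-2) := by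
  rw [MK_eq, Yfm2]
  rintro x ⟨h1, h2⟩
  have h2' : x ∈ S.XZ 2 := h2
  obtain ⟨z, hz, j, hj, rfl⟩ := mem_sup_of_norm (A := S.Zc 1) (B := J S.XZ 3 7) (fun z hz q hq =>
    S.zsys8.conj_J (a := 3) (b := 7) (c := 2) (d := 2) (by norm_num) (by norm_num) (by norm_num)
      (mem_J (Zc_le2 S hz) le_rfl le_rfl) hq) h1
  have h3 : j ∈ S.XZ 2 := by
    have := mul_mem (inv_mem (Zc_le2 S hz)) h2'
    rwa [inv_mul_cancel_left] at this
  have h4 : j = 1 := S.zsys8.inter 2 j h3 (J_mono (by norm_num) (by norm_num) hj)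
  rw [h4, mul_one]
  exact hz

theorem i7 : QpK (Xf S) (Yf S) ⊓ Yf S (-3) = ⊥ := by
  rw [Yfm3]
  exact bot_of S (QpK_eq S).le (c := 1) (d := 1) (X_le_J (by norm_num) (by norm_num)) (by norm_num) (by norm_num)
    (by norm_num) (by norm_num) (Or.inr (by norm_num))

theorem i8 : Q0 (Xf S) (Yf S) ⊓ Yf S 4 = ⊥ := by
  rw [Yf4]
  exact bot_of S (Q0_eq S).le (c := 8) (d := 8) ((Zc_le8 S).trans (X_le_J (by norm_num) (by norm_num))) (by norm_num)
    (by norm_num) (by norm_num) (by norm_num) (Or.inl (by norm_num))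

theorem i9 : (Q0 (Xf S) (Yf S) ⊔ Yf S 4) ⊓ Xf S 4 ≤ Yf S 4 := by
  rw [Q0_eq, Yf4, sup_comm]
  rintro x ⟨h1, h2⟩
  have h2' : x ∈ S.XZ 8 := h2
  obtain ⟨z, hz, j, hj, rfl⟩ := mem_sup_of_norm (A := S.Zc 4) (B := J S.XZ 1 7) (fun z hz q hq =>
    S.zsys8.conj_X (a := 1) (b := 7) (k := 8) (by norm_num) (by norm_num) (by norm_num) (Zc_le8 S hz) hq) h1
  have h3 : j ∈ S.XZ 8 := by
    have := mul_mem (inv_mem (Zc_le8 S hz)) h2'
    rwa [inv_mul_cancel_left] at this
  have h4 : j = 1 := S.zsys8.inter' h3 (J_mono (by norm_num) (by norm_num) hj)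
  rw [h4, mul_one]
  exact hz

end Cfsg.Agent.OddHalf.D7TwF4.Growth.KInst
end

-- part: OddHalf/D7TwF4/Growth/Tools
section
/-!
# Growth for `²F₄(q)`: general tools (helper702)

* products of subgroups, one normalising the other;
* `Dbl τ R K`: the `τ`-invariant group `R` is "`t`-free" with fixed points `K`;
* `kill`: the torus trick; `tau_comm`: `τ ⁅a, b⁆ ∈ ⁅a, b⁆ R`.
-/

set_option autoImplicit false
set_option linter.unusedVariables false

namespace Cfsg.Agent.OddHalf.D7TwF4.Growth.Tools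

open Cfsg.Agent.OddHalf.D7TwF4.Growth.Defs

variable {G : Type*} [Group G]

/-! ### `τ` -/

/-- `R` is `τ`-invariant, its fixed points are `K`, and `s τ(s) = 1` implies `s = r τ(r)⁻¹`. -/
structure Dbl (τ : G →* G) (R K : Subgroup G) : Prop where
  le : K ≤ R
  inv : ∀ r ∈ R, τ r ∈ R
  fixK : ∀ r ∈ K, τ r = r
  fix : ∀ r ∈ R, τ r = r → r ∈ K
  free : ∀ s ∈ R, s * τ s = 1 → ∃ r ∈ R, s = r * (τ r)⁻¹

/-- an element fixed modulo `R` -/
theorem Dbl.exists_fix {τ : G →* G} (tt : ∀ x, τ (τ x) = x) {R K : Subgroup G} (h : Dbl τ R K) {c : G}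
    (hc : c⁻¹ * τ c ∈ R) : ∃ r ∈ R, τ (c * r) = c * r := by
  obtain ⟨s, hs⟩ : ∃ s, s = c⁻¹ * τ c := ⟨_, rfl⟩
  have e1 : τ c = c * s := by rw [hs]; group
  have e2 : s * τ s = 1 := by
    have h1 : τ (τ c) = c := tt c
    rw [e1, map_mul, e1] at h1
    have h2 : c * (s * τ s) = c * 1 := by rw [mul_one, ← mul_assoc]; exact h1
    exact mul_left_cancel h2
  obtain ⟨r, hr, hsr⟩ := h.free s (hs ▸ hc) e2
  refine ⟨r, hr, ?_⟩
  rw [map_mul, e1, hsr, mul_assoc, inv_mul_cancel_right]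

theorem Dbl.exists_fix' {τ : G →* G} (tt : ∀ x, τ (τ x) = x) {R K : Subgroup G} (h : Dbl τ R K) {c : G}
    (hc : τ c * c⁻¹ ∈ R) : ∃ r ∈ R, τ (r * c) = r * c := by
  obtain ⟨r, hr, h1⟩ := h.exists_fix tt (c := c⁻¹) (by
    rw [map_inv, inv_inv]
    have := inv_mem hc
    rwa [mul_inv_rev, inv_inv] at this)
  refine ⟨r⁻¹, inv_mem hr, ?_⟩
  have := congrArg (·⁻¹) h1
  simpa [map_mul, map_inv, mul_inv_rev] using this

/-- elementary abelian groups -/
theorem dbl_W {τ : G →* G} {W Y : Subgroup G} (tt : ∀ x, τ (τ x) = x) (hW : Cm W W) (h2 : ∀ w ∈ W, w * w = 1)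
    (ht : ∀ w ∈ W, τ w ∈ W) (hY : ∀ y ∈ Y, τ y = y) (hYW : Y ≤ W) (hf : ∀ w ∈ W, τ w = w → w ∈ Y)
    (hs : ∀ y ∈ Y, ∃ w ∈ W, w⁻¹ * τ w = y) : Dbl τ W Y where
  le := hYW
  inv := ht
  fixK := hY
  fix := hf
  free := by
    intro s hs1 hs2
    have e1 : τ s = s := by
      have h1 : τ s = s⁻¹ := (eq_inv_of_mul_eq_one_right hs2)
      rw [h1, inv_eq_of_mul_eq_one_left (h2 s hs1)]
    obtain ⟨w, hw, hw1⟩ := hs s (hf s hs1 e1)
    refine ⟨w, hw, ?_⟩
    have e2 : w⁻¹ = w := inv_eq_of_mul_eq_one_left (h2 w hw)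
    have e3 : (τ w)⁻¹ = τ w := inv_eq_of_mul_eq_one_left (h2 _ (ht w hw))
    rw [← hw1, e2, e3]

/-- `w⁻¹ τ w ∈ Y` for `w ∈ W` -/
theorem brk_mem {τ : G →* G} {W Y : Subgroup G} (tt : ∀ x, τ (τ x) = x) (hW : Cm W W) (h2 : ∀ w ∈ W, w * w = 1)
    (ht : ∀ w ∈ W, τ w ∈ W) (hf : ∀ w ∈ W, τ w = w → w ∈ Y) {w : G} (hw : w ∈ W) : w⁻¹ * τ w ∈ Y := by
  apply hf _ (mul_mem (inv_mem hw) (ht w hw))
  rw [map_mul, tt, map_inv, inv_eq_of_mul_eq_one_left (h2 _ (ht w hw)), inv_eq_of_mul_eq_one_left (h2 w hw),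
    hW _ (ht w hw) _ hw]

theorem inf_eq_bot {τ : G →* G} {R K W Y : Subgroup G} (hR : Dbl τ R K) (tt : ∀ x, τ (τ x) = x) (hW : Cm W W)
    (h2 : ∀ w ∈ W, w * w = 1) (ht : ∀ w ∈ W, τ w ∈ W) (hf : ∀ w ∈ W, τ w = w → w ∈ Y) (hi : K ⊓ Y = ⊥) :
    R ⊓ W = ⊥ := by
  rw [eq_bot_iff]
  rintro w ⟨hwR, hwW⟩
  have key : ∀ w, w ∈ R → w ∈ W → τ w = w → w = 1 := by
    intro w h1 h3 h4
    have : w ∈ K ⊓ Y := ⟨hR.fix w h1 h4, hf w h3 h4⟩
    rwa [hi, Subgroup.mem_bot] at this
  have h1 : w⁻¹ * τ w = 1 := by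
    apply key _ (mul_mem (inv_mem hwR) (hR.inv w hwR)) (mul_mem (inv_mem hwW) (ht w hwW))
    rw [map_mul, tt, map_inv, inv_eq_of_mul_eq_one_left (h2 _ (ht w hwW)), inv_eq_of_mul_eq_one_left (h2 w hwW),
      hW _ (ht w hwW) _ hwW]
  rw [Subgroup.mem_bot]
  exact key w hwR hwW (inv_mul_eq_one.1 h1).symm

/-- `R W` for an elementary abelian `W` -/
theorem Dbl.sup_W {τ : G →* G} {R K W Y : Subgroup G} (hR : Dbl τ R K) (tt : ∀ x, τ (τ x) = x) (hW : Cm W W)
    (h2 : ∀ w ∈ W, w * w = 1) (ht : ∀ w ∈ W, τ w ∈ W) (hY : ∀ y ∈ Y, τ y = y) (hYW : Y ≤ W)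
    (hf : ∀ w ∈ W, τ w = w → w ∈ Y) (hs : ∀ y ∈ Y, ∃ w ∈ W, w⁻¹ * τ w = y) (hi : K ⊓ Y = ⊥) (hn : Nz W R) :
    Dbl τ (R ⊔ W) (K ⊔ Y) := by
  have hb := inf_eq_bot hR tt hW h2 ht hf hi
  have hD := dbl_W tt hW h2 ht hY hYW hf hs
  have fixof : ∀ r ∈ R, ∀ w ∈ W, τ (r * w) = r * w → τ r = r ∧ τ w = w := by
    intro r hr w hw h
    rw [map_mul] at h
    have e1 : r⁻¹ * τ r = w * (τ w)⁻¹ := by
      calc r⁻¹ * τ r = r⁻¹ * (τ r * τ w) * (τ w)⁻¹ := by group
        _ = w * (τ w)⁻¹ := by rw [h]; group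
    have e2 : r⁻¹ * τ r ∈ R ⊓ W := Subgroup.mem_inf.2
      ⟨R.mul_mem (R.inv_mem hr) (hR.inv r hr), by rw [e1]; exact W.mul_mem hw (W.inv_mem (ht w hw))⟩
    rw [hb, Subgroup.mem_bot] at e2
    rw [e2] at e1
    exact ⟨(inv_mul_eq_one.1 e2).symm, (mul_inv_eq_one.1 e1.symm).symm⟩
  refine ⟨sup_le_sup hR.le hYW, ?_, ?_, ?_, ?_⟩
  · intro x hx
    obtain ⟨r, hr, w, hw, rfl⟩ := mem_sup hn hx
    rw [map_mul]
    exact Subgroup.mul_mem_sup (hR.inv r hr) (ht w hw)
  · intro x hx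
    have : K ⊔ Y ≤ (τ.eqLocus (MonoidHom.id G)) := sup_le (fun k hk => hR.fixK k hk) (fun y hy => hY y hy)
    exact this hx
  · intro x hx h
    obtain ⟨r, hr, w, hw, rfl⟩ := mem_sup hn hx
    obtain ⟨h1, h3⟩ := fixof r hr w hw h
    exact Subgroup.mul_mem_sup (hR.fix r hr h1) (hf w hw h3)
  · intro s hs1 hs2
    obtain ⟨r, hr, w, hw, rfl⟩ := mem_sup hn hs1
    rw [map_mul] at hs2
    -- `w τ w ∈ R`
    have e1 : w * τ w = w * (r * τ r)⁻¹ * w⁻¹ * (w * r * w⁻¹ * (w * τ r * w⁻¹)) * (w * τ w) := by group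
    have e2 : w * τ w ∈ R := by
      have e3 : r * (w * τ r * w⁻¹) * (w * τ w) = 1 := by
        rw [← hs2]; group
      have e4 : w * τ w = (r * (w * τ r * w⁻¹))⁻¹ := eq_inv_of_mul_eq_one_right e3
      rw [e4]
      exact inv_mem (mul_mem hr (hn w hw _ (hR.inv r hr)))
    have e3 : w * τ w ∈ R ⊓ W := ⟨e2, mul_mem hw (ht w hw)⟩
    rw [hb, Subgroup.mem_bot] at e3
    obtain ⟨v, hv, hwv⟩ := hD.free w hw e3
    -- `v⁻¹ s τ v ∈ R`
    have e4 : v⁻¹ * (r * w) * τ v = v⁻¹ * r * v := by rw [hwv]; group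
    have e5 : v⁻¹ * r * v ∈ R := hn.inv hv hr
    have e6 : (v⁻¹ * r * v) * τ (v⁻¹ * r * v) = 1 := by
      rw [← e4]
      simp only [map_mul, map_inv, tt]
      calc v⁻¹ * (r * w) * τ v * ((τ v)⁻¹ * (τ r * τ w) * v) = v⁻¹ * (r * w * (τ r * τ w)) * v := by group
        _ = 1 := by rw [hs2]; group
    obtain ⟨r1, hr1, h1⟩ := hR.free _ e5 e6
    refine ⟨v * r1, mul_mem (Subgroup.mem_sup_right hv) (Subgroup.mem_sup_left hr1), ?_⟩
    calc r * w = v * (v⁻¹ * (r * w) * τ v) * (τ v)⁻¹ := by group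
      _ = v * (v⁻¹ * r * v) * (τ v)⁻¹ := by rw [e4]
      _ = v * (r1 * (τ r1)⁻¹) * (τ v)⁻¹ := by rw [h1]
      _ = v * r1 * (τ (v * r1))⁻¹ := by rw [map_mul]; group

/-- The double `B` of a root group `X` over the double `W` of `Y = Z(X)`. -/
structure DB (τ : G →* G) (B X W Y : Subgroup G) : Prop where
  XB : X ≤ B
  WB : W ≤ B
  Xf : ∀ x ∈ X, τ x = x
  inv : ∀ b ∈ B, τ b ∈ B
  fix : ∀ b ∈ B, τ b = b → b ∈ X
  brk : ∀ b ∈ B, ∃ x ∈ X, ∃ w ∈ W, b⁻¹ * τ b = x * w
  surj : ∀ x ∈ X, ∃ b ∈ B, ∃ w ∈ W, b⁻¹ * τ b = x * w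
  comm : Cl B B W
  sq : ∀ b ∈ B, b * b ∈ W
  WD : Dbl τ W Y

/-- elements `b` with `b⁻¹ τ b ∈ W` -/
theorem DB.mem_of_brk {τ : G →* G} (tt : ∀ x, τ (τ x) = x) {B X W Y : Subgroup G} (h : DB τ B X W Y) {b : G}
    (hb : b ∈ B) (hw : b⁻¹ * τ b ∈ W) : ∃ x ∈ X, ∃ w ∈ W, b = x * w := by
  obtain ⟨r, hr, h1⟩ := h.WD.exists_fix tt hw
  exact ⟨b * r, h.fix _ (mul_mem hb (h.WB hr)) h1, r⁻¹, inv_mem hr, by group⟩

theorem DB.nzW {τ : G →* G} {B X W Y : Subgroup G} (h : DB τ B X W Y) : Nz B W :=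
  (h.comm.mono le_rfl h.WB le_rfl).nz le_rfl

theorem free_aux {τ : G →* G} (tt : ∀ x, τ (τ x) = x) {R K B X : Subgroup G} (hR : Dbl τ R K) (hn : Nz B R)
    (XB : X ≤ B) {x v r w w' b : G} (hx : x ∈ X) (hv : v ∈ B) (hr : r ∈ R) (hw : w ∈ R) (hw' : w' ∈ R)
    (hvx : v⁻¹ * τ v = x * w') (hbx : b = x * w) (hs2 : r * b * (τ r * τ b) = 1) :
    ∃ y ∈ R ⊔ B, r * b = y * (τ y)⁻¹ := by
  have e5 : τ v = v * (x * w') := by rw [← hvx]; group
  have e6 : v * (r * b) * (τ v)⁻¹ = v * (r * (x * (w * w'⁻¹) * x⁻¹)) * v⁻¹ := by rw [e5, hbx]; group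
  have e7 : v * (r * b) * (τ v)⁻¹ ∈ R := by
    rw [e6]
    exact hn v hv _ (R.mul_mem hr (hn x (XB hx) _ (R.mul_mem hw (R.inv_mem hw'))))
  have e8 : v * (r * b) * (τ v)⁻¹ * τ (v * (r * b) * (τ v)⁻¹) = 1 := by
    rw [map_mul, map_mul, map_inv, tt, map_mul]
    calc v * (r * b) * (τ v)⁻¹ * (τ v * (τ r * τ b) * v⁻¹) = v * (r * b * (τ r * τ b)) * v⁻¹ := by group
      _ = 1 := by rw [hs2]; group
  obtain ⟨r1, hr1, h1⟩ := hR.free _ e7 e8
  refine ⟨v⁻¹ * r1, (R ⊔ B).mul_mem (Subgroup.mem_sup_right (B.inv_mem hv)) (Subgroup.mem_sup_left hr1), ?_⟩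
  calc r * b = v⁻¹ * (v * (r * b) * (τ v)⁻¹) * τ v := by group
    _ = v⁻¹ * (r1 * (τ r1)⁻¹) * τ v := by rw [h1]
    _ = v⁻¹ * r1 * (τ (v⁻¹ * r1))⁻¹ := by rw [map_mul, map_inv]; group

/-- `R B` for `W ≤ R` -/
theorem Dbl.sup_B {τ : G →* G} {R K B X W Y : Subgroup G} (hR : Dbl τ R K) (tt : ∀ x, τ (τ x) = x)
    (hB : DB τ B X W Y) (hWR : W ≤ R) (hi : K ⊓ X ≤ Y) (hn : Nz B R) :
    Dbl τ (R ⊔ B) (K ⊔ X) ∧ B ⊓ R = W := by
  have hinf : ∀ b ∈ B, b ∈ R → b ∈ W := by
    intro b hb hbR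
    obtain ⟨x, hx, w, hw, hbr⟩ := hB.brk b hb
    have hxR : x ∈ R := by
      have : b⁻¹ * τ b ∈ R := mul_mem (inv_mem hbR) (hR.inv b hbR)
      rw [hbr] at this
      exact (mul_mem_cancel_right (hWR hw)).1 this
    have hxY : x ∈ Y := hi ⟨hR.fix x hxR (hB.Xf x hx), hx⟩
    obtain ⟨x', hx', w', hw', rfl⟩ := hB.mem_of_brk tt hb (by rw [hbr]; exact mul_mem (hB.WD.le hxY) hw)
    have hx'R : x' ∈ R := (mul_mem_cancel_right (hWR hw')).1 hbR
    exact mul_mem (hB.WD.le (hi ⟨hR.fix x' hx'R (hB.Xf x' hx'), hx'⟩)) hw'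
  refine ⟨⟨sup_le_sup hR.le hB.XB, ?_, ?_, ?_, ?_⟩, le_antisymm (fun b hb => hinf b hb.1 hb.2)
    (le_inf hB.WB hWR)⟩
  · intro x hx
    obtain ⟨r, hr, b, hb, rfl⟩ := mem_sup hn hx
    rw [map_mul]
    exact Subgroup.mul_mem_sup (hR.inv r hr) (hB.inv b hb)
  · intro x hx
    have : K ⊔ X ≤ (τ.eqLocus (MonoidHom.id G)) := sup_le (fun k hk => hR.fixK k hk) (fun y hy => hB.Xf y hy)
    exact this hx
  · intro x hx h
    obtain ⟨r, hr, b, hb, rfl⟩ := mem_sup hn hx
    rw [map_mul] at h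
    have e1 : (b⁻¹ * τ b)⁻¹ = b⁻¹ * (r⁻¹ * τ r) * b := by
      calc (b⁻¹ * τ b)⁻¹ = (τ b)⁻¹ * b := by group
        _ = b⁻¹ * r⁻¹ * (r * b) * (τ b)⁻¹ * b := by group
        _ = b⁻¹ * r⁻¹ * (τ r * τ b) * (τ b)⁻¹ * b := by rw [h]
        _ = b⁻¹ * (r⁻¹ * τ r) * b := by group
    have e2 : b⁻¹ * τ b ∈ R := by
      rw [← inv_mem_iff, e1]
      exact hn.inv hb (mul_mem (inv_mem hr) (hR.inv r hr))
    have e3 : b⁻¹ * τ b ∈ W := hinf _ (mul_mem (inv_mem hb) (hB.inv b hb)) e2
    obtain ⟨y, hy, w, hw, rfl⟩ := hB.mem_of_brk tt hb e3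
    -- move `w` to the left
    have hxw : y * w * y⁻¹ ∈ R := hn y (hB.XB hy) w (hWR hw)
    have e4 : r * (y * w) = (r * (y * w * y⁻¹)) * y := by group
    rw [e4]
    refine Subgroup.mul_mem_sup ?_ hy
    apply hR.fix _ (R.mul_mem hr hxw)
    have h' : τ (r * (y * w * y⁻¹) * y) = r * (y * w * y⁻¹) * y := by rw [← e4, map_mul]; exact h
    rw [map_mul, hB.Xf y hy] at h'
    exact mul_right_cancel h'
  · intro s hs1 hs2
    obtain ⟨r, hr, b, hb, rfl⟩ := mem_sup hn hs1
    rw [map_mul] at hs2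
    have e2 : b * τ b ∈ R := by
      have e3 : r * (b * τ r * b⁻¹) * (b * τ b) = 1 := by
        rw [← hs2]; group
      have e4 : b * τ b = (r * (b * τ r * b⁻¹))⁻¹ := eq_inv_of_mul_eq_one_right e3
      rw [e4]
      exact inv_mem (mul_mem hr (hn b hb _ (hR.inv r hr)))
    have e3 : b * τ b ∈ W := hinf _ (mul_mem hb (hB.inv b hb)) e2
    have e4 : b⁻¹ * τ b ∈ W := by
      have : b⁻¹ * τ b = (b * b)⁻¹ * (b * τ b) := by group
      rw [this]; exact mul_mem (inv_mem (hB.sq b hb)) e3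
    obtain ⟨x, hx, w, hw, hbx⟩ := hB.mem_of_brk tt hb e4
    obtain ⟨v, hv, w', hw', hvx⟩ := hB.surj x hx
    exact free_aux tt hR hn hB.XB hx hv hr (hWR hw) (hWR hw') hvx hbx hs2

/-! ### the torus trick -/

/-- `h ∈ C(x)` without fixed points on `B`, trivial on the commutators modulo `R`. -/
theorem kill [Finite G] {B R : Subgroup G} {h x : G} (hB : ∀ b ∈ B, h * b * h⁻¹ ∈ B)
    (h1 : ∀ b ∈ B, h * b * h⁻¹ = b → b = 1) (hx : h * x = x * h) (hRB : Nz B R)
    (hRx : ∀ r ∈ R, x * r * x⁻¹ ∈ R)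
    (hc : ∀ b ∈ B, (b * x * b⁻¹ * x⁻¹)⁻¹ * (h * (b * x * b⁻¹ * x⁻¹) * h⁻¹) ∈ R) :
    ∀ b ∈ B, b * x * b⁻¹ * x⁻¹ ∈ R := by
  -- the map `b ↦ b⁻¹ (h b h⁻¹)` is bijective
  let f : B → B := fun b => ⟨(b : G)⁻¹ * (h * b * h⁻¹), mul_mem (inv_mem b.2) (hB b b.2)⟩
  have hinj : Function.Injective f := by
    intro a b hab
    have e : (a : G)⁻¹ * (h * a * h⁻¹) = (b : G)⁻¹ * (h * b * h⁻¹) := congrArg Subtype.val hab
    have e2 : h * ((b : G) * (a : G)⁻¹) * h⁻¹ = (b : G) * (a : G)⁻¹ := by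
      calc h * ((b : G) * (a : G)⁻¹) * h⁻¹ = b * ((b : G)⁻¹ * (h * b * h⁻¹)) * (h * a * h⁻¹)⁻¹ := by group
        _ = b * ((a : G)⁻¹ * (h * a * h⁻¹)) * (h * a * h⁻¹)⁻¹ := by rw [e]
        _ = (b : G) * (a : G)⁻¹ := by group
    have e3 := h1 _ (mul_mem b.2 (inv_mem a.2)) e2
    exact Subtype.ext (mul_inv_eq_one.1 e3).symm
  have hsurj : Function.Surjective f := Finite.surjective_of_injective hinj
  intro b hb
  obtain ⟨a, ha⟩ := hsurj ⟨b, hb⟩
  have hba : b = (a : G)⁻¹ * (h * a * h⁻¹) := (congrArg Subtype.val ha).symm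
  obtain ⟨c, hcd⟩ : ∃ c, c = (a : G) * x * (a : G)⁻¹ * x⁻¹ := ⟨_, rfl⟩
  have e1 : (h * a * h⁻¹) * x * (h * a * h⁻¹)⁻¹ * x⁻¹ = h * c * h⁻¹ := by
    have hx' : h⁻¹ * x * h = x := by rw [mul_assoc, ← hx, inv_mul_cancel_left]
    have hx2 : h * x⁻¹ * h⁻¹ = x⁻¹ := by
      have : h * x * h⁻¹ = x := by rw [hx, mul_inv_cancel_right]
      calc h * x⁻¹ * h⁻¹ = (h * x * h⁻¹)⁻¹ := by group
        _ = x⁻¹ := by rw [this]
    calc (h * a * h⁻¹) * x * (h * a * h⁻¹)⁻¹ * x⁻¹ = h * a * (h⁻¹ * x * h) * (a : G)⁻¹ * h⁻¹ * x⁻¹ := by group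
      _ = h * (a * x * (a : G)⁻¹ * x⁻¹) * h⁻¹ * (h * x * h⁻¹) * x⁻¹ := by rw [hx']; group
      _ = h * c * h⁻¹ := by rw [← hcd, hx]; group
  have e2 : b * x * b⁻¹ * x⁻¹ = (a : G)⁻¹ * (h * c * h⁻¹ * (x * a * x⁻¹)) := by
    calc b * x * b⁻¹ * x⁻¹ = (a : G)⁻¹ * (((h * a * h⁻¹) * x * (h * a * h⁻¹)⁻¹ * x⁻¹) * (x * a * x⁻¹)) := by
          rw [hba]; group
      _ = _ := by rw [e1]
  have e3 : (a : G)⁻¹ * (c * (x * a * x⁻¹)) = 1 := by rw [hcd]; group
  obtain ⟨d, hd⟩ : ∃ d, d = (a : G)⁻¹ := ⟨_, rfl⟩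
  have e4 : b * x * b⁻¹ * x⁻¹ = (x * d * x⁻¹) * (c⁻¹ * (h * c * h⁻¹)) * (x * d * x⁻¹)⁻¹ := by
    have e6 : d = (x * d * x⁻¹) * c⁻¹ := by rw [hcd, hd]; group
    rw [e2, ← hd]
    calc d * (h * c * h⁻¹ * (x * a * x⁻¹)) =
        ((x * d * x⁻¹) * c⁻¹) * (h * c * h⁻¹ * (x * a * x⁻¹)) := by rw [← e6]
      _ = _ := by rw [hd]; group
  rw [e4]
  have hr := hc a a.2
  rw [← hcd] at hr
  have hxi : ∀ r ∈ R, x⁻¹ * r * x ∈ R := by
    intro r hr
    have hinj : Function.Injective (fun r : R => (⟨x * r * x⁻¹, hRx r r.2⟩ : R)) := by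
      intro a b hab
      have e : x * (a : G) * x⁻¹ = x * b * x⁻¹ := congrArg Subtype.val hab
      exact Subtype.ext (mul_left_cancel (mul_right_cancel e))
    obtain ⟨s, hs⟩ := Finite.surjective_of_injective hinj ⟨r, hr⟩
    have e : x * (s : G) * x⁻¹ = r := congrArg Subtype.val hs
    rw [← e]
    have : x⁻¹ * (x * (s : G) * x⁻¹) * x = s := by group
    rw [this]; exact s.2
  have hdB : d ∈ B := by rw [hd]; exact inv_mem a.2
  have h2 := hRx _ (hRB d hdB _ (hxi _ hr))
  have e7 : x * (d * (x⁻¹ * (c⁻¹ * (h * c * h⁻¹)) * x) * d⁻¹) * x⁻¹ =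
      (x * d * x⁻¹) * (c⁻¹ * (h * c * h⁻¹)) * (x * d * x⁻¹)⁻¹ := by group
  rwa [e7] at h2


/-- the variant without normalisation: `a` commutes with `h`, `B ≤ R` -/
theorem kill' [Finite G] {B R : Subgroup G} {h a : G} (hB : ∀ b ∈ B, h * b * h⁻¹ ∈ B)
    (h1 : ∀ b ∈ B, h * b * h⁻¹ = b → b = 1) (ha : h * a = a * h) (hBR : B ≤ R)
    (hc : ∀ b ∈ B, (a * b * a⁻¹ * b⁻¹)⁻¹ * (h * (a * b * a⁻¹ * b⁻¹) * h⁻¹) ∈ R) :
    ∀ b ∈ B, a * b * a⁻¹ ∈ R := by
  let f : B → B := fun b => ⟨(b : G)⁻¹ * (h * b * h⁻¹), mul_mem (inv_mem b.2) (hB b b.2)⟩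
  have hinj : Function.Injective f := by
    intro a b hab
    have e : (a : G)⁻¹ * (h * a * h⁻¹) = (b : G)⁻¹ * (h * b * h⁻¹) := congrArg Subtype.val hab
    have e2 : h * ((b : G) * (a : G)⁻¹) * h⁻¹ = (b : G) * (a : G)⁻¹ := by
      calc h * ((b : G) * (a : G)⁻¹) * h⁻¹ = b * ((b : G)⁻¹ * (h * b * h⁻¹)) * (h * a * h⁻¹)⁻¹ := by group
        _ = b * ((a : G)⁻¹ * (h * a * h⁻¹)) * (h * a * h⁻¹)⁻¹ := by rw [e]
        _ = (b : G) * (a : G)⁻¹ := by group
    have e3 := h1 _ (mul_mem b.2 (inv_mem a.2)) e2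
    exact Subtype.ext (mul_inv_eq_one.1 e3).symm
  have hsurj : Function.Surjective f := Finite.surjective_of_injective hinj
  intro b hb
  obtain ⟨b0, hb0⟩ := hsurj ⟨b, hb⟩
  have hba : b = (b0 : G)⁻¹ * (h * b0 * h⁻¹) := (congrArg Subtype.val hb0).symm
  have e1 : h * (a * b0 * a⁻¹ * (b0 : G)⁻¹) * h⁻¹ = a * (h * b0 * h⁻¹) * a⁻¹ * (h * b0 * h⁻¹)⁻¹ := by
    have e2 : h * a * h⁻¹ = a := by rw [ha, mul_inv_cancel_right]
    calc h * (a * b0 * a⁻¹ * (b0 : G)⁻¹) * h⁻¹ =
        (h * a * h⁻¹) * (h * b0 * h⁻¹) * (h * a * h⁻¹)⁻¹ * (h * b0 * h⁻¹)⁻¹ := by group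
      _ = _ := by rw [e2]
  have e3 : a * b * a⁻¹ = (b0 : G)⁻¹ * ((a * b0 * a⁻¹ * (b0 : G)⁻¹)⁻¹ * (h * (a * b0 * a⁻¹ * (b0 : G)⁻¹) * h⁻¹)) *
      (h * b0 * h⁻¹) := by
    rw [e1, hba]; group
  rw [e3]
  exact R.mul_mem (R.mul_mem (inv_mem (hBR b0.2)) (hc b0 b0.2)) (hBR (hB b0 b0.2))


/-! ### commutators modulo `R` -/

theorem nm {R : Subgroup G} {a : G} (ha : a ∈ Subgroup.normalizer (R : Set G)) {r : G} (hr : r ∈ R) :
    a * r * a⁻¹ ∈ R := (Subgroup.mem_normalizer_iff.1 ha r).1 hr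

theorem nm' {R : Subgroup G} {a : G} (ha : a ∈ Subgroup.normalizer (R : Set G)) {r : G} (hr : r ∈ R) :
    a⁻¹ * r * a ∈ R := by
  have := nm (inv_mem ha) hr
  rwa [inv_inv] at this

theorem comm_nm {R : Subgroup G} {a b : G} (ha : a ∈ Subgroup.normalizer (R : Set G))
    (hb : b ∈ Subgroup.normalizer (R : Set G)) : a * b * a⁻¹ * b⁻¹ ∈ Subgroup.normalizer (R : Set G) :=
  mul_mem (mul_mem (mul_mem ha hb) (inv_mem ha)) (inv_mem hb)

/-- `τ ⁅a, b⁆ ∈ ⁅a, b⁆ R` -/
theorem tau_comm {τ : G →* G} {R : Subgroup G} {a b a' b' : G} (ha : τ a = a * a') (hb : τ b = b * b')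
    (hRa : a ∈ Subgroup.normalizer (R : Set G)) (hRb : b ∈ Subgroup.normalizer (R : Set G))
    (h1 : a' * b * a'⁻¹ * b⁻¹ ∈ R) (h2 : a * b' * a⁻¹ * b'⁻¹ ∈ R) (h3 : a' * b' * a'⁻¹ * b'⁻¹ ∈ R) :
    (a * b * a⁻¹ * b⁻¹)⁻¹ * τ (a * b * a⁻¹ * b⁻¹) ∈ R := by
  obtain ⟨c, hc⟩ : ∃ c, c = a * b * a⁻¹ * b⁻¹ := ⟨_, rfl⟩
  have hcn : c ∈ Subgroup.normalizer (R : Set G) := hc ▸ comm_nm hRa hRb
  obtain ⟨u, hu⟩ : ∃ u, u = a' * b * a'⁻¹ * b⁻¹ := ⟨_, rfl⟩
  obtain ⟨v, hv⟩ : ∃ v, v = a' * b' * a'⁻¹ * b'⁻¹ := ⟨_, rfl⟩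
  obtain ⟨w, hw⟩ : ∃ w, w = a * b' * a⁻¹ * b'⁻¹ := ⟨_, rfl⟩
  have e : τ (a * b * a⁻¹ * b⁻¹) = (a * (u * (b * v * b⁻¹)) * a⁻¹) * c * (b * w * b⁻¹) := by
    simp only [map_mul, map_inv, ha, hb]
    rw [hu, hv, hw, hc]; group
  have m1 : a * (u * (b * v * b⁻¹)) * a⁻¹ ∈ R :=
    nm hRa (R.mul_mem (hu ▸ h1) (nm hRb (hv ▸ h3)))
  have m2 : b * w * b⁻¹ ∈ R := nm hRb (hw ▸ h2)
  rw [e, ← hc]
  have e2 : c⁻¹ * ((a * (u * (b * v * b⁻¹)) * a⁻¹) * c * (b * w * b⁻¹)) =
      (c⁻¹ * (a * (u * (b * v * b⁻¹)) * a⁻¹) * c) * (b * w * b⁻¹) := by group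
  rw [e2]
  exact R.mul_mem (nm' hcn m1) m2

/-- an element commuting with `a` and `b` commutes with `⁅a, b⁆` -/
theorem comm_comm {a b y : G} (ha : a * y = y * a) (hb : b * y = y * b) :
    (a * b * a⁻¹ * b⁻¹) * y = y * (a * b * a⁻¹ * b⁻¹) := by
  have ha' : a⁻¹ * y = y * a⁻¹ := by
    rw [inv_mul_eq_iff_eq_mul, ← mul_assoc, ha, mul_assoc, mul_inv_cancel, mul_one]
  have hb' : b⁻¹ * y = y * b⁻¹ := by
    rw [inv_mul_eq_iff_eq_mul, ← mul_assoc, hb, mul_assoc, mul_inv_cancel, mul_one]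
  calc (a * b * a⁻¹ * b⁻¹) * y = a * b * a⁻¹ * (b⁻¹ * y) := by group
    _ = a * b * (a⁻¹ * y) * b⁻¹ := by rw [hb']; group
    _ = a * (b * y) * a⁻¹ * b⁻¹ := by rw [ha']; group
    _ = (a * y) * b * a⁻¹ * b⁻¹ := by rw [hb]; group
    _ = y * (a * b * a⁻¹ * b⁻¹) := by rw [ha]; group

theorem comm_inv {a y : G} (ha : a * y = y * a) : a⁻¹ * y = y * a⁻¹ := by
  rw [inv_mul_eq_iff_eq_mul, ← mul_assoc, ha, mul_assoc, mul_inv_cancel, mul_one]

theorem comm_mul {a b y : G} (ha : a * y = y * a) (hb : b * y = y * b) : a * b * y = y * (a * b) := by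
  rw [mul_assoc, hb, ← mul_assoc, ha, mul_assoc]

theorem comm_of_mul {a b y : G} (hab : a * b * y = y * (a * b)) (ha : a * y = y * a) : b * y = y * b := by
  have := comm_mul (comm_inv ha) hab
  rwa [inv_mul_cancel_left] at this

/-- if `y` commutes with `b`, `⁅a, y⁻¹⁆`-type: `a ^ y = a g`, `g` commuting with `b` and `⁅a, b⁆`, then `y` commutes with
`⁅a, b⁆` -/
theorem comm_comm_left {a b y g : G} (ha : y * a * y⁻¹ = a * g) (hb : b * y = y * b) (hgb : g * b = b * g) :
    (a * b * a⁻¹ * b⁻¹) * y = y * (a * b * a⁻¹ * b⁻¹) := by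
  have e : y * (a * b * a⁻¹ * b⁻¹) * y⁻¹ = a * b * a⁻¹ * b⁻¹ := by
    have hb1 : y * b * y⁻¹ = b := by rw [← hb, mul_inv_cancel_right]
    calc y * (a * b * a⁻¹ * b⁻¹) * y⁻¹ = (y * a * y⁻¹) * (y * b * y⁻¹) * (y * a * y⁻¹)⁻¹ * (y * b * y⁻¹)⁻¹ := by group
      _ = a * (g * b) * g⁻¹ * a⁻¹ * b⁻¹ := by rw [ha, hb1]; group
      _ = a * b * a⁻¹ * b⁻¹ := by rw [hgb]; group
  calc (a * b * a⁻¹ * b⁻¹) * y = (y * (a * b * a⁻¹ * b⁻¹) * y⁻¹) * y := by rw [e]
    _ = _ := by group

theorem comm_comm_right {a b y g : G} (hb : y * b * y⁻¹ = b * g) (ha : a * y = y * a) (hga : g * a = a * g) :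
    (a * b * a⁻¹ * b⁻¹) * y = y * (a * b * a⁻¹ * b⁻¹) := by
  have h := comm_inv (comm_comm_left hb ha hga)
  have e : (b * a * b⁻¹ * a⁻¹)⁻¹ = a * b * a⁻¹ * b⁻¹ := by group
  rwa [e] at h

/-- fixed point free action of `h` on doubles -/
theorem free_of_brk {τ : G →* G} {B X : Subgroup G} {h : G} (hτ : τ h = h) (h1 : ∀ x ∈ X, h * x * h⁻¹ = x → x = 1)
    (hfix : ∀ b ∈ B, τ b = b → b ∈ X) (hB : ∀ b ∈ B, h * b * h⁻¹ = b → h * (b⁻¹ * τ b) * h⁻¹ = b⁻¹ * τ b →
      b⁻¹ * τ b = 1) : ∀ b ∈ B, h * b * h⁻¹ = b → b = 1 := by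
  intro b hb hbh
  have e : h * (b⁻¹ * τ b) * h⁻¹ = b⁻¹ * τ b := by
    have e1 : h * τ b * h⁻¹ = τ b := by
      have := congrArg τ hbh
      rwa [map_mul, map_mul, map_inv, hτ] at this
    calc h * (b⁻¹ * τ b) * h⁻¹ = (h * b * h⁻¹)⁻¹ * (h * τ b * h⁻¹) := by group
      _ = b⁻¹ * τ b := by rw [hbh, e1]
  have h2 := hB b hb hbh e
  have h3 : τ b = b := (inv_mul_eq_one.1 h2).symm
  exact h1 b (hfix b hb h3) hbh

end Cfsg.Agent.OddHalf.D7TwF4.Growth.Tools
end

-- part: OddHalf/D7TwF4/Growth/Frame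
section
/-!
# Growth for `²F₄(q)`: changing the position (helper702)
-/

set_option autoImplicit false
set_option linter.unusedVariables false

namespace Cfsg.Agent.OddHalf.D7TwF4.Growth.Frame

open Cfsg.Agent.OddHalf.D7TwF4.Growth.Defs Cfsg.Agent.OddHalf.D7TwF4.Growth.Tools

variable {G : Type*} [Group G]

/-- the family in the position `k ↦ 2 c + e k` -/
def F (c e : ℤ) (X : ℤ → Subgroup G) : ℤ → Subgroup G := fun k => X (2 * c + e * k)

theorem F_F (c e c' e' : ℤ) (X : ℤ → Subgroup G) : F c' e' (F c e X) = F (c + e * c') (e * e') X := by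
  funext k
  show X (2 * c + e * (2 * c' + e' * k)) = X (2 * (c + e * c') + e * e' * k)
  congr 1; ring

theorem F_id (X : ℤ → Subgroup G) : F 0 1 X = X := by
  funext k
  show X (2 * 0 + 1 * k) = X k
  congr 1; ring

theorem gen {τ : G →* G} {X Y W T : ℤ → Subgroup G} (h : Gen τ X Y W T) {c e : ℤ} (he : e = 1 ∨ e = -1) :
    Gen τ (F c e X) (F c e Y) (F c e W) (F c e T) where
  tt := h.tt
  tX i := h.tX _
  tT i := h.tT _
  YX i := h.YX _
  Yo i := by
    show Y (2 * c + e * (2 * i + 1)) = X (2 * c + e * (2 * i + 1))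
    rcases he with rfl | rfl
    · have : 2 * c + 1 * (2 * i + 1) = 2 * (c + i) + 1 := by ring
      rw [this]; exact h.Yo _
    · have : 2 * c + (-1) * (2 * i + 1) = 2 * (c - i - 1) + 1 := by ring
      rw [this]; exact h.Yo _
  YW i := h.YW _
  Wab i := h.Wab _
  Wsq i := h.Wsq _
  Wt i := h.Wt _
  Wf i := h.Wf _
  Ws i := h.Ws _
  TX i j := h.TX _ _
  TY i j := h.TY _ _
  TW i j := h.TW _ _
  TT i j := h.TT _ _
  TXc i := h.TXc _
  TWc i := h.TWc _
  Todd i := h.Todd _
  hf i j hij := h.hf _ _ (by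
    rcases he with rfl | rfl
    · have e1 : 2 * c + 1 * j - (2 * c + 1 * i) = j - i := by ring
      rw [e1]; exact hij
    · have e1 : 2 * c + (-1) * j - (2 * c + (-1) * i) = -(j - i) := by ring
      rw [e1, dvd_neg]; exact hij)

theorem inp {τ : G →* G} {X Y W T : ℤ → Subgroup G} (h : Inp τ X Y W T) (c : ℤ) {e : ℤ} (he : e = 1 ∨ e = -1) :
    Inp τ (F c e X) (F c e Y) (F c e W) (F c e T) where
  toGen := gen h.toGen he
  fr c' e' he' := by
    have h1 := h.fr (c + e * c') (e * e') (by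
      rcases he with rfl | rfl <;> rcases he' with rfl | rfl <;> norm_num)
    have e1 : ∀ X : ℤ → Subgroup G, (fun k => F c e X (2 * c' + e' * k)) =
        fun k => X (2 * (c + e * c') + e * e' * k) := fun X => F_F c e c' e' X
    rw [e1, e1, e1, e1]
    exact h1

theorem base {τ : G →* G} {X Y W T : ℤ → Subgroup G} (h : Inp τ X Y W T) : Base τ X Y W T := by
  have h1 := h.fr 0 1 (Or.inl rfl)
  have e1 : ∀ X : ℤ → Subgroup G, (fun k => X (2 * 0 + 1 * k)) = X := F_id
  rwa [e1, e1, e1, e1] at h1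

/-- the reflection `k ↦ -k` -/
theorem neg {τ : G →* G} {X Y W T : ℤ → Subgroup G} (h : Inp τ X Y W T) :
    Inp τ (F 0 (-1) X) (F 0 (-1) Y) (F 0 (-1) W) (F 0 (-1) T) := inp h 0 (Or.inr rfl)

/-- the shift `k ↦ 2 c + k` -/
theorem sh {τ : G →* G} {X Y W T : ℤ → Subgroup G} (h : Inp τ X Y W T) (c : ℤ) :
    Inp τ (F c 1 X) (F c 1 Y) (F c 1 W) (F c 1 T) := inp h c (Or.inl rfl)

/-- the reflection `k ↦ 2 c - k` -/
theorem rf {τ : G →* G} {X Y W T : ℤ → Subgroup G} (h : Inp τ X Y W T) (c : ℤ) :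
    Inp τ (F c (-1) X) (F c (-1) Y) (F c (-1) W) (F c (-1) T) := inp h c (Or.inr rfl)

end Cfsg.Agent.OddHalf.D7TwF4.Growth.Frame
end
end

-- part: OddHalf/Quat/NoThreeE
section
set_option linter.all false
open scoped Cfsg.Agent.FastGrp

/-!
# Node Q: `NoThree` for `F₄(2)`, `E₆(2)`, `E₇(2)`, `E₈(2)`

* `noThree_of_pow` : enough: every automorphism has a power prime to 3 which is inner;
* `exists_pow_inn` : root group datum with `|X_{α_i}| = 2`: `α ^ m` is inner if `σ ^ m = 1` for every diagram symmetry;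
* `chev` : the Chevalley groups over the field of order 2.
-/

set_option autoImplicit false
set_option linter.unusedSectionVars false

namespace Cfsg.Agent.OddHalf.Quat.NoThreeE

open CoxeterSystem Cfsg.Agent.ChevalleyStructure.CoxeterGeom Cfsg.Agent.Tits.Roots Cfsg.Agent.Tits.Core
  Cfsg.Agent.Tits.Exchange Cfsg.Agent.Nodes.Reps Cfsg.Agent.Nodes.BNOf Cfsg.Agent.Nodes.StabComb
  Cfsg.Agent.Nodes.Bruhat Cfsg.Agent.Nodes.OppDec Cfsg.Agent.Nodes.LeviDec Cfsg.Agent.Nodes.NormalForm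
  Cfsg.Agent.KFacts.RgdOpp Cfsg.Agent.KFacts.RgdAut Cfsg.Agent.KFacts.RgdDiag Cfsg.Agent.KFacts.RgdRigid
  Cfsg.Agent.KFacts.RgdEx

/-- enough: every automorphism has a power prime to `3` which is inner -/
theorem noThree_of_pow {K : Type*} [Group K] {m : ℕ} (hm : ¬ 3 ∣ m)
    (h : ∀ α : MulAut K, α ^ m ∈ (MulAut.conj : K →* MulAut K).range) : NoThree K := by
  intro α hα
  have h3 : α ^ 3 ∈ (MulAut.conj : K →* MulAut K).range := by
    rw [pow_three, ← mul_assoc]; exact hα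
  have h4 : Nat.gcd m 3 = 1 := by
    rw [Nat.gcd_comm]
    exact (Nat.Prime.coprime_iff_not_dvd Nat.prime_three).2 hm
  have h5 := Nat.gcd_eq_gcd_ab m 3
  rw [h4] at h5
  have h6 : α = (α ^ m) ^ (Nat.gcdA m 3) * (α ^ 3) ^ (Nat.gcdB m 3) := by
    conv_lhs => rw [← zpow_one α]
    rw [← zpow_natCast α m, ← zpow_natCast α 3, ← zpow_mul, ← zpow_mul, ← zpow_add, ← h5]
    rfl
  rw [h6]
  exact mul_mem (zpow_mem (h α) _) (zpow_mem h3 _)

/-- transport -/
theorem noThree_of_equiv {K L : Type*} [Group K] [Group L] (e : K ≃* L) (h : NoThree L) : NoThree K := by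
  intro α hα
  obtain ⟨g, hg⟩ := hα
  have h1 : (MulAut.congr e α) * (MulAut.congr e α) * (MulAut.congr e α) ∈ (MulAut.conj : L →* MulAut L).range := by
    refine ⟨e g, ?_⟩
    rw [← map_mul, ← map_mul, ← hg]
    ext x
    simp [MulAut.congr]
  obtain ⟨y, hy⟩ := h _ h1
  refine ⟨e.symm y, ?_⟩
  ext x
  have h2 := congrArg (fun β => e.symm (β (e x))) hy
  simpa [MulAut.congr] using h2

section rgd

variable {I W Y : Type*} [Fintype I] [DecidableEq I] [Group W] [Group Y] {M : CoxeterMatrix I}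
  {cs : CoxeterSystem M W} {A : I → I → ℤ} {h : IsCartan M A} {p : ℕ} {T : Subgroup Y} {n : I → Y}
  {X : (I → ℤ) → Subgroup Y}

theorem exists_syl (R : RGD cs h p T n X) [Finite W] [Finite Y] [Fact p.Prime] (hG : GG cs h T X = ⊤) :
    ∃ S : Sylow p Y, (S : Subgroup Y) = RGD.Sup X (RGD.Pos cs h) := by
  have hU : IsPGroup p (RGD.Sup X (RGD.Pos cs h)) := R.isPGroup_Upos
  obtain ⟨S, hS⟩ := hU.exists_le_sylow
  exact ⟨S, eq_U R hS (by rw [hG]; exact le_top) S.isPGroup'⟩

theorem exists_pow_inn (R : RGD cs h p T n X) [Finite W] [Finite Y] [Fact p.Prime]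
    (hG1 : RGD.Sup X {x | IsRoot cs h x} = ⊤)
    (hcard : ∀ i, ∀ x ∈ X (sr i), ∀ y ∈ X (sr i), x ≠ 1 → y ≠ 1 → x = y) {m : ℕ}
    (hM : ∀ σ : Equiv.Perm I, (∀ i j, M (σ i) (σ j) = M i j) → σ ^ m = 1) (α : MulAut Y) :
    α ^ m ∈ (MulAut.conj : Y →* MulAut Y).range := by
  have hG : GG cs h T X = ⊤ := GG_eq_top hG1
  have hn := NoThreeL.normal_inn (K := Y)
  -- make `α` fix `U`
  obtain ⟨S, hS⟩ := exists_syl R hG
  obtain ⟨g, hg⟩ := MulAction.exists_smul_eq Y (α • S) S
  have hU : Fix (MulAut.conj g * α) (RGD.Sup X (RGD.Pos cs h)) := by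
    rw [fix_iff, ← hS]
    have h1 := congrArg (fun P : Sylow p Y => (P : Subgroup Y)) hg
    have h2 : ((g • (α • S) : Sylow p Y) : Subgroup Y) =
        ((S : Subgroup Y)).map (MulAut.conj g * α).toMonoidHom := by
      ext x
      constructor
      · rintro ⟨_, ⟨y, hy, rfl⟩, rfl⟩
        exact ⟨y, hy, rfl⟩
      · rintro ⟨y, hy, rfl⟩
        exact ⟨_, ⟨y, hy, rfl⟩, rfl⟩
    rw [← h2]; exact h1
  obtain ⟨u, hu, hU', -, hUN, -, -⟩ := exists_frame R hG hU
  obtain ⟨σ, D⟩ := exists_diag R hG hU' hUN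
  set β := MulAut.conj u * (MulAut.conj g * α) with hβ
  have hσ : σ ^ m = 1 := hM σ fun i j => Diag.matrix R D i j
  have D' : Diag T X (β ^ m) 1 := by rw [← hσ]; exact D.pow m
  have h1 : β ^ m = 1 := by
    apply Diag.eq_one R hG1 D'
    intro i x hx
    by_cases hx1 : x = 1
    · rw [hx1, map_one]
    · apply hcard i _ ((D'.pos i x).2 hx) _ hx _ hx1
      intro h2
      exact hx1 ((β ^ m).injective (by rw [h2, map_one]))
  -- modulo inner automorphisms
  have h2 : ((α : MulAut Y) : MulAut Y ⧸ (MulAut.conj : Y →* MulAut Y).range) = (β : MulAut Y) := by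
    have e1 : ∀ y : Y, ((MulAut.conj y : MulAut Y) : MulAut Y ⧸ (MulAut.conj : Y →* MulAut Y).range) = 1 :=
      fun y => (QuotientGroup.eq_one_iff _).2 (MonoidHom.mem_range.2 ⟨y, rfl⟩)
    rw [hβ, QuotientGroup.mk_mul, QuotientGroup.mk_mul, e1, e1, one_mul, one_mul]
  rw [← QuotientGroup.eq_one_iff, QuotientGroup.mk_pow, h2, ← QuotientGroup.mk_pow, h1, QuotientGroup.mk_one]

end rgd

/-! ### diagram symmetries -/

/-- invariants with fibres of order at most 2 -/
theorem sq_eq_one_of_inv {l : ℕ} {σ : Equiv.Perm (Fin l)} (v : Fin l → ℕ) (hv : ∀ i, v (σ i) = v i)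
    (hf : ∀ i j k, v i = v j → v j = v k → i = j ∨ j = k ∨ i = k) : σ ^ 2 = 1 := by
  ext i
  rw [pow_two, Equiv.Perm.mul_apply, Equiv.Perm.one_apply]
  congr 1
  rcases hf i (σ i) (σ (σ i)) (hv i).symm (hv (σ i)).symm with h | h | h
  · rw [← h, ← h]
  · rw [← σ.injective h, ← σ.injective h]
  · exact h.symm

theorem inv_step {l : ℕ} {M : Fin l → Fin l → ℕ} {σ : Equiv.Perm (Fin l)} (hσ : ∀ i j, M (σ i) (σ j) = M i j)
    {v w : Fin l → ℕ} (hv : ∀ i, v (σ i) = v i) (h : ∀ i, w i = ∑ j, M i j * v j) (i : Fin l) : w (σ i) = w i := by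
  rw [h, h, ← Equiv.sum_comp σ]
  exact Finset.sum_congr rfl fun j _ => by rw [hσ, hv]

theorem sym_F4 (σ : Equiv.Perm (Fin 4)) (hσ : ∀ i j, CoxeterMatrix.F₄ (σ i) (σ j) = CoxeterMatrix.F₄ i j) :
    σ ^ 2 = 1 := by
  have h1 := inv_step (M := fun i j => CoxeterMatrix.F₄ i j) (σ := σ) hσ (v := fun _ => 1) (w := ![8, 10, 10, 8])
    (fun _ => rfl) (by decide +kernel)
  exact sq_eq_one_of_inv _ h1 (by decide +kernel)

theorem sym_E6 (σ : Equiv.Perm (Fin 6)) (hσ : ∀ i j, CoxeterMatrix.E₆ (σ i) (σ j) = CoxeterMatrix.E₆ i j) :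
    σ ^ 2 = 1 := by
  have h1 := inv_step (M := fun i j => CoxeterMatrix.E₆ i j) (σ := σ) hσ (v := fun _ => 1)
    (w := ![12, 12, 13, 14, 13, 12]) (fun _ => rfl) (by decide +kernel)
  have h2 := inv_step (M := fun i j => CoxeterMatrix.E₆ i j) (σ := σ) hσ h1
    (w := ![153, 154, 165, 176, 165, 153]) (by decide +kernel)
  exact sq_eq_one_of_inv _ h2 (by decide +kernel)

theorem sym_E7 (σ : Equiv.Perm (Fin 7)) (hσ : ∀ i j, CoxeterMatrix.E₇ (σ i) (σ j) = CoxeterMatrix.E₇ i j) :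
    σ ^ 2 = 1 := by
  have h1 := inv_step (M := fun i j => CoxeterMatrix.E₇ i j) (σ := σ) hσ (v := fun _ => 1)
    (w := ![14, 14, 15, 16, 15, 15, 14]) (fun _ => rfl) (by decide +kernel)
  have h2 := inv_step (M := fun i j => CoxeterMatrix.E₇ i j) (σ := σ) hσ h1
    (w := ![207, 208, 221, 234, 222, 220, 207]) (by decide +kernel)
  exact sq_eq_one_of_inv _ h2 (by decide +kernel)

theorem sym_E8 (σ : Equiv.Perm (Fin 8)) (hσ : ∀ i j, CoxeterMatrix.E₈ (σ i) (σ j) = CoxeterMatrix.E₈ i j) :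
    σ ^ 2 = 1 := by
  have h1 := inv_step (M := fun i j => CoxeterMatrix.E₈ i j) (σ := σ) hσ (v := fun _ => 1)
    (w := ![16, 16, 17, 18, 17, 17, 17, 16]) (fun _ => rfl) (by decide +kernel)
  have h2 := inv_step (M := fun i j => CoxeterMatrix.E₈ i j) (σ := σ) hσ h1
    (w := ![269, 270, 285, 300, 286, 285, 284, 269]) (by decide +kernel)
  exact sq_eq_one_of_inv _ h2 (by decide +kernel)

/-! ### the Chevalley groups over the field of order 2 -/

section chev

open Cfsg.Lie Cfsg.Agent.Nodes.RGDChev Cfsg.Agent.ChevalleyStructure Cfsg.Agent.ChevalleyStructure.Elts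

universe u

variable {D : ChevalleyDatum} {l : ℕ} {M : CoxeterMatrix (Fin l)} {F : Type u} [Field F] [Fintype F]

theorem chev (hp : IsType D l M) (hF : Fintype.card F = 2)
    (hM : ∀ σ : Equiv.Perm (Fin l), (∀ i j, M (σ i) (σ j) = M i j) → σ ^ 2 = 1) : NoThree ↥(D.group F) := by
  have h2 : Fact (Nat.Prime 2) := ⟨Nat.prime_two⟩
  have hc : CharP F 2 := charP_of_card_eq_prime_pow (f := 1) (by rw [hF, pow_one])
  have hfin := finite_W hp M.toCoxeterSystem
  classical
  have h01 : ∀ t : F, t = 0 ∨ t = 1 := by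
    intro t
    by_contra hcon
    push Not at hcon
    have h3 : ({0, 1, t} : Finset F).card = 3 := Finset.card_eq_three.2
      ⟨0, 1, t, zero_ne_one, Ne.symm hcon.1, Ne.symm hcon.2, rfl⟩
    have h4 := Finset.card_le_univ ({0, 1, t} : Finset F)
    omega
  refine noThree_of_pow (m := 2) (by norm_num) fun α =>
    exists_pow_inn (rgd (K := F) hp M.toCoxeterSystem 2) (G1_eq_top hp M.toCoxeterSystem) ?_ hM α
  intro i
  have key : ∀ x : ↥(D.group F), x ∈ (XV D l F (sr i)).subgroupOf (D.group F) → x ≠ 1 →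
      (x : GL D.Idx F) = xG hp.inList (D.simple i) 1 := by
    intro x hx hx1
    rw [Subgroup.mem_subgroupOf, XV_sr hp, mem_rootSubgroup_iff hp.inList] at hx
    obtain ⟨t, ht⟩ := hx
    rcases h01 t with rfl | rfl
    · exfalso
      apply hx1
      apply Subtype.ext
      rw [ht, xG_zero]
      rfl
    · exact ht
  intro x hx y hy hx1 hy1
  exact Subtype.ext ((key x hx hx1).trans (key y hy hy1).symm)

theorem f4 (hF : Fintype.card F = 2) {K : Type*} [Group K] (e : K ≃* ↥(chevF4.group F)) : NoThree K :=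
  noThree_of_equiv e (chev (M := CoxeterMatrix.F₄) (by simp [IsType, typeList]) hF sym_F4)

theorem e6 (hF : Fintype.card F = 2) {K : Type*} [Group K] (e : K ≃* ↥(chevE6.group F)) : NoThree K :=
  noThree_of_equiv e (chev (M := CoxeterMatrix.E₆) (by simp [IsType, typeList]) hF sym_E6)

theorem e7 (hF : Fintype.card F = 2) {K : Type*} [Group K] (e : K ≃* ↥(chevE7.group F)) : NoThree K :=
  noThree_of_equiv e (chev (M := CoxeterMatrix.E₇) (by simp [IsType, typeList]) hF sym_E7)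

theorem e8 (hF : Fintype.card F = 2) {K : Type*} [Group K] (e : K ≃* ↥(chevE8.group F)) : NoThree K :=
  noThree_of_equiv e (chev (M := CoxeterMatrix.E₈) (by simp [IsType, typeList]) hF sym_E8)

end chev

end Cfsg.Agent.OddHalf.Quat.NoThreeE
end

-- part: OddHalf/DblR/CoreOf
section
set_option linter.all false
open scoped Cfsg.Agent.FastGrp

/-!
# ODD, D4: perfect subgroups of the centraliser of a Sylow 2-subgroup

`FTu` : the odd order theorem. `core_of` : `Q` a Sylow 2-subgroup of `D`, `P ≤ D` perfect, `[P, Q] = 1` ⇒ `P = 1`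
(field `core` of `D4.Input.Inp`).
-/

set_option autoImplicit false

namespace Cfsg.Agent.OddHalf.DblR.CoreOf

open Subgroup Cfsg.Agent.OddHalf.D4.Basic
open scoped commutatorElement

universe u

/-- the odd order theorem -/
def FTu : Prop := ∀ (H : Type u) [Group H] [Finite H], Odd (Nat.card H) → Group.IsSolvable H

/-- a solvable perfect subgroup is trivial -/
theorem eq_bot_of_solvable {G : Type*} [Group G] {P : Subgroup G} (hs : Group.IsSolvable ↥P) (h : P ≤ ⁅P, P⁆) :
    P = ⊥ := by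
  by_contra hne
  have hnt : Nontrivial ↥P := (Subgroup.nontrivial_iff_ne_bot P).2 hne
  have h1 := Group.IsSolvable.commutator_lt_top_of_nontrivial ↥P
  apply h1.ne
  rw [eq_top_iff]
  intro y _
  have h2 := h y.2
  have h3 : (commutator ↥P).map P.subtype = ⁅P, P⁆ := by
    rw [commutator_def, Subgroup.map_commutator, ← MonoidHom.range_eq_map, Subgroup.range_subtype]
  rw [← h3] at h2
  obtain ⟨z, hz, e⟩ := h2
  have : z = y := Subtype.ext e
  rwa [← this]

/-- a perfect 2-group is trivial -/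
theorem eq_bot_of_two {G : Type*} [Group G] [Finite G] {P : Subgroup G} (hP : IsPGroup 2 ↥P) (h : P ≤ ⁅P, P⁆) :
    P = ⊥ := by
  have : Fact (Nat.Prime 2) := ⟨Nat.prime_two⟩
  have h1 : Group.IsNilpotent ↥P := hP.isNilpotent
  exact eq_bot_of_solvable inferInstance h

theorem core_of {G : Type u} [Group G] [Finite G] (hFT : FTu.{u}) {D Q : Subgroup G} (hQ : IsSyl Q D)
    {P : Subgroup G} (hP : P ≤ D) (hc : ∀ x ∈ P, ∀ q ∈ Q, x * q = q * x) (hp : P ≤ ⁅P, P⁆) : P = ⊥ := by
  have h2 : Fact (Nat.Prime 2) := ⟨Nat.prime_two⟩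
  -- `P ∩ Q` is a Sylow 2-subgroup of `P`
  have hT : IsSyl (Q ⊓ P) P := by
    refine ⟨hQ.two.to_le inf_le_left, inf_le_right, ?_⟩
    intro R hR _ hRP
    refine le_inf ?_ hRP
    have h3 : IsPGroup 2 ↥(Q ⊔ R : Subgroup G) := by
      apply IsPGroup.to_sup_of_normal_left' hQ.two hR
      intro r hr
      rw [mem_normalizer_iff]
      intro q
      have h4 := hc r (hRP hr)
      constructor
      · intro hq
        rw [h4 q hq, mul_inv_cancel_right]
        exact hq
      · intro hq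
        have h5 := h4 _ hq
        have e : q = r * q * r⁻¹ := by
          calc q = r⁻¹ * (r * q * r⁻¹) * r := by group
            _ = r⁻¹ * (r * (r * q * r⁻¹)) := by rw [h5]; group
            _ = _ := by group
        rw [e]; exact hq
    exact le_sup_right.trans (hQ.max _ h3 le_sup_left (sup_le hQ.le (hRP.trans hP)))
  obtain ⟨S, hS⟩ := hT.toSylow
  -- it is central
  have hn : ((Q ⊓ P).subgroupOf P).Normal := by
    refine ⟨fun n hn g => ?_⟩
    rw [mem_subgroupOf] at hn ⊢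
    have h4 := hc g g.2 n hn.1
    have e : ((g * n * g⁻¹ : ↥P) : G) = n := by
      change (g : G) * n * (g : G)⁻¹ = n
      rw [h4, mul_inv_cancel_right]
    rw [e]; exact hn
  have hodd : Odd (Nat.card (↥P ⧸ (Q ⊓ P).subgroupOf P)) := by
    rw [← Nat.not_even_iff_odd, even_iff_two_dvd]
    have := S.not_dvd_index
    rw [hS] at this
    exact this
  have s1 : Group.IsSolvable (↥P ⧸ (Q ⊓ P).subgroupOf P) := hFT _ hodd
  have s2 : Group.IsSolvable ↥((Q ⊓ P).subgroupOf P) := by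
    rw [← hS]
    have h1 : Group.IsNilpotent ↥(S : Subgroup ↥P) := S.2.isNilpotent
    infer_instance
  exact eq_bot_of_solvable ((Group.isSolvable_iff_subgroup_quotient _).2 ⟨s2, s1⟩) hp

end Cfsg.Agent.OddHalf.DblR.CoreOf
end

-- part: OddHalf/D9/OuterOf
section
set_option linter.all false
open scoped Cfsg.Agent.FastGrp

/-!
# D9: fact (II) of the kill from facts on the simple quotient; transfer of the facts along isomorphisms

`outer_of`: `π : K → S` surjective with kernel `Z(K) = {1, z}`, `K` perfect, `w ∈ S` such that the preimages of `w` have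
square `z`. If every outer involutory automorphism of `S` fixes the elements of a perfect subgroup containing a
conjugate of `w`, and `z ∈ Pr (C_K(v))` for all `v` with `v ^ 2 = z`, then `Outer z`.
-/

set_option autoImplicit false

namespace Cfsg.Agent.OddHalf.D9.OuterOf

open Subgroup Cfsg.Agent.OddHalf.D9.Kill
open scoped commutatorElement

universe u v

/-! ### Central extensions -/

section Ext

variable {K : Type u} {S : Type v} [Group K] [Group S]

theorem comm_central {a b c d : K} (hc : ∀ y, c * y = y * c) (hd : ∀ y, d * y = y * d) :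
    ⁅a * c, b * d⁆ = ⁅a, b⁆ := by
  have h1 : a * c * (b * d) = a * b * (c * d) := by
    calc a * c * (b * d) = a * (c * b) * d := by group
      _ = a * (b * c) * d := by rw [hc b]
      _ = a * b * (c * d) := by group
  have h2 : b * d * (a * c) = b * a * (c * d) := by
    calc b * d * (a * c) = b * (d * a) * c := by group
      _ = b * (a * d) * c := by rw [hd a]
      _ = b * a * (d * c) := by group
      _ = _ := by rw [hd c]
  calc ⁅a * c, b * d⁆ = a * c * (b * d) * (b * d * (a * c))⁻¹ := by rw [commutatorElement_def]; group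
    _ = a * b * (c * d) * (b * a * (c * d))⁻¹ := by rw [h1, h2]
    _ = ⁅a, b⁆ := by rw [commutatorElement_def]; group

/-- The derived subgroup of the preimage of a perfect subgroup under a central extension is perfect, with image the
subgroup. -/
theorem exists_perfect_lift (π : K →* S) (hπ : Function.Surjective π) (hc : ∀ k, π k = 1 → ∀ y, k * y = y * k)
    {X : Subgroup S} (hX : ⁅X, X⁆ = X) : ∃ D : Subgroup K, ⁅D, D⁆ = D ∧ D.map π = X := by
  have hN : (X.comap π).map π = X := map_comap_eq_self_of_surjective hπ X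
  have h1 : (⁅X.comap π, X.comap π⁆).map π = X := by rw [map_commutator, hN, hX]
  refine ⟨⁅X.comap π, X.comap π⁆, ?_, h1⟩
  apply le_antisymm (commutator_le_self _)
  have key : ∀ a ∈ X.comap π, ∃ c, (∀ y, c * y = y * c) ∧ a * c ∈ ⁅X.comap π, X.comap π⁆ := by
    intro a ha
    have h2 : π a ∈ (⁅X.comap π, X.comap π⁆).map π := by rw [h1]; exact ha
    obtain ⟨d, hd, hda⟩ := h2
    refine ⟨a⁻¹ * d, hc _ ?_, ?_⟩
    · rw [map_mul, map_inv, hda, inv_mul_cancel]
    · rwa [mul_inv_cancel_left]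
  rw [commutator_le]
  intro a ha b hb
  obtain ⟨c, hcc, hac⟩ := key a ha
  obtain ⟨d, hdc, hbd⟩ := key b hb
  rw [← comm_central hcc hdc]
  exact commutator_mem_commutator hac hbd

/-- Two homomorphisms from a perfect group which agree modulo central elements are equal. -/
theorem eq_of_central {D : Subgroup K} (hD : ⁅D, D⁆ = D) (f g : K →* K)
    (h : ∀ x ∈ D, ∀ y, (g x)⁻¹ * f x * y = y * ((g x)⁻¹ * f x)) : ∀ x ∈ D, f x = g x := by
  have h1 : D ≤ f.eqLocus g := by
    conv_lhs => rw [← hD]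
    rw [commutator_le]
    intro a ha b hb
    change f ⁅a, b⁆ = g ⁅a, b⁆
    rw [map_commutatorElement, map_commutatorElement]
    have h2 := comm_central (a := g a) (b := g b) (h a ha) (h b hb)
    rwa [mul_inv_cancel_left, mul_inv_cancel_left] at h2
  exact fun x hx => h1 hx

end Ext

/-! ### Fact (II) -/

section Outer

variable {K : Type u} {S : Type v} [Group K] [Group S]

/-- the automorphism of the quotient -/
theorem exists_quo (π : K →* S) (hπ : Function.Surjective π) {α : MulAut K} (hα : ∀ k, π k = 1 ↔ π (α k) = 1) :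
    ∃ β : MulAut S, ∀ k, β (π k) = π (α k) := by
  have h1 : ∀ a b, π a = π b ↔ π (α a) = π (α b) := by
    intro a b
    rw [← inv_mul_eq_one, ← map_inv, ← map_mul, hα, map_mul, map_inv, map_mul, map_inv, inv_mul_eq_one]
  let s := Function.surjInv hπ
  have hs : ∀ x, π (s x) = x := Function.surjInv_eq hπ
  have h2 : ∀ k, π (α (s (π k))) = π (α k) := fun k => (h1 _ _).1 (hs _)
  let f : S →* S :=
    { toFun := fun x => π (α (s x))
      map_one' := by
        have := h2 1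
        rw [map_one, map_one, map_one] at this
        exact this
      map_mul' := fun x y => by
        have := h2 (s x * s y)
        rw [map_mul π, hs, hs, map_mul α, map_mul π] at this
        exact this }
  have hf : ∀ k, f (π k) = π (α k) := h2
  have hb : Function.Bijective f := by
    constructor
    · intro x y hxy
      obtain ⟨a, rfl⟩ := hπ x
      obtain ⟨b, rfl⟩ := hπ y
      rw [hf, hf] at hxy
      exact (h1 _ _).2 hxy
    · intro y
      obtain ⟨b, rfl⟩ := hπ y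
      refine ⟨π (α.symm b), ?_⟩
      rw [hf, MulEquiv.apply_symm_apply]
  exact ⟨MulEquiv.ofBijective f hb, hf⟩

/-- **Fact (II)** from the simple quotient. -/
theorem outer_of {z : K} (zz : z * z = 1) (z1 : z ≠ 1) (zc : ∀ y, z * y = y * z)
    (cen : ∀ x : K, (∀ y, x * y = y * x) → x = 1 ∨ x = z) (perf : commutator K = ⊤)
    (π : K →* S) (hπ : Function.Surjective π) (hker : ∀ k, π k = 1 ↔ k = 1 ∨ k = z)
    {w : S} (hw : ∀ k, π k = w → k * k = z)
    (out : ∀ β : MulAut S, β * β = 1 → (∀ s, β ≠ MulAut.conj s) →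
      ∃ X : Subgroup S, ⁅X, X⁆ = X ∧ (∀ x ∈ X, β x = x) ∧ ∃ g, g * w * g⁻¹ ∈ X)
    (inn : ∀ v : K, v * v = z → z ∈ Pr (Ce v)) : Outer z := by
  have hperf : ⁅(⊤ : Subgroup K), ⊤⁆ = ⊤ := perf
  have hkc : ∀ k, π k = 1 → ∀ y, k * y = y * k := by
    intro k hk y
    rcases (hker k).1 hk with rfl | rfl
    · rw [one_mul, mul_one]
    · exact zc y
  intro α hα2 _ hαf
  left
  have hαα : ∀ k, α (α k) = k := fun k => DFunLike.congr_fun hα2 k
  have hαz : α z = z := by
    rcases cen (α z) (fun y => by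
      have := congrArg α (zc (α.symm y))
      rwa [map_mul, map_mul, MulEquiv.apply_symm_apply] at this) with h | h
    · exact absurd ((map_eq_one_iff α α.injective).1 h) z1
    · exact h
  by_cases hin : ∃ v, α = MulAut.conj v
  · obtain ⟨v, rfl⟩ := hin
    rw [Fx_conj]
    apply inn
    rcases cen (v * v) (fun y => by
      have := hαα y
      rw [MulAut.conj_apply, MulAut.conj_apply] at this
      calc v * v * y = v * (v * y * v⁻¹) * v⁻¹ * (v * v) := by group
        _ = y * (v * v) := by rw [this]) with h | h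
    · exact absurd rfl (hαf v h)
    · exact h
  · push Not at hin
    obtain ⟨β, hβ⟩ := exists_quo π hπ (α := α) (fun k => by
      rw [hker, hker]
      constructor
      · rintro (rfl | rfl)
        · exact Or.inl (map_one α)
        · exact Or.inr hαz
      · rintro (h | h)
        · exact Or.inl ((map_eq_one_iff α α.injective).1 h)
        · exact Or.inr (α.injective (h.trans hαz.symm)))
    obtain ⟨X, hX, hβX, g, hg⟩ := out β (by
      ext x
      obtain ⟨k, rfl⟩ := hπ x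
      change β (β (π k)) = π k
      rw [hβ, hβ, hαα]) (by
      rintro s rfl
      obtain ⟨k, rfl⟩ := hπ s
      apply hin k
      have h1 := eq_of_central hperf α.toMonoidHom (MulAut.conj k).toMonoidHom (fun x _ => by
        apply hkc
        rw [map_mul, map_inv, inv_mul_eq_one]
        change π (k * x * k⁻¹) = π (α x)
        rw [← hβ x, MulAut.conj_apply, map_mul, map_mul, map_inv])
      ext x
      exact h1 x (mem_top x))
    obtain ⟨D, hD, hDX⟩ := exists_perfect_lift π hπ hkc hX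
    -- `α` fixes the elements of `D`
    have h1 := eq_of_central hD α.toMonoidHom (MonoidHom.id K) (fun x hx => by
      apply hkc
      rw [map_mul, map_inv, inv_mul_eq_one]
      change π x = π (α x)
      rw [← hβ, hβX _ (by rw [← hDX]; exact ⟨x, hx, rfl⟩)])
    have h2 : D ≤ Pr (Fx α) := le_Pr (fun x hx => h1 x hx) hD
    apply h2
    rw [← hDX] at hg
    obtain ⟨d, hd, hdg⟩ := hg
    obtain ⟨k, rfl⟩ := hπ g
    have h3 : (k⁻¹ * d * k) * (k⁻¹ * d * k) = z := by
      apply hw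
      rw [map_mul, map_mul, map_inv, hdg]
      group
    have h4 : d * d = z := by
      calc d * d = k * ((k⁻¹ * d * k) * (k⁻¹ * d * k)) * k⁻¹ := by group
        _ = z := by rw [h3, ← zc]; group
    rw [← h4]
    exact D.mul_mem hd hd

end Outer

/-! ### Transfer -/

section Transfer

variable {K : Type u} {L : Type v} [Group K] [Group L]

theorem map_Ce (e : K ≃* L) (f : K) : (Ce f).map e.toMonoidHom = Ce (e f) := by
  ext x
  constructor
  · rintro ⟨y, hy, rfl⟩
    change e y * e f = e f * e y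
    rw [← map_mul, ← map_mul]
    exact congrArg e hy
  · intro hx
    refine ⟨e.symm x, ?_, MulEquiv.apply_symm_apply e x⟩
    change e.symm x * f = f * e.symm x
    apply e.injective
    rw [map_mul, map_mul, MulEquiv.apply_symm_apply]
    exact hx

theorem map_Pr_Ce (e : K ≃* L) (f : K) : (Pr (Ce f)).map e.toMonoidHom = Pr (Ce (e f)) := by
  rw [map_Pr (f := e.toMonoidHom) e.injective, map_Ce]

theorem mem_Pr_Ce (e : K ≃* L) {x f : K} : e x ∈ Pr (Ce (e f)) ↔ x ∈ Pr (Ce f) := by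
  rw [← map_Pr_Ce]
  exact mem_map_iff_mem e.injective

/-- conjugation of an automorphism by an isomorphism -/
def tr (e : K ≃* L) (α : MulAut L) : MulAut K := (e.trans α).trans e.symm

theorem tr_apply (e : K ≃* L) (α : MulAut L) (k : K) : e (tr e α k) = α (e k) :=
  MulEquiv.apply_symm_apply e _

end Transfer

end Cfsg.Agent.OddHalf.D9.OuterOf
end
end
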